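import Cfsg.Agent.Lib.PSLFourThree.Defs
import Cfsg.Agent.Lib.AutPSL.Basic

/-!
# The abelian group of order 81 and the Levi factor in `PSL(4,3)`

* `pr_eq_iff`: the kernel of the projection
* `jHom`, `Jsub`: the unipotent radical of the middle parabolic, by `2 × 2` matrices
* `lev`, `lev_conj`: the Levi factor and its action
* `types`: the three types of nontrivial elements of `Jsub`
-/

set_option autoImplicit false

namespace Cfsg.Agent.PSLFourThree

open Matrix

/-- `2 × 2` matrices. -/
abbrev M2 := Matrix (Fin 2) (Fin 2) (ZMod 3)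

theorem pr_eq_iff {a b : S4} : pr a = pr b ↔ b.1 = a.1 ∨ b.1 = -a.1 := by
  show AutPSL.proj (Fin 4) (ZMod 3) a = AutPSL.proj (Fin 4) (ZMod 3) b ↔ _
  rw [AutPSL.proj_eq_iff]
  constructor
  · rintro ⟨c, hc, h⟩
    have key : ∀ c : ZMod 3, c ^ Fintype.card (Fin 4) = 1 → c = 1 ∨ c = -1 := by decide
    have hcc : c = 1 ∨ c = -1 := key c hc
    rcases hcc with rfl | rfl
    · exact Or.inl (by simpa using h)
    · exact Or.inr (by simpa using h)
  · rintro (h | h)
    · exact ⟨1, by simp, by simpa using h⟩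
    · exact ⟨-1, by decide, by simpa using h⟩

theorem pr_surjective : Function.Surjective pr := QuotientGroup.mk'_surjective _

/-- Block matrices, upper triangular. -/
def blk (A X B : M2) : Matrix (Fin 4) (Fin 4) (ZMod 3) :=
  !![A 0 0, A 0 1, X 0 0, X 0 1; A 1 0, A 1 1, X 1 0, X 1 1;
     0, 0, B 0 0, B 0 1; 0, 0, B 1 0, B 1 1]

theorem blk_mul (A X B A' X' B' : M2) :
    blk A X B * blk A' X' B' = blk (A * A') (A * X' + X * B') (B * B') := by
  ext i j
  fin_cases i <;> fin_cases j <;>
    simp [blk, Matrix.mul_apply, Fin.sum_univ_four, Fin.sum_univ_two] <;> ring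

theorem blk_one : blk 1 0 1 = 1 := by decide +kernel

theorem blk_det (A X B : M2) : (blk A X B).det = A.det * B.det := by
  simp [blk, Matrix.det_succ_row_zero, Fin.sum_univ_succ, Fin.succAbove]
  ring

theorem blk_inj {A X B A' X' B' : M2} (h : blk A X B = blk A' X' B') :
    A = A' ∧ X = X' ∧ B = B' := by
  refine ⟨?_, ?_, ?_⟩ <;> ext i j <;> fin_cases i <;> fin_cases j
  all_goals first
    | exact congrFun (congrFun h 0) 0 | exact congrFun (congrFun h 0) 1
    | exact congrFun (congrFun h 1) 0 | exact congrFun (congrFun h 1) 1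
    | exact congrFun (congrFun h 0) 2 | exact congrFun (congrFun h 0) 3
    | exact congrFun (congrFun h 1) 2 | exact congrFun (congrFun h 1) 3
    | exact congrFun (congrFun h 2) 2 | exact congrFun (congrFun h 2) 3
    | exact congrFun (congrFun h 3) 2 | exact congrFun (congrFun h 3) 3

theorem blk_neg (A X B : M2) : -blk A X B = blk (-A) (-X) (-B) := by
  ext i j
  fin_cases i <;> fin_cases j <;> simp [blk]

/-- An element of the middle unipotent radical. -/
def jS (X : M2) : S4 := ⟨blk 1 X 1, by rw [blk_det]; simp⟩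

theorem jS_mul (X Y : M2) : jS X * jS Y = jS (X + Y) :=
  Subtype.ext (by show blk 1 X 1 * blk 1 Y 1 = _; rw [blk_mul]; simp [jS, add_comm])

theorem jS_zero : jS 0 = 1 := Subtype.ext blk_one

/-- The middle unipotent radical. -/
def jHom : Multiplicative M2 →* L4 where
  toFun X := pr (jS X.toAdd)
  map_one' := by simp [jS_zero]
  map_mul' X Y := by rw [← map_mul, jS_mul, toAdd_mul]

/-- The element of the radical with the given block. -/
abbrev jE (X : M2) : L4 := jHom (Multiplicative.ofAdd X)

theorem jE_add (X Y : M2) : jE (X + Y) = jE X * jE Y := by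
  rw [← map_mul, ← ofAdd_add]

theorem jE_inj {X Y : M2} (h : jE X = jE Y) : X = Y := by
  rcases pr_eq_iff.1 h with e | e
  · exact (blk_inj (A := 1) (B := 1) (A' := 1) (B' := 1) e).2.1.symm
  · have e' : blk 1 Y 1 = blk (-1) (-X) (-1) := e.trans (blk_neg 1 X 1)
    exact absurd (congrFun (congrFun (blk_inj e').1 0) 0) (by decide)

theorem jHom_injective : Function.Injective jHom := fun _ _ h =>
  Multiplicative.toAdd.injective (jE_inj h)

/-- The middle unipotent radical, as a subgroup. -/
def Jsub : Subgroup L4 := jHom.range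

theorem mem_Jsub {g : L4} : g ∈ Jsub ↔ ∃ X, jE X = g :=
  ⟨fun ⟨X, hX⟩ => ⟨X.toAdd, hX⟩, fun ⟨_, hX⟩ => ⟨_, hX⟩⟩

theorem jE_mem (X : M2) : jE X ∈ Jsub := ⟨_, rfl⟩

theorem card_Jsub : Nat.card Jsub = 81 := by
  rw [Jsub, ← Nat.card_congr (MonoidHom.ofInjective jHom_injective).toEquiv,
    Nat.card_congr Multiplicative.toAdd, Nat.card_eq_fintype_card]
  decide

/-- The element `(A, B)` of the Levi factor. -/
def levS (A B : M2) (h : A.det * B.det = 1) : S4 := ⟨blk A 0 B, by rw [blk_det, h]⟩

/-- The image of `levS`. -/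
def lev (A B : M2) (h : A.det * B.det = 1) : L4 := pr (levS A B h)

theorem lev_conj {A B : M2} (h : A.det * B.det = 1) {X Y : M2} (e : A * X = Y * B) :
    lev A B h * jE X * (lev A B h)⁻¹ = jE Y := by
  rw [mul_inv_eq_iff_eq_mul]
  show pr (levS A B h) * pr (jS X) = pr (jS Y) * pr (levS A B h)
  rw [← map_mul, ← map_mul]
  refine congrArg pr (Subtype.ext ?_)
  show blk A 0 B * blk 1 X 1 = blk 1 Y 1 * blk A 0 B
  rw [blk_mul, blk_mul]
  simp [e]

theorem lev_comm {A B : M2} (h : A.det * B.det = 1) {X : M2} (e : A * X = X * B) :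
    Commute (lev A B h) (jE X) := by
  have := lev_conj h e
  exact mul_inv_eq_iff_eq_mul.1 this

theorem zEl_eq : zEl = jE !![0, 1; 0, 0] := by
  refine congrArg pr (Subtype.ext ?_)
  ext i j
  fin_cases i <;> fin_cases j <;> decide

/-- The two representatives of the elements of rank two. -/
def jRep (d : ZMod 3) : M2 := !![1, 0; 0, d]

theorem det_cases (d : ZMod 3) : d = 0 ∨ d * d = 1 := by revert d; decide

theorem rank_one_conj : ∀ X : M2, X ≠ 0 → X.det = 0 →
    ∃ A : M2, A.det = 1 ∧ ∃ B : M2, B.det = 1 ∧ A * !![0, 1; 0, 0] = X * B := by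
  decide +kernel

/-- Every nontrivial element is conjugate under the Levi factor to `zEl` or to one of rank two. -/
theorem types (X : M2) (hX : X ≠ 0) :
    (X.det = 0 ∧ ∃ A B, ∃ h : A.det * B.det = 1, lev A B h * zEl * (lev A B h)⁻¹ = jE X) ∨
    (X.det ≠ 0 ∧ ∃ A B, ∃ h : A.det * B.det = 1,
      lev A B h * jE (jRep X.det) * (lev A B h)⁻¹ = jE X) := by
  by_cases h0 : X.det = 0
  · obtain ⟨A, hA, B, hB, e⟩ := rank_one_conj X hX h0
    exact Or.inl ⟨h0, A, B, by rw [hA, hB, one_mul], by rw [zEl_eq]; exact lev_conj _ e⟩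
  · refine Or.inr ⟨h0, X * jRep X.det, 1, ?_, lev_conj _ ?_⟩
    · rw [Matrix.det_mul, det_one, mul_one, jRep]
      rcases det_cases X.det with e | e
      · exact absurd e h0
      · simpa [Matrix.det_fin_two] using e
    · rw [mul_one, mul_assoc]
      have : jRep X.det * jRep X.det = 1 := by
        rcases det_cases X.det with e | e
        · exact absurd e h0
        · ext i j
          fin_cases i <;> fin_cases j <;> simp [jRep, Matrix.mul_apply, Fin.sum_univ_two, e]
      rw [this, mul_one]

end Cfsg.Agent.PSLFourThree
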