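import Cfsg.Agent.EqLemmas
import Mathlib

/-!
# Thompson transfer for an element with central square

* `signHom`: the sign of the action on the cosets of a subgroup
* `signHom_eq_neg_one`: it is `-1` on an element of a Sylow 2-subgroup with central square, outside
  a subgroup of index two and not conjugate into it
-/

set_option autoImplicit false

namespace Cfsg.Agent.PSLFourThree

variable {G : Type*} [Group G] [Finite G]

open Classical in
/-- The sign of the action on the cosets of `Q`. -/
noncomputable def signHom (Q : Subgroup G) : G →* ℤˣ :=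
  letI : Fintype (G ⧸ Q) := Fintype.ofFinite _
  Equiv.Perm.sign.comp (MulAction.toPermHom G (G ⧸ Q))

theorem signHom_eq_neg_one (P : Sylow 2 G) {Q : Subgroup G} (hQP : Q ≤ (P : Subgroup G))
    (hQi : Q.relIndex (P : Subgroup G) = 2) {u : G} (hu2c : u * u ∈ Subgroup.center G)
    (hu2Q : u * u ∈ Q) (hc : ∀ g : G, g * u * g⁻¹ ∉ Q) : signHom Q u = -1 := by
  classical
  haveI : Fact (Nat.Prime 2) := ⟨Nat.prime_two⟩
  letI : Fintype (G ⧸ Q) := Fintype.ofFinite _
  show Equiv.Perm.sign (MulAction.toPermHom G (G ⧸ Q) u) = -1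
  set σ : Equiv.Perm (G ⧸ Q) := MulAction.toPermHom G (G ⧸ Q) u with hσ
  have hfix : ∀ c : G ⧸ Q, σ c ≠ c := by
    intro c
    induction c using QuotientGroup.induction_on with
    | H x =>
      intro h
      refine hc x⁻¹ ?_
      have h' : ((u * x : G) : G ⧸ Q) = ((x : G) : G ⧸ Q) := h
      have h'' := QuotientGroup.eq.mp h'.symm
      simpa [mul_assoc] using h''
  have hσ2 : σ ^ 2 = 1 := by
    ext c
    induction c using QuotientGroup.induction_on with
    | H x =>
      show ((u * (u * x) : G) : G ⧸ Q) = ((x : G) : G ⧸ Q)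
      refine (QuotientGroup.eq.mpr ?_).symm
      rw [← mul_assoc u u x, ← Subgroup.mem_center_iff.1 hu2c x, ← mul_assoc, inv_mul_cancel, one_mul]
      exact hu2Q
  have hσne : σ ≠ 1 := fun h => hfix ((1 : G) : G ⧸ Q) (by rw [h]; rfl)
  have hσo : orderOf σ = 2 := orderOf_eq_prime hσ2 hσne
  obtain ⟨m, hm⟩ := Equiv.Perm.cycleType_prime_order (hσo ▸ Nat.prime_two)
  rw [hσo] at hm
  have hsupp : σ.support = Finset.univ := by
    ext c; simp [Equiv.Perm.mem_support, hfix c]
  have hsum : Q.index = 2 * (m + 1) := by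
    have h := σ.sum_cycleType
    rw [hm, hsupp, Finset.card_univ, Multiset.sum_replicate, smul_eq_mul] at h
    rw [Subgroup.index_eq_card, Nat.card_eq_fintype_card]
    omega
  have hodd : ¬ 2 ∣ m + 1 := by
    intro hd
    have h := Subgroup.relIndex_mul_index hQP
    rw [hQi, hsum] at h
    exact P.not_dvd_index (by omega)
  rw [Equiv.Perm.sign_of_cycleType, hm, Multiset.sum_replicate, Multiset.card_replicate, smul_eq_mul]
  exact Odd.neg_one_pow (Nat.odd_iff.mpr (by omega))

end Cfsg.Agent.PSLFourThree
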