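import Cfsg.Agent.Lib.PSLFourThree.CentTFrame
import Cfsg.Agent.Lib.PSLFourThree.Transfer

/-!
# The centralizer of `tEl` lies in the image

* `Emb.cent_t`: two transfers leave a subgroup with a normal 3-complement inside the image
-/

set_option autoImplicit false

namespace Cfsg.Agent.PSLFourThree

universe u

variable {G : Type u} [Group G] [Finite G] {φ : L4 →* G} {T R M : Subgroup L4} {a b τ : L4}

theorem units_one_of_cube : ∀ u : ℤˣ, u ^ 3 = 1 → u = 1 := by decide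

/-- A 2-subgroup of a kernel of index two in which it has index two is a Sylow subgroup. -/
theorem exists_sylow_ker {K : Type*} [Group K] [Finite K] (S : Sylow 2 K) (ε : K →* ℤˣ)
    {u : K} (hu : ε u = -1) (Q : Subgroup ε.ker) (hQ : Nat.card Q * 2 = Nat.card (S : Subgroup K)) :
    ∃ P : Sylow 2 ε.ker, (P : Subgroup ε.ker) = Q := by
  have : Fact (Nat.Prime 2) := ⟨Nat.prime_two⟩
  have hidx : ε.ker.index = 2 := by
    have hr : ε.range = ⊤ := by
      rw [eq_top_iff]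
      intro z _
      rcases Int.units_eq_one_or z with rfl | rfl
      · exact one_mem _
      · exact ⟨u, hu⟩
    rw [Subgroup.index_ker, hr, Subgroup.card_top, Nat.card_eq_fintype_card]
    rfl
  refine ⟨Sylow.ofCard Q ?_, rfl⟩
  have h0 : Nat.card ε.ker ≠ 0 := Nat.card_pos.ne'
  have hK : Nat.card K = Nat.card ε.ker * 2 := by rw [← Subgroup.card_mul_index ε.ker, hidx]
  have hS := S.card_eq_multiplicity
  rw [hK, Nat.factorization_mul h0 (by norm_num), Finsupp.add_apply,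
    Nat.Prime.factorization_self Nat.prime_two, pow_succ] at hS
  omega

theorem card_comap_ker {C : Type*} [Group C] [Finite C] (ε : C →* ℤˣ) {u : C} (hu : ε u = -1) :
    Nat.card ε.ker * 2 = Nat.card C := by
  have hr : ε.range = ⊤ := by
    rw [eq_top_iff]
    intro z _
    rcases Int.units_eq_one_or z with rfl | rfl
    · exact one_mem _
    · exact ⟨u, hu⟩
  have := Subgroup.card_mul_index ε.ker
  rw [Subgroup.index_ker, hr, Subgroup.card_top, Nat.card_eq_fintype_card (α := ℤˣ),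
    Fintype.card_units_int] at this
  exact this

/-- The centralizer of `tEl` lies in the image. -/
theorem Emb.cent_t (E : Emb φ) (F : InvFacts T R M a b τ)
    (hsep : ∀ g, g * φ tEl * g⁻¹ ≠ φ tTwo) : Xt φ ≤ φ.range := by
  classical
  have : Fact (Nat.Prime 2) := ⟨Nat.prime_two⟩
  obtain ⟨hτT, hτ2, hτt, hτc, hτtc⟩ := F.τ_mem
  obtain ⟨hRM, hMT, hM64⟩ := F.M_le
  -- the classes are invariants of `G`
  have hTT : ∀ {g : G} {y w : L4}, IsT y → IsTwo w → g * φ y * g⁻¹ ≠ φ w := by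
    intro g y w hy hw h
    obtain ⟨c, rfl⟩ := isConj_iff.1 hy
    obtain ⟨d, rfl⟩ := isConj_iff.1 hw
    refine hsep ((φ d)⁻¹ * g * φ c) ?_
    simp only [map_mul, map_inv] at h
    calc (φ d)⁻¹ * g * φ c * φ tEl * ((φ d)⁻¹ * g * φ c)⁻¹
        = (φ d)⁻¹ * (g * (φ c * φ tEl * (φ c)⁻¹) * g⁻¹) * φ d := by group
      _ = φ tTwo := by rw [h]; group
  have hT1 : ∀ {y : L4}, IsT y → y ≠ 1 := fun {y} hy h => by
    obtain ⟨c, hc⟩ := isConj_iff.1 hy
    rw [h, conj_eq_one_iff] at hc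
    have h2 := F.t_invol
    rw [hc, orderOf_one] at h2
    exact absurd h2 (by norm_num)
  set X := Xt φ with hX
  let ι : CtL →* X := (φ.comp CtL.subtype).codRestrict X fun c => map_mem_Xt c.2
  have hι : Function.Injective ι := fun c d h =>
    Subtype.ext (E.inj (congrArg Subtype.val h))
  have hιv : ∀ c, ((ι c : X) : G) = φ (c : L4) := fun _ => rfl
  obtain ⟨S₀, hS₀⟩ := E.sylow_two F
  have hS₀X : (S₀ : Subgroup G) ≤ X := hS₀.symm ▸ (by
    rintro _ ⟨y, hy, rfl⟩; exact map_mem_Xt (F.T_le hy))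
  let S : Sylow 2 X := S₀.subtype hS₀X
  have hSmem : ∀ x : X, x ∈ (S : Subgroup X) ↔ (x : G) ∈ T.map φ := fun x => by
    show (x : G) ∈ (S₀ : Subgroup G) ↔ _
    rw [hS₀]
  have htc : ∀ x : X, (x : G) * φ tEl = φ tEl * x := fun x =>
    Subgroup.mem_centralizer_singleton_iff.1 x.2
  have hone : ∀ x : X, x * x = 1 → x * x ∈ Subgroup.center X := fun x h => h.symm ▸ one_mem _
  -- first transfer
  set Q₁ : Subgroup X := (M.map φ).subgroupOf X
  have hQ₁S : Q₁ ≤ (S : Subgroup X) := fun x hx => (hSmem x).2 (Subgroup.map_mono hMT hx)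
  have hMX : M.map φ ≤ X := by
    rintro _ ⟨y, hy, rfl⟩; exact map_mem_Xt (F.T_le (hMT hy))
  have hScard : Nat.card (S : Subgroup X) = 128 := by
    rw [show (S : Subgroup X) = (T.map φ).subgroupOf X by ext x; exact hSmem x,
      Nat.card_congr (Subgroup.subgroupOfEquivOfLe (hS₀ ▸ hS₀X)).toEquiv,
      Subgroup.card_map_of_injective E.inj, F.T_card]
  have hrel : Q₁.relIndex (S : Subgroup X) = 2 := by
    have h := Subgroup.relIndex_mul_relIndex (⊥ : Subgroup X) Q₁ (S : Subgroup X) bot_le hQ₁S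
    rw [Subgroup.relIndex_bot_left, Subgroup.relIndex_bot_left, hScard,
      Nat.card_congr (Subgroup.subgroupOfEquivOfLe hMX).toEquiv,
      Subgroup.card_map_of_injective E.inj, hM64] at h
    omega
  set τ' : X := ι ⟨τ, F.T_le hτT⟩
  have hτ'2 : τ' * τ' = 1 := Subtype.ext (by
    show φ τ * φ τ = 1
    rw [← map_mul, hτ2, map_one])
  have hε₁ : signHom Q₁ τ' = -1 := by
    refine signHom_eq_neg_one S hQ₁S hrel (hone _ hτ'2) (hτ'2.symm ▸ Q₁.one_mem) fun g hg => ?_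
    obtain ⟨m, hm, em⟩ := Subgroup.mem_subgroupOf.1 hg
    have em' : φ m = (g : G) * φ τ * (g : G)⁻¹ := em
    have hm2 : m * m = 1 := E.inj (by
      rw [map_mul, em', map_one]
      calc (g : G) * φ τ * (g : G)⁻¹ * ((g : G) * φ τ * (g : G)⁻¹)
          = (g : G) * φ (τ * τ) * (g : G)⁻¹ := by rw [map_mul]; group
        _ = 1 := by rw [hτ2, map_one, mul_one, mul_inv_cancel])
    rcases F.M_invol m hm hm2 with rfl | rfl | h | h
    · rw [map_one, eq_comm, conj_eq_one_iff, ← map_one φ] at em'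
      exact hT1 hτc (E.inj em')
    · exact hτt (E.inj (mul_left_cancel (a := (g : G)) (by
        rw [htc g, em', inv_mul_cancel_right])))
    · exact hTT hτc h em'.symm
    · refine hTT hτtc h (g := (g : G)) ?_
      rw [map_mul, map_mul, em', mul_assoc _ _ (g : G)⁻¹, mul_assoc _ _ (φ tEl),
        show (g : G)⁻¹ * φ tEl = φ tEl * (g : G)⁻¹ from
          ((show Commute (g : G) (φ tEl) from htc g).inv_left).eq]
      group
  set ε₁ := signHom Q₁
  -- the odd elements and `R` are in the kernel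
  have hP1 : ∀ (ε : CtL →* ℤˣ) (p : CtL), (p : L4) ∈ Psub → ε p = 1 := fun ε p hp => by
    refine units_one_of_cube _ ?_
    rw [← map_pow, show p ^ 3 = 1 from Subtype.ext (Jsub_pow_three (Psub_le_Jsub hp)), map_one]
  have hR1 : ∀ (ε : CtL →* ℤˣ) (r : CtL), (r : L4) ∈ R → ε r = 1 := fun ε r hr => by
    have hle : R ≤ ε.ker.map CtL.subtype := F.R_comm.trans <| (Subgroup.closure_le _).2 (by
      rintro g ⟨s, hs, p, hp, rfl⟩
      refine ⟨⟨s, F.R_le_Ct hs⟩ * ⟨p, F.Psub_le hp⟩ * ⟨s, F.R_le_Ct hs⟩⁻¹ * ⟨p, F.Psub_le hp⟩⁻¹, ?_, rfl⟩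
      show ε _ = 1
      rw [map_mul, map_mul, map_mul, map_inv, map_inv, hP1 ε ⟨p, F.Psub_le hp⟩ hp, mul_one, inv_one, mul_one,
        mul_inv_cancel])
    obtain ⟨r', hr', e⟩ := hle hr
    rw [← show r' = r from Subtype.ext e]
    exact hr'
  set U : Subgroup L4 := ((ε₁.comp ι).ker.map CtL.subtype) ⊓ T
  have hRU : R ≤ U := fun r hr => ⟨⟨⟨r, F.R_le_Ct hr⟩, hR1 _ _ hr, rfl⟩, F.R_le_T hr⟩
  have hmemU : ∀ c : CtL, (c : L4) ∈ T → ((c : L4) ∈ U ↔ ε₁ (ι c) = 1) := fun c hc =>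
    ⟨fun h => by obtain ⟨d, hd, e⟩ := h.1; rw [← show d = c from Subtype.ext e]; exact hd,
      fun h => ⟨⟨c, h, rfl⟩, hc⟩⟩
  have hτU : τ ∉ U := fun h => by
    have := (hmemU ⟨τ, F.T_le hτT⟩ hτT).1 h
    rw [hε₁] at this
    exact absurd this (by decide)
  let jT : T →* CtL := Subgroup.inclusion F.T_le
  have hUcard : Nat.card U = 64 := by
    have h := card_comap_ker ((ε₁.comp ι).comp jT) (u := ⟨τ, hτT⟩) hε₁
    have e : ((ε₁.comp ι).comp jT).ker.map T.subtype = U := by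
      ext g
      constructor
      · rintro ⟨d, hd, rfl⟩
        exact (hmemU (jT d) d.2).2 hd
      · intro h
        exact ⟨⟨g, h.2⟩, (hmemU ⟨g, F.T_le h.2⟩ h.2).1 h, rfl⟩
    rw [← e, Subgroup.card_map_of_injective T.subtype_injective]
    rw [F.T_card] at h
    omega
  obtain ⟨s, hsU, hsR, hs2, hsT⟩ := F.second U hRU inf_le_right hUcard hτU
  -- second transfer
  set X₁ := ε₁.ker
  have hUX : ∀ g ∈ U, ∃ x : X₁, ((x : X) : G) = φ g := fun g hg => by
    obtain ⟨c, hc, rfl⟩ := hg.1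
    exact ⟨⟨ι c, hc⟩, rfl⟩
  set PU : Subgroup X₁ := (U.map φ).comap (X.subtype.comp X₁.subtype)
  have hPUcard : Nat.card PU = 64 := by
    rw [← Subgroup.card_map_of_injective (K := PU) (f := X.subtype.comp X₁.subtype)
      (Subtype.val_injective.comp Subtype.val_injective), Subgroup.map_comap_eq_self,
      Subgroup.card_map_of_injective E.inj, hUcard]
    rintro _ ⟨g, hg, rfl⟩
    exact hUX g hg
  obtain ⟨S₁, hS₁⟩ := exists_sylow_ker S ε₁ hε₁ PU (by rw [hPUcard, hScard])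
  set Q₂ : Subgroup X₁ := (R.map φ).comap (X.subtype.comp X₁.subtype)
  have hQ₂S : Q₂ ≤ (S₁ : Subgroup X₁) := hS₁.symm ▸ Subgroup.comap_mono (Subgroup.map_mono hRU)
  have hQ₂card : Nat.card Q₂ = 32 := by
    rw [← Subgroup.card_map_of_injective (K := Q₂) (f := X.subtype.comp X₁.subtype)
      (Subtype.val_injective.comp Subtype.val_injective), Subgroup.map_comap_eq_self,
      Subgroup.card_map_of_injective E.inj, F.R_card]
    rintro _ ⟨g, hg, rfl⟩
    exact hUX g (hRU hg)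
  have hrel₂ : Q₂.relIndex (S₁ : Subgroup X₁) = 2 := by
    have h := Subgroup.relIndex_mul_relIndex (⊥ : Subgroup X₁) Q₂ (S₁ : Subgroup X₁) bot_le hQ₂S
    rw [Subgroup.relIndex_bot_left, Subgroup.relIndex_bot_left, hQ₂card, hS₁, hPUcard] at h
    rw [hS₁]
    omega
  obtain ⟨s', hs'⟩ := hUX s hsU
  have hs'2 : s' * s' = 1 := Subtype.ext (Subtype.ext (by
    show ((s' : X) : G) * ((s' : X) : G) = 1
    rw [hs', ← map_mul, hs2, map_one]))
  have hε₂ : signHom Q₂ s' = -1 := by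
    refine signHom_eq_neg_one S₁ hQ₂S hrel₂ (by rw [hs'2]; exact one_mem _) (hs'2.symm ▸ Q₂.one_mem)
      fun g hg => ?_
    obtain ⟨m, hm, em⟩ := Subgroup.mem_comap.1 hg
    have em' : φ m = ((g : X) : G) * φ s * ((g : X) : G)⁻¹ := by rw [← hs']; exact em
    have hm2 : m * m = 1 := E.inj (by
      rw [map_mul, em', map_one]
      calc ((g : X) : G) * φ s * ((g : X) : G)⁻¹ * (((g : X) : G) * φ s * ((g : X) : G)⁻¹)
          = ((g : X) : G) * φ (s * s) * ((g : X) : G)⁻¹ := by rw [map_mul]; group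
        _ = 1 := by rw [hs2, map_one, mul_one, mul_inv_cancel])
    rcases F.R_invol m hm hm2 with rfl | rfl | ⟨h, -⟩
    · rw [map_one, eq_comm, conj_eq_one_iff, ← map_one φ] at em'
      exact hT1 hsT (E.inj em')
    · have e : tEl = s := E.inj (mul_left_cancel (a := ((g : X) : G)) (by
        rw [htc g, em', inv_mul_cancel_right]))
      obtain ⟨ha, -, ha2, -, -⟩ := F.ab_mem
      exact hsR (e ▸ ha2 ▸ R.mul_mem ha ha)
    · exact hTT hsT h em'.symm
  set ε₂ := signHom Q₂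
  -- the second kernel
  let ι₁ : (ε₁.comp ι).ker →* X₁ := (ι.comp (ε₁.comp ι).ker.subtype).codRestrict X₁ fun c => c.2
  set K := (ε₂.comp ι₁).ker
  let κ : K →* L4 := CtL.subtype.comp ((ε₁.comp ι).ker.subtype.comp K.subtype)
  have hκ : Function.Injective κ := fun c d h => Subtype.ext (Subtype.ext (Subtype.ext h))
  have hKcard : Nat.card κ.range = 288 := by
    have h1 := card_comap_ker (ε₁.comp ι) (u := ⟨τ, F.T_le hτT⟩) hε₁
    obtain ⟨c, hc, hcs⟩ := hsU.1
    have h2 := card_comap_ker (ε₂.comp ι₁) (u := ⟨c, hc⟩) (by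
      show ε₂ (ι₁ ⟨c, hc⟩) = -1
      rw [show ι₁ ⟨c, hc⟩ = s' from Subtype.ext (Subtype.ext (by
        show φ (c : L4) = ((s' : X) : G)
        rw [hs']; exact congrArg φ hcs))]
      exact hε₂)
    rw [F.card_cent] at h1
    have h2' : Nat.card K * 2 = Nat.card (ε₁.comp ι).ker := h2
    have h1' : Nat.card (ε₁.comp ι).ker * 2 = 1152 := h1
    rw [← Nat.card_congr (MonoidHom.ofInjective hκ).toEquiv]
    omega
  have hgenK : R ⊔ Psub = κ.range := by
    have hP' : ∀ p ∈ Psub, p ∈ κ.range := fun p hp =>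
      ⟨⟨⟨⟨p, F.Psub_le hp⟩, hP1 _ _ hp⟩, units_one_of_cube _ (by
        rw [← map_pow, show (⟨⟨p, F.Psub_le hp⟩, hP1 _ _ hp⟩ : (ε₁.comp ι).ker) ^ 3 = 1 from
          Subtype.ext (Subtype.ext (Jsub_pow_three (Psub_le_Jsub hp))), map_one])⟩, rfl⟩
    have hle : R ⊔ Psub ≤ κ.range := by
      refine sup_le (F.R_comm.trans <| (Subgroup.closure_le _).2 ?_) hP'
      rintro g ⟨r, hr, p, hp, rfl⟩
      set r' : (ε₁.comp ι).ker := ⟨⟨r, F.R_le_Ct hr⟩, hR1 _ _ hr⟩
      set p' : (ε₁.comp ι).ker := ⟨⟨p, F.Psub_le hp⟩, hP1 _ _ hp⟩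
      refine ⟨⟨r' * p' * r'⁻¹ * p'⁻¹, ?_⟩, rfl⟩
      have hp1 : (ε₂.comp ι₁) p' = 1 := units_one_of_cube _ (by
        rw [← map_pow, show p' ^ 3 = 1 from Subtype.ext (Subtype.ext
          (Jsub_pow_three (Psub_le_Jsub hp))), map_one])
      show (ε₂.comp ι₁) (r' * p' * r'⁻¹ * p'⁻¹) = 1
      rw [map_mul, map_mul, map_mul, map_inv, map_inv, hp1, mul_one, inv_one, mul_one, mul_inv_cancel]
    refine Subgroup.eq_of_le_of_card_ge hle (Nat.le_of_dvd Nat.card_pos ?_)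
    rw [hKcard, show 288 = 32 * 9 by norm_num]
    exact Nat.Coprime.mul_dvd_of_dvd_of_dvd (by norm_num)
      (F.R_card ▸ Subgroup.card_dvd_of_le le_sup_left) (card_Psub ▸ Subgroup.card_dvd_of_le le_sup_right)
  -- Burnside in the second kernel
  have h3 : Fact (Nat.Prime 3) := ⟨Nat.prime_three⟩
  obtain ⟨S₃, hS₃⟩ := E.sylow_three_t F.card_cent F.z_mem F.u_mem
  have hSP : (S₃ : Subgroup X) ≤ X₁ := fun x hx => by
    obtain ⟨p, hp, e⟩ := (hS₃ x).1 hx
    rw [← show ι ⟨p, F.Psub_le hp⟩ = x from Subtype.ext e]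
    exact hP1 (ε₁.comp ι) _ hp
  let S₃' : Sylow 3 X₁ := S₃.subtype hSP
  have hS₃' : ∀ x : X₁, x ∈ (S₃' : Subgroup X₁) ↔ ((x : X) : G) ∈ Psub.map φ := fun x => hS₃ x
  have hSP₂ : (S₃' : Subgroup X₁) ≤ ε₂.ker := fun x hx => by
    refine units_one_of_cube _ ?_
    obtain ⟨p, hp, e⟩ := (hS₃' x).1 hx
    rw [← map_pow, show x ^ 3 = 1 from Subtype.ext (Subtype.ext (by
      show ((x : X) : G) ^ 3 = 1
      rw [← e, ← map_pow, Jsub_pow_three (Psub_le_Jsub hp), map_one])), map_one]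
  let X₂ := ε₂.ker
  let P : Sylow 3 X₂ := S₃'.subtype hSP₂
  let val : X₂ →* G := X.subtype.comp (X₁.subtype.comp X₂.subtype)
  have hval : Function.Injective val := fun c d h => Subtype.ext (Subtype.ext (Subtype.ext h))
  have hPmem : ∀ x : X₂, x ∈ (P : Subgroup X₂) ↔ val x ∈ Psub.map φ := fun x => hS₃' _
  have hlift : ∀ m : L4, ∀ x : X₂, φ m = val x → m ∈ R ⊔ Psub := fun m x e => by
    rw [hgenK]
    have hmC : m ∈ CtL := mem_CtL_of_map E (e ▸ ((x : X₁) : X).2)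
    have e1 : ι ⟨m, hmC⟩ = ((x : X₁) : X) := Subtype.ext e
    refine ⟨⟨⟨⟨m, hmC⟩, ?_⟩, ?_⟩, rfl⟩
    · show ε₁ (ι ⟨m, hmC⟩) = 1
      rw [e1]; exact (x : X₁).2
    · show ε₂ (ι₁ _) = 1
      rw [show ι₁ ⟨⟨m, hmC⟩, _⟩ = (x : X₁) from Subtype.ext e1]
      exact x.2
  have hPab : ∀ p ∈ Psub, ∀ q ∈ Psub, p * q = q * p := fun p hp q hq =>
    Jsub_comm (Psub_le_Jsub hp) (Psub_le_Jsub hq)
  have hN : Subgroup.normalizer ((P : Subgroup X₂) : Set X₂) ≤
      Subgroup.centralizer ((P : Subgroup X₂) : Set X₂) := by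
    intro n hn
    have hconj : ∀ p ∈ Psub, val n * φ p * (val n)⁻¹ ∈ Psub.map φ := fun p hp => by
      set c : CtL := ⟨p, F.Psub_le hp⟩
      have h1 : ε₁ (ι c) = 1 := hP1 (ε₁.comp ι) c hp
      have h2 : ε₂ ⟨ι c, h1⟩ = 1 := units_one_of_cube _ (by
        rw [← map_pow, show (⟨ι c, h1⟩ : X₁) ^ 3 = 1 from Subtype.ext (Subtype.ext (by
          show φ p ^ 3 = 1
          rw [← map_pow, Jsub_pow_three (Psub_le_Jsub hp), map_one])), map_one])
      exact (hPmem _).1 ((Subgroup.mem_normalizer_iff.1 hn ⟨⟨ι c, h1⟩, h2⟩).1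
        ((hPmem _).2 ⟨p, hp, rfl⟩))
    obtain ⟨m, hm⟩ := E.range_of_conj_z (g := val n)
      (Subgroup.map_mono Psub_le_Jsub (hconj zEl (Subgroup.subset_closure (by simp))))
    have hmC : m ∈ CtL := mem_CtL_of_map E (hm ▸ ((n : X₁) : X).2)
    obtain ⟨r, hr, p, hp, rfl⟩ : ∃ r ∈ R, ∃ p ∈ Psub, m = r * p := by
      have h := hlift m n hm
      have hPR : Psub ≤ Subgroup.normalizer (R : Set L4) := F.Psub_le.trans F.R_norm
      rw [← SetLike.mem_coe, Subgroup.coe_mul_of_right_le_normalizer_left R Psub hPR] at h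
      obtain ⟨r, hr, p, hp, e⟩ := h
      exact ⟨r, hr, p, hp, e.symm⟩
    intro y hy
    obtain ⟨q, hq, eq⟩ := (hPmem y).1 hy
    refine hval ?_
    rw [map_mul, map_mul, ← eq, ← hm, ← map_mul, ← map_mul]
    refine congrArg φ ?_
    -- the part in `R` normalizes the group of order nine, so centralizes it
    obtain ⟨w, hw, ew⟩ := hconj q hq
    rw [← hm, ← map_inv, ← map_mul, ← map_mul] at ew
    have ew' : w = r * q * r⁻¹ := by
      rw [E.inj ew, show r * p * q * (r * p)⁻¹ = r * (p * q) * p⁻¹ * r⁻¹ by group, hPab p hp q hq]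
      group
    have h1 : r * q * r⁻¹ * q⁻¹ ∈ R := by
      have := R.mul_mem hr (F.norm_conj (F.Psub_le hq) (R.inv_mem hr))
      rwa [← mul_assoc, ← mul_assoc] at this
    have h2 : r * q * r⁻¹ * q⁻¹ ∈ Psub := Psub.mul_mem (ew' ▸ hw) (Psub.inv_mem hq)
    have h3 : r * q * r⁻¹ * q⁻¹ = 1 := by
      refine orderOf_eq_one_iff.1 (Nat.eq_one_of_dvd_coprimes (a := 32) (b := 9) (by norm_num) ?_ ?_)
      · rw [← F.R_card]; exact Subgroup.orderOf_mk _ h1 ▸ orderOf_dvd_natCard (⟨_, h1⟩ : R)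
      · rw [← card_Psub]; exact Subgroup.orderOf_mk _ h2 ▸ orderOf_dvd_natCard (⟨_, h2⟩ : Psub)
    have hrq : r * q = q * r := mul_inv_eq_iff_eq_mul.1 (mul_inv_eq_one.1 h3)
    rw [← mul_assoc, ← hrq, mul_assoc, hPab q hq p hp, ← mul_assoc]
  have hc := MonoidHom.ker_transferSylow_isComplement' P hN
  set K₃ := (MonoidHom.transferSylow P hN).ker
  have hcop : (Nat.card K₃).Coprime 3 := by
    rw [← hc.index_eq_card]
    exact ((Nat.Prime.coprime_iff_not_dvd Nat.prime_three).2 P.not_dvd_index).symm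
  have hK₃ : K₃.map val ≤ φ.range := by
    have : IsMulCommutative ((P : Subgroup X₂).map val) := ⟨⟨by
      rintro ⟨_, x, hx, rfl⟩ ⟨_, y, hy, rfl⟩
      obtain ⟨p, hp, ep⟩ := (hPmem x).1 hx
      obtain ⟨q, hq, eq⟩ := (hPmem y).1 hy
      exact Subtype.ext (by
        show val x * val y = val y * val x
        rw [← ep, ← eq, ← map_mul, ← map_mul, hPab p hp q hq])⟩⟩
    have hPP : (P : Subgroup X₂).map val = Psub.map φ := by
      refine le_antisymm (by rintro _ ⟨x, hx, rfl⟩; exact (hPmem x).1 hx) ?_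
      rintro _ ⟨p, hp, rfl⟩
      obtain ⟨c, hc⟩ : p ∈ κ.range := hgenK ▸ Subgroup.mem_sup_right hp
      refine ⟨⟨ι₁ (c : (ε₁.comp ι).ker), c.2⟩, (hPmem _).2 ⟨p, hp, ?_⟩, ?_⟩
      · exact congrArg φ hc.symm
      · exact congrArg φ hc
    refine Coprime.le_of_noncyclic (A := (P : Subgroup X₂).map val) (hPP ▸ Psub_not_cyclic E) ?_ ?_
      fun y hy hy1 => ?_
    · rintro _ ⟨x, -, rfl⟩
      refine Coprime.mem_normalizer_of_forall ?_
      rintro _ ⟨k, hk, rfl⟩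
      exact ⟨x * k * x⁻¹, (MonoidHom.normal_ker _).conj_mem k hk x, by simp⟩
    · rw [hPP, Subgroup.card_map_of_injective E.inj, card_Psub, Subgroup.card_map_of_injective hval,
        show 9 = 3 ^ 2 by norm_num]
      exact (Nat.Coprime.pow_right 2 hcop).symm
    · rw [hPP] at hy
      obtain ⟨p, hp, rfl⟩ := hy
      exact inf_le_right.trans (E.cent_J (Psub_le_Jsub hp) fun h => hy1 (by rw [h, map_one]))
  have hX₂ : ∀ x : X₂, val x ∈ φ.range := fun x => by
    have h := hc.sup_eq_top ▸ Subgroup.mem_top x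
    have : (⊤ : Subgroup X₂) ≤ φ.range.comap val := by
      rw [← hc.sup_eq_top]
      refine sup_le (fun k hk => hK₃ ⟨k, hk, rfl⟩) fun p hp => ?_
      obtain ⟨q, -, e⟩ := (hPmem p).1 hp
      exact ⟨q, e⟩
    exact this (Subgroup.mem_top x)
  have hX₁ : ∀ x : X₁, ((x : X) : G) ∈ φ.range := fun x => by
    rcases Int.units_eq_one_or (ε₂ x) with h | h
    · exact hX₂ ⟨x, h⟩
    · have hk : x * s'⁻¹ ∈ ε₂.ker := by
        show ε₂ (x * s'⁻¹) = 1
        rw [map_mul, map_inv, h, hε₂, mul_inv_cancel]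
      have := φ.range.mul_mem (hX₂ ⟨_, hk⟩) (⟨s, hs'.symm⟩ : ((s' : X) : G) ∈ φ.range)
      have e : val ⟨_, hk⟩ * ((s' : X) : G) = ((x : X) : G) :=
        congrArg (fun y : X₁ => ((y : X) : G)) (inv_mul_cancel_right x s')
      exact e ▸ this
  intro g hg
  rcases Int.units_eq_one_or (ε₁ ⟨g, hg⟩) with h | h
  · exact hX₁ ⟨⟨g, hg⟩, h⟩
  · have := φ.range.mul_mem (hX₁ ⟨⟨g, hg⟩ * τ'⁻¹, by
      show ε₁ (⟨g, hg⟩ * τ'⁻¹) = 1
      rw [map_mul, map_inv, h, hε₁, mul_inv_cancel]⟩) (⟨τ, rfl⟩ : (τ' : G) ∈ φ.range)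
    rwa [show ((⟨g, hg⟩ * τ'⁻¹ : X) : G) * (τ' : G) = g from inv_mul_cancel_right g (τ' : G)] at this

end Cfsg.Agent.PSLFourThree
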