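import Cfsg.Agent.Lib.PSLFourThree.CentTPrep

/-!
# The normalizer of `R` and the Sylow 2-subgroup

* `InvFacts.Psub_le`, `InvFacts.norm_conj`: facts inside `PSL(4,3)`
* `Emb.cent_R`, `Emb.norm_R`: the normalizer of `R` in the centralizer of `tEl` lies in the image
* `Emb.sylow_two`: the image of `T` is a Sylow 2-subgroup; `Emb.small_two`
-/

set_option autoImplicit false

namespace Cfsg.Agent.PSLFourThree

universe u

variable {T R M : Subgroup L4} {a b τ : L4}

theorem InvFacts.Psub_le (F : InvFacts T R M a b τ) : Psub ≤ CtL :=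
  (Subgroup.closure_le _).2 (by rintro g (rfl | rfl); exacts [F.z_mem, F.u_mem])

theorem InvFacts.R_le_T (F : InvFacts T R M a b τ) : R ≤ T := F.M_le.1.trans F.M_le.2.1

theorem InvFacts.R_le_Ct (F : InvFacts T R M a b τ) : R ≤ CtL := F.R_le_T.trans F.T_le

theorem InvFacts.norm_conj (F : InvFacts T R M a b τ) {c r : L4} (hc : c ∈ CtL) (hr : r ∈ R) :
    c * r * c⁻¹ ∈ R := (Subgroup.mem_normalizer_iff.1 (F.R_norm hc) r).1 hr

theorem InvFacts.t_comm {r : L4} (hr : r ∈ CtL) : r * tEl = tEl * r :=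
  Subgroup.mem_centralizer_singleton_iff.1 hr

theorem InvFacts.t_sq (F : InvFacts T R M a b τ) : tEl * tEl = 1 := by
  rw [← pow_two, ← F.t_invol, pow_orderOf_eq_one]

variable {G : Type u} [Group G] {φ : L4 →* G}

/-- The centralizer of the image of `tEl`. -/
abbrev Xt (φ : L4 →* G) : Subgroup G := Subgroup.centralizer ({φ tEl} : Set G)

theorem map_mem_Xt {g : L4} (hg : g ∈ CtL) : φ g ∈ Xt φ :=
  Subgroup.mem_centralizer_singleton_iff.2 (by rw [← map_mul, ← map_mul, InvFacts.t_comm hg])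

theorem mem_CtL_of_map (E : Emb φ) {g : L4} (hg : φ g ∈ Xt φ) : g ∈ CtL :=
  Subgroup.mem_centralizer_singleton_iff.2 (E.inj (by
    rw [map_mul, map_mul, Subgroup.mem_centralizer_singleton_iff.1 hg]))

variable [Finite G]

theorem Psub_not_cyclic (E : Emb φ) : ¬ IsCyclic (Psub.map φ) := by
  intro hc
  obtain ⟨g, hg⟩ := IsCyclic.exists_generator (α := Psub.map φ)
  have e : Nat.card (Psub.map φ) = orderOf g := (orderOf_eq_card_of_forall_mem_zpowers hg).symm
  rw [Subgroup.card_map_of_injective E.inj, card_Psub] at e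
  have h3 : g ^ 3 = 1 := by
    obtain ⟨p, hp, hpe⟩ := g.2
    refine Subtype.ext ?_
    rw [SubmonoidClass.coe_pow, ← hpe, ← map_pow, Jsub_pow_three (Psub_le_Jsub hp), map_one,
      Subgroup.coe_one]
  have := Nat.le_of_dvd (by norm_num) (orderOf_dvd_of_pow_eq_one h3)
  omega

/-- The centralizer of `R` in the centralizer of `tEl`. -/
theorem Emb.cent_R (E : Emb φ) (F : InvFacts T R M a b τ) {g : G} (hg : g ∈ Xt φ)
    (h : ∀ r ∈ R, g * φ r = φ r * g) : g = 1 ∨ g = φ tEl := by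
  have : Fact (Nat.Prime 3) := ⟨Nat.prime_three⟩
  obtain ⟨S, hS⟩ := E.sylow_three_t F.card_cent F.z_mem F.u_mem
  set D := Xt φ ⊓ Subgroup.centralizer (R.map φ : Set G) with hD
  have hgD : g ∈ D := ⟨hg, fun y hy => by obtain ⟨r, hr, rfl⟩ := hy; exact (h r hr).symm⟩
  suffices hDr : D ≤ φ.range by
    obtain ⟨m, rfl⟩ := hDr hgD
    rcases F.R_cent m (mem_CtL_of_map E hg) (fun r hr => E.inj (by rw [map_mul, map_mul]; exact h r hr))
      with rfl | rfl
    · exact Or.inl (map_one φ)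
    · exact Or.inr rfl
  have hPD : Psub.map φ ≤ Subgroup.normalizer (D : Set G) := by
    rintro _ ⟨p, hp, rfl⟩
    refine Coprime.mem_normalizer_of_forall fun d hd => ⟨?_, fun y hy => ?_⟩
    · exact (Xt φ).mul_mem ((Xt φ).mul_mem (map_mem_Xt (F.Psub_le hp)) hd.1)
        ((Xt φ).inv_mem (map_mem_Xt (F.Psub_le hp)))
    · obtain ⟨r, hr, rfl⟩ := hy
      have e : φ r = φ p * φ (p⁻¹ * r * p) * (φ p)⁻¹ := by
        simp only [map_mul, map_inv]; group
      have hd' : φ (p⁻¹ * r * p) * d = d * φ (p⁻¹ * r * p) := hd.2 _ ⟨_, by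
        have := F.norm_conj (inv_mem (F.Psub_le hp)) hr
        rwa [inv_inv] at this, rfl⟩
      rw [e]
      calc φ p * φ (p⁻¹ * r * p) * (φ p)⁻¹ * (φ p * d * (φ p)⁻¹)
          = φ p * (φ (p⁻¹ * r * p) * d) * (φ p)⁻¹ := by group
        _ = φ p * (d * φ (p⁻¹ * r * p)) * (φ p)⁻¹ := by rw [hd']
        _ = _ := by group
  have hco : (Nat.card D).Coprime 3 := by
    refine ((Nat.Prime.coprime_iff_not_dvd Nat.prime_three).2 fun h3 => ?_).symm
    obtain ⟨x, hx⟩ := exists_prime_orderOf_dvd_card' (G := D) 3 h3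
    set D' := D.subgroupOf (Xt φ)
    set N' := D' ⊔ (S : Subgroup (Xt φ))
    have hN : N' ≤ Subgroup.normalizer (D' : Set (Xt φ)) := sup_le Subgroup.le_normalizer fun s hs => by
      refine Coprime.mem_normalizer_of_forall fun d hd => ?_
      exact (Subgroup.mem_normalizer_iff.1 (hPD ((hS s).1 hs)) _).1 hd
    let SN : Sylow 3 N' := S.subtype le_sup_right
    set x' : N' := ⟨⟨(x : G), x.2.1⟩, Subgroup.mem_sup_left x.2⟩
    have hx3 : IsPGroup 3 (Subgroup.zpowers x') := IsPGroup.of_card (n := 1) (by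
      rw [Nat.card_zpowers, pow_one, ← hx]
      exact (orderOf_injective ((Xt φ).subtype.comp N'.subtype)
        (Subtype.val_injective.comp Subtype.val_injective) x').symm.trans
          (orderOf_injective D.subtype Subtype.val_injective x))
    obtain ⟨S', hS'⟩ := hx3.exists_le_sylow
    obtain ⟨c, hc⟩ := MulAction.exists_smul_eq N' S' SN
    have hmem : c * x' * c⁻¹ ∈ (SN : Subgroup N') := by
      rw [← hc]
      exact ⟨x', hS' (Subgroup.mem_zpowers x'), rfl⟩
    have hD'' : ((c * x' * c⁻¹ : N') : Xt φ) ∈ D' :=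
      (Subgroup.mem_normalizer_iff.1 (hN c.2) _).1 x.2
    obtain ⟨p, hp, e⟩ := (hS _).1 hmem
    have hd : φ p ∈ D := by
      have hd0 : (((c * x' * c⁻¹ : N') : Xt φ) : G) ∈ D := hD''
      have e' : φ p = (((c * x' * c⁻¹ : N') : Xt φ) : G) := e
      rwa [← e'] at hd0
    have hp1 : p = 1 := by
      rcases F.R_cent p (F.Psub_le hp) (fun r hr => E.inj (by
        rw [map_mul, map_mul]; exact (hd.2 _ ⟨r, hr, rfl⟩).symm)) with h1 | h1
      · exact h1
      · subst h1
        exact eq_one_of_square_of_cube F.t_sq (Jsub_pow_three (Psub_le_Jsub hp))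
    rw [hp1, map_one] at e
    have hc1 : c * x' * c⁻¹ = 1 := Subtype.ext (Subtype.ext e.symm)
    rw [conj_eq_one_iff] at hc1
    have hx1 : x = 1 := Subtype.ext (congrArg (fun y : N' => ((y : Xt φ) : G)) hc1)
    rw [hx1, orderOf_one] at hx
    exact absurd hx (by norm_num)
  have : IsMulCommutative (Psub.map φ) := ⟨⟨by
    rintro ⟨_, p, hp, rfl⟩ ⟨_, q, hq, rfl⟩
    exact Subtype.ext (by
      show φ p * φ q = φ q * φ p
      rw [← map_mul, ← map_mul, Jsub_comm (Psub_le_Jsub hp) (Psub_le_Jsub hq)])⟩⟩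
  refine Coprime.le_of_noncyclic (Psub_not_cyclic E) hPD ?_ fun y hy hy1 => ?_
  · rw [Subgroup.card_map_of_injective E.inj, card_Psub, show 9 = 3 ^ 2 by norm_num]
    exact (Nat.Coprime.pow_right 2 hco).symm
  · obtain ⟨p, hp, rfl⟩ := hy
    exact inf_le_right.trans (E.cent_J (Psub_le_Jsub hp) fun h => hy1 (by rw [h, map_one]))

/-- The normalizer of `R` in the centralizer of `tEl` lies in the image. -/
theorem Emb.norm_R (E : Emb φ) (F : InvFacts T R M a b τ) {g : G} (hg : g ∈ Xt φ)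
    (h : ∀ r ∈ R, g * φ r * g⁻¹ ∈ R.map φ) : g ∈ φ.range := by
  obtain ⟨ha, hb, ha2, hb2, hab⟩ := F.ab_mem
  obtain ⟨u, hu, eu⟩ := h a ha
  obtain ⟨v, hv, ev⟩ := h b hb
  have hgt : g * φ tEl * g⁻¹ = φ tEl := by
    rw [Subgroup.mem_centralizer_singleton_iff.1 hg, mul_inv_cancel_right]
  have hu2 : u * u = tEl := E.inj (by
    rw [map_mul, eu, ← hgt, ← ha2, map_mul]; group)
  have hv2 : v * v = tEl := E.inj (by
    rw [map_mul, ev, ← hgt, ← hb2, map_mul]; group)
  have huv : u * v = v * u * tEl := E.inj (by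
    rw [map_mul, map_mul, map_mul, eu, ev, ← hgt]
    calc g * φ a * g⁻¹ * (g * φ b * g⁻¹) = g * φ (a * b) * g⁻¹ := by rw [map_mul]; group
      _ = _ := by rw [hab, map_mul, map_mul]; group)
  obtain ⟨c, hc, hca, hcb⟩ := F.aut u hu v hv hu2 hv2 huv
  set g' := (φ c)⁻¹ * g with hg'
  have ga : g' * φ a * g'⁻¹ = φ a := by
    calc g' * φ a * g'⁻¹ = (φ c)⁻¹ * (g * φ a * g⁻¹) * φ c := by rw [hg']; group
      _ = φ a := by rw [← eu, ← hca, map_mul, map_mul, map_inv]; group
  have gb : g' * φ b * g'⁻¹ = φ b := by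
    calc g' * φ b * g'⁻¹ = (φ c)⁻¹ * (g * φ b * g⁻¹) * φ c := by rw [hg']; group
      _ = φ b := by rw [← ev, ← hcb, map_mul, map_mul, map_inv]; group
  have hg'X : g' ∈ Xt φ := mul_mem (inv_mem (map_mem_Xt hc)) hg
  have hn' : ∀ r ∈ R, g' * φ r * g'⁻¹ ∈ R.map φ := fun r hr => by
    obtain ⟨s, hs, es⟩ := h r hr
    refine ⟨c⁻¹ * s * c, by simpa using F.norm_conj (inv_mem hc) hs, ?_⟩
    rw [map_mul, map_mul, map_inv, es, hg']
    group
  have hfix : ∀ y ∈ Subgroup.closure ({a, b} : Set L4), g' * φ y * g'⁻¹ = φ y := by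
    intro y hy
    induction hy using Subgroup.closure_induction with
    | mem x hx => rcases hx with rfl | rfl; exacts [ga, gb]
    | one => rw [map_one, mul_one, mul_inv_cancel]
    | mul p q _ _ hp hq =>
      calc g' * φ (p * q) * g'⁻¹ = g' * φ p * g'⁻¹ * (g' * φ q * g'⁻¹) := by rw [map_mul]; group
        _ = φ (p * q) := by rw [hp, hq, map_mul]
    | inv p _ hp =>
      calc g' * φ p⁻¹ * g'⁻¹ = (g' * φ p * g'⁻¹)⁻¹ := by rw [map_inv]; group
        _ = φ p⁻¹ := by rw [hp, map_inv]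
  set w := (φ uEl)⁻¹ * (g' * φ uEl * g'⁻¹) with hw
  have huX : φ uEl ∈ Xt φ := map_mem_Xt F.u_mem
  have hwX : w ∈ Xt φ := mul_mem (inv_mem huX) (mul_mem (mul_mem hg'X huX) (inv_mem hg'X))
  have key : ∀ y : L4, g' * φ y * g'⁻¹ = φ y → g' * φ (uEl * y * uEl⁻¹) * g'⁻¹ = φ (uEl * y * uEl⁻¹) →
      Commute w (φ y) := fun y h1 h2 => by
    refine mul_inv_eq_iff_eq_mul.1 ?_
    have h1' : g'⁻¹ * φ y * g' = φ y := by
      conv_lhs => rw [← h1]
      group
    calc w * φ y * w⁻¹
        = (φ uEl)⁻¹ * (g' * φ uEl * (g'⁻¹ * φ y * g') * (φ uEl)⁻¹ * g'⁻¹) * φ uEl := by rw [hw]; group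
      _ = (φ uEl)⁻¹ * (g' * φ (uEl * y * uEl⁻¹) * g'⁻¹) * φ uEl := by
          rw [h1', map_mul, map_mul, map_inv]; group
      _ = φ y := by rw [h2, map_mul, map_mul, map_inv]; group
  have hwa : Commute w (φ a) := key a ga (hfix _ F.u_act.1)
  have hwb : Commute w (φ b) := key b gb (hfix _ F.u_act.2)
  have hwR : R ≤ (Subgroup.centralizer ({w} : Set G)).comap φ := F.split.trans <| (Subgroup.closure_le _).2 (by
    rintro y ((rfl | rfl) | ⟨hy, hya, hyb, hyu⟩)
    · exact Subgroup.mem_centralizer_singleton_iff.2 hwa.eq.symm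
    · exact Subgroup.mem_centralizer_singleton_iff.2 hwb.eq.symm
    refine Subgroup.mem_centralizer_singleton_iff.2 (Eq.symm ?_)
    -- the preimage of `y` under `g'` lies in `R` and commutes with `a` and `b`
    have hbij : (R.map φ).map (MulAut.conj g').toMonoidHom = R.map φ := by
      refine Subgroup.eq_of_le_of_card_ge ?_ (Subgroup.card_map_of_injective (MulAut.conj g').injective).ge
      rintro _ ⟨_, ⟨r, hr, rfl⟩, rfl⟩
      exact hn' r hr
    obtain ⟨_, ⟨r, hr, rfl⟩, hre⟩ : φ y ∈ (R.map φ).map (MulAut.conj g').toMonoidHom := by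
      rw [hbij]; exact ⟨y, hy, rfl⟩
    have hre' : g' * φ r * g'⁻¹ = φ y := hre
    have hc : ∀ s, g' * φ s * g'⁻¹ = φ s → y * s = s * y → r * s = s * r := fun s hs hys => E.inj (by
      refine mul_left_cancel (a := g') (mul_right_cancel (b := g'⁻¹) ?_)
      calc g' * φ (r * s) * g'⁻¹ = g' * φ r * g'⁻¹ * (g' * φ s * g'⁻¹) := by rw [map_mul]; group
        _ = φ (y * s) := by rw [hre', hs, map_mul]
        _ = g' * φ s * g'⁻¹ * (g' * φ r * g'⁻¹) := by rw [hys, hre', hs, map_mul]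
        _ = g' * φ (s * r) * g'⁻¹ := by rw [map_mul]; group)
    have hru := F.split_u r hr (hc a ga hya) (hc b gb hyb)
    have h1 : Commute (φ uEl) (φ y) := (show Commute uEl y from hyu.symm).map φ
    have h2 : Commute (g' * φ uEl * g'⁻¹) (φ y) := by
      rw [← hre']
      exact ((show Commute uEl r from hru.symm).map φ).conj g'
    exact (h1.inv_left.mul_left h2).eq)
  rcases E.cent_R F hwX (fun r hr => (Subgroup.mem_centralizer_singleton_iff.1 (hwR hr)).symm) with e | e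
  · have hc1 : Commute g' (φ uEl) := mul_inv_eq_iff_eq_mul.1 (by rw [hw, inv_mul_eq_one] at e; exact e.symm)
    obtain ⟨m, hm⟩ := E.cent_J (Psub_le_Jsub (Subgroup.subset_closure (by simp)))
      (fun h => by
        rw [uEl_eq] at h
        have := jE_inj (h.trans (map_one jHom).symm)
        exact absurd (congrFun (congrFun this 1) 0) (by decide))
      (Subgroup.mem_centralizer_singleton_iff.2 (hc1.eq : g' * φ uEl = φ uEl * g'))
    exact ⟨c * m, by rw [map_mul, hm, hg', mul_inv_cancel_left]⟩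
  · exfalso
    rw [hw, inv_mul_eq_iff_eq_mul] at e
    have e3 : (φ uEl * φ tEl) ^ 3 = 1 := by
      rw [← e, conj_pow, ← map_pow, Jsub_pow_three (Psub_le_Jsub (Subgroup.subset_closure (by simp))),
        map_one, mul_one, mul_inv_cancel]
    rw [← map_mul, ← map_pow, ← map_one φ, (show Commute uEl tEl from InvFacts.t_comm F.u_mem).mul_pow,
      Jsub_pow_three (Psub_le_Jsub (Subgroup.subset_closure (by simp))), one_mul] at e3
    have := eq_one_of_square_of_cube F.t_sq (E.inj e3)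
    have h2 := F.t_invol
    rw [this, orderOf_one] at h2
    exact absurd h2 (by norm_num)

theorem InvFacts.center_eq (F : InvFacts T R M a b τ) {g : L4} (hg : g ∈ T) (hg1 : g ≠ 1)
    (h : ∀ y ∈ T, g * y = y * g) : g = tEl := (F.T_center g hg h).resolve_left hg1

theorem InvFacts.tEl_mem (F : InvFacts T R M a b τ) : tEl ∈ T := by
  obtain ⟨ha, -, ha2, -, -⟩ := F.ab_mem
  exact ha2 ▸ T.mul_mem (F.R_le_T ha) (F.R_le_T ha)

/-- The image of `T` is a Sylow 2-subgroup of the whole group. -/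
theorem Emb.sylow_two (E : Emb φ) (F : InvFacts T R M a b τ) :
    ∃ S : Sylow 2 G, (S : Subgroup G) = T.map φ := by
  have : Fact (Nat.Prime 2) := ⟨Nat.prime_two⟩
  have hTp : IsPGroup 2 (T.map φ) :=
    IsPGroup.of_card (n := 7) (by rw [Subgroup.card_map_of_injective E.inj, F.T_card]; norm_num)
  obtain ⟨S, hS⟩ := hTp.exists_le_sylow
  refine ⟨S, le_antisymm (fun x hx => ?_) hS⟩
  by_contra hne
  have := S.isPGroup'.isNilpotent
  have hlt := Group.normalizerCondition_of_isNilpotent ((T.map φ).subgroupOf (S : Subgroup G)) (by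
    rw [lt_top_iff_ne_top, Ne, Subgroup.subgroupOf_eq_top]
    exact fun h => hne (h hx))
  obtain ⟨n, hn, hnS⟩ := SetLike.exists_of_lt hlt
  have hconj : ∀ y ∈ T, (n : G) * φ y * (n : G)⁻¹ ∈ T.map φ := fun y hy =>
    (Subgroup.mem_normalizer_iff.1 hn ⟨φ y, hS ⟨y, hy, rfl⟩⟩).1
      (Subgroup.mem_subgroupOf.2 ⟨y, hy, rfl⟩)
  have hbij : (T.map φ).map (MulAut.conj (n : G)).toMonoidHom = T.map φ := by
    refine Subgroup.eq_of_le_of_card_ge ?_ (Subgroup.card_map_of_injective (MulAut.conj (n : G)).injective).ge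
    rintro _ ⟨_, ⟨y, hy, rfl⟩, rfl⟩
    exact hconj y hy
  obtain ⟨w, hw, ew⟩ := hconj tEl F.tEl_mem
  have hwt : w = tEl := by
    refine F.center_eq hw (fun h => ?_) fun y hy => E.inj ?_
    · rw [h, map_one, eq_comm, conj_eq_one_iff, ← map_one φ] at ew
      have := E.inj ew
      have h2 := F.t_invol
      rw [this, orderOf_one] at h2
      exact absurd h2 (by norm_num)
    · obtain ⟨_, ⟨d, hd, rfl⟩, hde⟩ : φ y ∈ (T.map φ).map (MulAut.conj (n : G)).toMonoidHom := by
        rw [hbij]; exact ⟨y, hy, rfl⟩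
      have hde' : (n : G) * φ d * (n : G)⁻¹ = φ y := hde
      rw [map_mul, map_mul, ew, ← hde']
      exact (((show Commute d tEl from InvFacts.t_comm (F.T_le hd)).symm.map φ).conj (n : G)).eq
  rw [hwt] at ew
  have hnX : (n : G) ∈ Xt φ := Subgroup.mem_centralizer_singleton_iff.2 (mul_inv_eq_iff_eq_mul.1 ew.symm)
  obtain ⟨m, hm⟩ := E.norm_R F hnX fun r hr => by
    -- `R` is generated by the elements of `T` with square `tEl`
    have : R ≤ (R.map φ).comap ((MulAut.conj (n : G)).toMonoidHom.comp φ) := by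
      conv_lhs => rw [F.R_gen]
      refine (Subgroup.closure_le _).2 ?_
      rintro y ⟨hy, hy2⟩
      obtain ⟨s, hs, es⟩ := hconj y hy
      have hs2 : s * s = tEl := E.inj (by
        rw [map_mul, es, ew, ← hy2, map_mul]; group)
      exact ⟨s, F.R_gen ▸ Subgroup.subset_closure ⟨hs, hs2⟩, es⟩
    exact this hr
  -- `T` together with `m` generates a 2-subgroup of the centralizer
  set U := (S : Subgroup G).comap φ ⊓ CtL
  have hUp : IsPGroup 2 U :=
    (S.isPGroup'.comap_of_injective φ E.inj).to_le inf_le_left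
  have hTU : T ≤ U := fun y hy => ⟨hS ⟨y, hy, rfl⟩, F.T_le hy⟩
  obtain ⟨k, hk⟩ := IsPGroup.iff_card.1 hUp
  have hd := Subgroup.card_dvd_of_le (inf_le_right : U ≤ CtL)
  have hd' := Subgroup.card_dvd_of_le hTU
  rw [hk, F.card_cent] at hd
  rw [hk, F.T_card] at hd'
  have hk7 : k ≤ 7 := by
    by_contra hh
    exact absurd (dvd_trans (pow_dvd_pow 2 (by omega : 8 ≤ k)) hd) (by norm_num)
  have hUT : U = T := (Subgroup.eq_of_le_of_card_ge hTU (by
    rw [hk, F.T_card]; exact (Nat.pow_le_pow_right (by norm_num) hk7).trans (by norm_num))).symm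
  have hmU : m ∈ U := ⟨show φ m ∈ (S : Subgroup G) from hm ▸ n.2, mem_CtL_of_map E (hm ▸ hnX)⟩
  rw [hUT] at hmU
  exact hnS (Subgroup.mem_subgroupOf.2 ⟨m, hmU, hm⟩)

/-- 2-subgroups centralizing `tTwo` have order at most 64. -/
theorem Emb.small_two (E : Emb φ) (F : InvFacts T R M a b τ) (hw : orderOf tTwo = 2)
    (hsep : ∀ g, g * φ tEl * g⁻¹ ≠ φ tTwo) {U : Subgroup G} (hU : IsPGroup 2 U)
    (hUC : U ≤ Subgroup.centralizer ({φ tTwo} : Set G)) : Nat.card U ≤ 64 := by
  have : Fact (Nat.Prime 2) := ⟨Nat.prime_two⟩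
  obtain ⟨S, hS⟩ := E.sylow_two F
  obtain ⟨S', hS'⟩ := hU.exists_le_sylow
  have hc : Nat.card (S' : Subgroup G) = 128 := by
    rw [S'.card_eq_multiplicity, ← S.card_eq_multiplicity, hS, Subgroup.card_map_of_injective E.inj, F.T_card]
  obtain ⟨k, hk⟩ := IsPGroup.iff_card.1 hU
  have hle := Subgroup.card_dvd_of_le hS'
  rw [hk, hc, show 128 = 2 ^ 7 by norm_num, Nat.pow_dvd_pow_iff_le_right (by norm_num)] at hle
  rcases Nat.lt_or_ge k 7 with h | h
  · rw [hk]; exact (Nat.pow_le_pow_right (by norm_num) (by omega : k ≤ 6)).trans (by norm_num)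
  exfalso
  have hk7 : k = 7 := by omega
  have hUS : U = (S' : Subgroup G) := Subgroup.eq_of_le_of_card_ge hS' (by rw [hc, hk, hk7]; norm_num)
  obtain ⟨g, hg⟩ := MulAction.exists_smul_eq G S' S
  -- the involution centralizes the conjugate Sylow subgroup, so lies in it
  have hp : IsPGroup 2 (Subgroup.zpowers (φ tTwo)) :=
    IsPGroup.of_card (n := 1) (by rw [Nat.card_zpowers, orderOf_injective φ E.inj, hw, pow_one])
  have hmemS : φ tTwo ∈ (S' : Subgroup G) := by
    have hn : Subgroup.zpowers (φ tTwo) ≤ Subgroup.normalizer ((S' : Subgroup G) : Set G) := by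
      rw [Subgroup.zpowers_le]
      refine Subgroup.centralizer_le_normalizer _ (Subgroup.mem_centralizer_iff.2 fun y hy => ?_)
      exact Subgroup.mem_centralizer_singleton_iff.1 (hUC (hUS.symm ▸ hy))
    have := S'.is_maximal' (hp.to_sup_of_normal_right' S'.isPGroup' hn) le_sup_right
    have h := le_sup_left (b := (S' : Subgroup G)) (Subgroup.mem_zpowers (φ tTwo))
    rw [this] at h
    exact h
  have hmap : ∀ y, y ∈ (S' : Subgroup G) → g * y * g⁻¹ ∈ T.map φ := fun y hy => by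
    rw [← hS, ← hg]; exact ⟨y, hy, rfl⟩
  obtain ⟨w, hwT, ew⟩ := hmap _ hmemS
  have hw1 : w = tEl := by
    refine F.center_eq hwT (fun h => ?_) fun y hy => E.inj ?_
    · rw [h, map_one, eq_comm, conj_eq_one_iff, ← map_one φ] at ew
      have := E.inj ew
      rw [this, orderOf_one] at hw
      exact absurd hw (by norm_num)
    · obtain ⟨y', hy', hye⟩ : ∃ y' ∈ (S' : Subgroup G), g * y' * g⁻¹ = φ y := by
        have : φ y ∈ (S : Subgroup G) := hS.symm ▸ ⟨y, hy, rfl⟩
        rw [← hg] at this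
        obtain ⟨y', hy', e⟩ := this
        exact ⟨y', hy', e⟩
      rw [map_mul, map_mul, ew, ← hye]
      exact (Commute.conj (show Commute (φ tTwo) y' from
        (Subgroup.mem_centralizer_singleton_iff.1 (hUC (hUS.symm ▸ hy'))).symm) g).eq
  rw [hw1] at ew
  exact hsep g⁻¹ (by rw [ew]; group)

end Cfsg.Agent.PSLFourThree
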