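import Cfsg.Agent.Lib.PSLFourThree.JCent

/-!
# Sylow subgroups of the two involution centralizers

* `Psub`: the group of order nine generated by `zEl` and `uEl`
* `Emb.range_of_conj_z`: an element moving the root element into the radical lies in the image
* `Emb.sylow_three_t`, `Emb.sylow_three_two`: Sylow 3-subgroups of the centralizers
* `Emb.t_not_two`: the two classes of involutions are not fused
-/

set_option autoImplicit false

namespace Cfsg.Agent.PSLFourThree

open Matrix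

universe u

/-- The group generated by `zEl` and `uEl`. -/
abbrev Psub : Subgroup L4 := Subgroup.closure ({zEl, uEl} : Set L4)

theorem Psub_le_Jsub : Psub ≤ Jsub := by
  refine (Subgroup.closure_le _).2 ?_
  rintro g (rfl | rfl)
  · exact zEl_eq ▸ jE_mem _
  · exact uEl_eq ▸ jE_mem _

theorem card_Psub : Nat.card Psub = 9 := by
  let f : ZMod 3 × ZMod 3 → L4 := fun p => jE !![0, p.1; p.2, 0]
  have hf : Function.Injective f := fun p q h => by
    have := jE_inj h
    exact Prod.ext (congrFun (congrFun this 0) 1) (congrFun (congrFun this 1) 0)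
  have hadd : ∀ p q, f (p + q) = f p * f q := fun p q => by
    show jE _ = jE _ * jE _
    rw [← jE_add]
    congr 1
    ext i j
    fin_cases i <;> fin_cases j <;> simp
  let F : Multiplicative (ZMod 3 × ZMod 3) →* L4 :=
    MonoidHom.mk' (fun p => f p.toAdd) fun p q => hadd _ _
  have hr : F.range = Psub := by
    refine le_antisymm ?_ ((Subgroup.closure_le _).2 ?_)
    · rintro _ ⟨p, rfl⟩
      obtain ⟨a, b⟩ := p
      have key : ∀ a b : ZMod 3, (!![0, a; b, 0] : M2) =
          a.val • !![0, 1; 0, 0] + b.val • !![0, 0; 1, 0] := by decide +kernel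
      show jE !![0, a; b, 0] ∈ Psub
      rw [key, jE_add]
      refine mul_mem ?_ ?_
      · show jHom (Multiplicative.ofAdd (a.val • (!![0, 1; 0, 0] : M2))) ∈ Psub
        rw [ofAdd_nsmul, map_pow]
        refine pow_mem (Subgroup.subset_closure ?_) _
        simp [zEl_eq]
      · show jHom (Multiplicative.ofAdd (b.val • (!![0, 0; 1, 0] : M2))) ∈ Psub
        rw [ofAdd_nsmul, map_pow]
        refine pow_mem (Subgroup.subset_closure ?_) _
        simp [uEl_eq]
    · rintro g (rfl | rfl)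
      · exact ⟨Multiplicative.ofAdd (1, 0), zEl_eq.symm⟩
      · exact ⟨Multiplicative.ofAdd (0, 1), uEl_eq.symm⟩
  rw [← hr, ← Nat.card_congr (MonoidHom.ofInjective (f := F)
    (hf.comp Multiplicative.toAdd.injective)).toEquiv, Nat.card_congr Multiplicative.toAdd,
    Nat.card_eq_fintype_card]
  decide

theorem lSub_det : ∀ a b : ZMod 3, (a • (1 : M2) + b • !![0, -1; 1, 0]).det = 0 →
    a • (1 : M2) + b • !![0, -1; 1, 0] = 0 := by decide +kernel

theorem lSub_form {g : L4} (hg : g ∈ lSub) :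
    ∃ a b : ZMod 3, g = jE (a • (1 : M2) + b • !![0, -1; 1, 0]) := by
  induction hg using Subgroup.closure_induction with
  | mem x hx =>
    rcases hx with rfl | rfl
    · refine ⟨1, 0, ?_⟩
      rw [← map_mul, one_smul, zero_smul, add_zero]
      refine congrArg pr (Subtype.ext ?_)
      rw [Matrix.SpecialLinearGroup.coe_mul]
      ext i j
      fin_cases i <;> fin_cases j <;> decide
    · refine ⟨0, 1, ?_⟩
      rw [← map_mul, one_smul, zero_smul, zero_add]
      refine congrArg pr (Subtype.ext ?_)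
      rw [Matrix.SpecialLinearGroup.coe_mul]
      ext i j
      fin_cases i <;> fin_cases j <;> decide
  | one => exact ⟨0, 0, by rw [zero_smul, zero_smul, add_zero]; exact (map_one jHom).symm⟩
  | mul x y _ _ hx hy =>
    obtain ⟨a, b, rfl⟩ := hx
    obtain ⟨c, d, rfl⟩ := hy
    exact ⟨a + c, b + d, by rw [← jE_add, add_smul, add_smul]; congr 1; abel⟩
  | inv x _ hx =>
    obtain ⟨a, b, rfl⟩ := hx
    exact ⟨-a, -b, by rw [← map_inv, ← ofAdd_neg, neg_add, neg_smul, neg_smul]⟩

theorem jOne_mem_lSub : jOne ∈ lSub := by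
  have e : jOne = pr (x (i := 0) (j := 2) (by decide) 1) * pr (x (i := 1) (j := 3) (by decide) 1) := by
    rw [← map_mul]
    refine congrArg pr (Subtype.ext ?_)
    rw [Matrix.SpecialLinearGroup.coe_mul]
    ext i j
    fin_cases i <;> fin_cases j <;> decide
  rw [e]
  exact Subgroup.subset_closure (by simp)

theorem iEl_mem_lSub : jE !![0, -1; 1, 0] ∈ lSub := by
  have e : jE !![0, -1; 1, 0] =
      pr (x (i := 0) (j := 3) (by decide) (-1)) * pr (x (i := 1) (j := 2) (by decide) 1) := by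
    rw [← map_mul]
    refine congrArg pr (Subtype.ext ?_)
    rw [Matrix.SpecialLinearGroup.coe_mul]
    ext i j
    fin_cases i <;> fin_cases j <;> decide
  rw [e]
  exact Subgroup.subset_closure (by simp)

theorem centre_block : ∀ A : M2, A.det ≠ 0 → A * !![0, -1; 1, 0] = !![0, -1; 1, 0] * A →
    (A * A * A = 1 ∨ A * A * A = -1) → A = 1 ∨ A = -1 := by decide +kernel

/-- Elements of order three commuting with `lSub` lie in the radical. -/
theorem mem_Jsub_of_comm {w : L4} (h3 : w ^ 3 = 1) (h1 : Commute w jOne)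
    (h2 : Commute w (jE !![0, -1; 1, 0])) : w ∈ Jsub := by
  obtain ⟨a, A, X, ha, hA, hAd⟩ := cj_lift (Subgroup.mem_centralizer_singleton_iff.2 h1.eq)
  have hA0 : A.det ≠ 0 := fun h => by rw [h] at hAd; simp at hAd
  rw [← ha] at h2
  have e := commute_lift (b := jS !![0, -1; 1, 0]) h2 (by decide +kernel)
  rw [hA] at e
  have e' : blk A X A * blk 1 !![0, -1; 1, 0] 1 = blk 1 !![0, -1; 1, 0] 1 * blk A X A := e
  rw [blk_mul, blk_mul] at e'
  have hc : A * !![0, -1; 1, 0] = !![0, -1; 1, 0] * A := by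
    have := (blk_inj e').2.1
    rw [mul_one, one_mul, add_comm X] at this
    exact add_right_cancel this
  have hcube : A * A * A = 1 ∨ A * A * A = -1 := by
    rw [← ha, ← map_pow, ← map_one pr, eq_comm, pr_eq_iff, pow_succ, pow_two,
      Matrix.SpecialLinearGroup.coe_mul, Matrix.SpecialLinearGroup.coe_mul, hA, blk_mul, blk_mul,
      Matrix.SpecialLinearGroup.coe_one, ← blk_one, blk_neg] at h3
    exact h3.imp (fun h => (blk_inj h).1) (fun h => (blk_inj h).1)
  rcases centre_block A hA0 hc hcube with h | h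
  · refine ⟨Multiplicative.ofAdd X, ?_⟩
    rw [← ha]
    refine congrArg pr (Subtype.ext ?_)
    show blk 1 X 1 = a.1
    rw [hA, h]
  · refine ⟨Multiplicative.ofAdd (-X), ?_⟩
    rw [← ha]
    show pr (jS (-X)) = pr a
    rw [pr_eq_iff]
    refine Or.inr ?_
    show a.1 = -blk 1 (-X) 1
    rw [hA, h, blk_neg, neg_neg]

variable {G : Type u} [Group G] {φ : L4 →* G}

/-- An element moving the root element into the radical lies in the image. -/
theorem Emb.range_of_conj_z (E : Emb φ) {g : G} (h : g * φ zEl * g⁻¹ ∈ Jsub.map φ) :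
    g ∈ φ.range := by
  obtain ⟨w, hw, e⟩ := h
  obtain ⟨X, rfl⟩ := mem_Jsub.1 hw
  have hX : X ≠ 0 := fun h => by
    subst h
    rw [show jE (0 : M2) = 1 from map_one jHom, map_one, eq_comm, conj_eq_one_iff, ← map_one φ] at e
    exact zEl_ne_one (E.inj e)
  rcases types X hX with ⟨-, A, B, hAB, hm⟩ | ⟨h0, -⟩
  · rw [← hm] at e
    simp only [map_mul, map_inv] at e
    have hc : Commute ((φ (lev A B hAB))⁻¹ * g) (φ zEl) := by
      refine mul_inv_eq_iff_eq_mul.1 ?_
      calc (φ (lev A B hAB))⁻¹ * g * φ zEl * ((φ (lev A B hAB))⁻¹ * g)⁻¹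
          = (φ (lev A B hAB))⁻¹ * (g * φ zEl * g⁻¹) * φ (lev A B hAB) := by group
        _ = φ zEl := by rw [← e]; group
    obtain ⟨v, -, hv⟩ := E.range_of_commute hc
    exact ⟨lev A B hAB * v, by rw [map_mul, hv, mul_inv_cancel_left]⟩
  · exact absurd (E.det_of_conj e.symm) h0

variable [Finite G]

/-- A subgroup of order nine in a centralizer whose Sylow 3-subgroups in the image have order nine is
a Sylow subgroup, if its normalizer lies in the image. -/
theorem sylow_of_normalizer (E : Emb φ) {w : L4} {P : Subgroup L4} (hP : Nat.card P = 9)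
    (hPw : ∀ p ∈ P, p * w = w * p) (hcard : ¬ 27 ∣ Nat.card (Subgroup.centralizer ({w} : Set L4)))
    (hN : ∀ n : G, (∀ p ∈ P, n * φ p * n⁻¹ ∈ P.map φ) → n ∈ φ.range) :
    ∃ S : Sylow 3 (Subgroup.centralizer ({φ w} : Set G)), ∀ x : Subgroup.centralizer ({φ w} : Set G),
      x ∈ (S : Subgroup _) ↔ (x : G) ∈ P.map φ := by
  have : Fact (Nat.Prime 3) := ⟨Nat.prime_three⟩
  set X := Subgroup.centralizer ({φ w} : Set G)
  have hPX : P.map φ ≤ X := by
    rintro _ ⟨p, hp, rfl⟩
    exact Subgroup.mem_centralizer_singleton_iff.2 (by rw [← map_mul, ← map_mul, hPw p hp])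
  set P₀ := (P.map φ).subgroupOf X
  have hP₀c : Nat.card P₀ = 3 ^ 2 := by
    rw [Nat.card_congr (Subgroup.subgroupOfEquivOfLe hPX).toEquiv, Subgroup.card_map_of_injective E.inj, hP]
    norm_num
  obtain ⟨S, hS⟩ := (IsPGroup.of_card hP₀c).exists_le_sylow
  refine ⟨S, fun x => ⟨fun hx => ?_, fun hx => hS hx⟩⟩
  by_contra hne
  have := S.isPGroup'.isNilpotent
  have hlt := Group.normalizerCondition_of_isNilpotent (P₀.subgroupOf (S : Subgroup X)) (by
    rw [lt_top_iff_ne_top, Ne, Subgroup.subgroupOf_eq_top]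
    exact fun h => hne (h hx))
  obtain ⟨n, hn, hnS⟩ := SetLike.exists_of_lt hlt
  obtain ⟨m, hm⟩ := hN ((n : X) : G) fun p hp => by
    set p' : X := ⟨φ p, hPX ⟨p, hp, rfl⟩⟩
    exact (Subgroup.mem_normalizer_iff.1 hn ⟨p', hS ⟨p, hp, rfl⟩⟩).1
      (show p' ∈ P₀ from ⟨p, hp, rfl⟩)
  set C := Subgroup.centralizer ({w} : Set L4)
  have hmC : m ∈ C := Subgroup.mem_centralizer_singleton_iff.2 (E.inj (by
    rw [map_mul, map_mul, hm]
    exact Subgroup.mem_centralizer_singleton_iff.1 (n : X).2))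
  -- the preimage of `S` is a 3-subgroup of the centralizer in `PSL(4,3)`
  set U := ((S : Subgroup X).map X.subtype).comap φ
  have hUp : IsPGroup 3 U := fun u => by
    obtain ⟨s, hs, e⟩ := u.2
    obtain ⟨k, hk⟩ := S.isPGroup' ⟨s, hs⟩
    refine ⟨k, Subtype.ext (E.inj ?_)⟩
    rw [SubmonoidClass.coe_pow, map_pow, ← e, Subgroup.coe_one, map_one]
    exact congrArg (fun y : (S : Subgroup X) => ((y : X) : G)) hk
  have hUC : U ≤ C := fun u hu => by
    obtain ⟨s, -, e⟩ := hu
    refine Subgroup.mem_centralizer_singleton_iff.2 (E.inj ?_)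
    rw [map_mul, map_mul, ← e]
    exact Subgroup.mem_centralizer_singleton_iff.1 s.2
  have hPU : P ≤ U := fun p hp => ⟨⟨φ p, hPX ⟨p, hp, rfl⟩⟩, hS ⟨p, hp, rfl⟩, rfl⟩
  obtain ⟨k, hk⟩ := IsPGroup.iff_card.1 hUp
  have hd : Nat.card U ∣ Nat.card C := Subgroup.card_dvd_of_le hUC
  have hle : k ≤ 2 := by
    by_contra h
    refine hcard (dvd_trans ?_ hd)
    rw [hk]
    exact pow_dvd_pow 3 (by omega : 3 ≤ k)
  have hUP : U = P := (Subgroup.eq_of_le_of_card_ge hPU (by
    rw [hk, hP]; exact Nat.pow_le_pow_right (by norm_num) hle)).symm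
  have hmU : m ∈ U := ⟨(n : X), n.2, hm.symm⟩
  rw [hUP] at hmU
  exact hnS (Subgroup.mem_subgroupOf.2 ⟨m, hmU, hm⟩)

theorem Emb.sylow_three_t (E : Emb φ) (hcard : Nat.card CtL = 1152) (hz : zEl ∈ CtL) (hu : uEl ∈ CtL) :
    ∃ S : Sylow 3 (Subgroup.centralizer ({φ tEl} : Set G)),
      ∀ x : Subgroup.centralizer ({φ tEl} : Set G),
        x ∈ (S : Subgroup _) ↔ (x : G) ∈ Psub.map φ := by
  refine sylow_of_normalizer E card_Psub (fun p hp => ?_) (by rw [hcard]; norm_num) fun n hn =>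
    E.range_of_conj_z (Subgroup.map_mono Psub_le_Jsub (hn _ (Subgroup.subset_closure (by simp))))
  exact Subgroup.mem_centralizer_singleton_iff.1 ((Subgroup.closure_le _).2
    (by rintro g (rfl | rfl) <;> assumption) hp)

theorem Emb.sylow_three_two (E : Emb φ) (hcard : Nat.card CwL = 2880) (hlC : lSub ≤ CwL)
    (hl : Nat.card lSub = 9) :
    ∃ S : Sylow 3 (Subgroup.centralizer ({φ tTwo} : Set G)),
      ∀ x : Subgroup.centralizer ({φ tTwo} : Set G),
        x ∈ (S : Subgroup _) ↔ (x : G) ∈ lSub.map φ := by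
  refine sylow_of_normalizer E hl (fun p hp => Subgroup.mem_centralizer_singleton_iff.1 (hlC hp))
    (by rw [hcard]; norm_num) fun n hn => E.normalizer_J fun v hv => ?_
  obtain ⟨X, rfl⟩ : ∃ X, φ (jE X) = v := by
    obtain ⟨j, hj, rfl⟩ := hv
    obtain ⟨X, rfl⟩ := mem_Jsub.1 hj
    exact ⟨X, rfl⟩
  have hcomm : ∀ e ∈ lSub, Commute (n * φ (jE X) * n⁻¹) (φ e) := by
    intro e he
    -- `e` is the image of some element of `lSub` under conjugation by `n`
    have hbij : (lSub.map φ).map (MulAut.conj n).toMonoidHom = lSub.map φ := by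
      refine Subgroup.eq_of_le_of_card_ge ?_
        (Subgroup.card_map_of_injective (MulAut.conj n).injective).ge
      rintro _ ⟨_, ⟨p, hp, rfl⟩, rfl⟩
      exact hn p hp
    obtain ⟨_, ⟨d, hd, rfl⟩, hde⟩ : φ e ∈ (lSub.map φ).map (MulAut.conj n).toMonoidHom := by
      rw [hbij]; exact ⟨e, he, rfl⟩
    rw [← hde]
    exact ((show Commute (jE X) d from Jsub_comm (jE_mem X) (lSub_le_Jsub hd)).map φ).conj n
  obtain ⟨w, hw⟩ : n * φ (jE X) * n⁻¹ ∈ φ.range :=
    E.cent_J (jE_mem 1) (fun h => (one_ne_zero : (1 : M2) ≠ 0) (jE_inj (h.trans (map_one jHom).symm)))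
      (Subgroup.mem_centralizer_singleton_iff.2 (hcomm _ jOne_mem_lSub).eq)
  have hc : ∀ e ∈ lSub, Commute w e := fun e he => E.inj (by
    rw [map_mul, map_mul, hw]; exact (hcomm e he).eq)
  have h3 : w ^ 3 = 1 := E.inj (by
    rw [map_pow, hw, map_one, conj_pow, ← map_pow, Jsub_pow_three (jE_mem X), map_one, mul_one,
      mul_inv_cancel])
  exact ⟨w, mem_Jsub_of_comm h3 (hc _ jOne_mem_lSub) (hc _ iEl_mem_lSub), hw⟩

/-- The two classes of involutions are not fused. -/
theorem Emb.t_not_two (E : Emb φ) (hct : Nat.card CtL = 1152) (hz : zEl ∈ CtL)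
    (hcw : Nat.card CwL = 2880) (hlC : lSub ≤ CwL) (hl : Nat.card lSub = 9) (g : G) :
    g * φ tEl * g⁻¹ ≠ φ tTwo := by
  intro hg
  have : Fact (Nat.Prime 3) := ⟨Nat.prime_three⟩
  set X := Subgroup.centralizer ({φ tTwo} : Set G)
  obtain ⟨S, hS⟩ := E.sylow_three_two hcw hlC hl
  set y : X := ⟨g * φ zEl * g⁻¹, Subgroup.mem_centralizer_singleton_iff.2 (by
    rw [← hg]
    exact ((show Commute zEl tEl from Subgroup.mem_centralizer_singleton_iff.1 hz).map φ).conj g)⟩
  have hy : IsPGroup 3 (Subgroup.zpowers y) := by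
    have hy3 : y ^ 3 = 1 := Subtype.ext (by
      show (g * φ zEl * g⁻¹) ^ 3 = 1
      rw [conj_pow, ← map_pow, Jsub_pow_three (zEl_eq ▸ jE_mem _), map_one, mul_one, mul_inv_cancel])
    rintro ⟨v, k, rfl⟩
    refine ⟨1, Subtype.ext ?_⟩
    show (y ^ k) ^ (3 ^ 1) = 1
    rw [pow_one, ← zpow_natCast, ← _root_.zpow_mul, mul_comm, _root_.zpow_mul, zpow_natCast, hy3, _root_.one_zpow]
  obtain ⟨S', hS'⟩ := hy.exists_le_sylow
  obtain ⟨c, hc⟩ := MulAction.exists_smul_eq X S' S
  have hmem : c * y * c⁻¹ ∈ (S : Subgroup X) := by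
    rw [← hc]
    exact ⟨y, hS' (Subgroup.mem_zpowers y), rfl⟩
  obtain ⟨w, hw, e⟩ := (hS _).1 hmem
  obtain ⟨a, b, rfl⟩ := lSub_form hw
  have e' : (c : G) * g * φ zEl * ((c : G) * g)⁻¹ = φ (jE (a • (1 : M2) + b • !![0, -1; 1, 0])) := by
    rw [e]; show _ = (c : G) * (g * φ zEl * g⁻¹) * (c : G)⁻¹; group
  rw [lSub_det a b (E.det_of_conj e'), show jE (0 : M2) = 1 from map_one jHom, map_one,
    conj_eq_one_iff, ← map_one φ] at e'
  exact zEl_ne_one (E.inj e')

end Cfsg.Agent.PSLFourThree
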