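import Cfsg.Agent.Lib.PSLFourThree.Blocks

/-!
# The centralizer of a root element in `PSL(4,3)`

* `commute_lift`: commuting with the class of a matrix of nonzero trace
* `mid`: the action on the middle block; its kernel has exponent three
* `cent_involution_unique`: commuting involutions centralizing `zEl` are equal
* `cube_of_comm_JQ`: elements centralizing `zEl` and two root elements next to it
-/

set_option autoImplicit false

namespace Cfsg.Agent.PSLFourThree

open Matrix

theorem commute_lift {a b : S4} (h : Commute (pr a) (pr b)) (hb : b.1.trace ≠ 0) :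
    a.1 * b.1 = b.1 * a.1 := by
  have h' : pr (a * b) = pr (b * a) := by rw [map_mul, map_mul, h.eq]
  rcases pr_eq_iff.1 h' with e | e
  · exact e.symm
  · exfalso
    have e1 : b.1 * a.1 = -(a.1 * b.1) := e
    have hinv : a.1 * (a⁻¹ : S4).1 = 1 := by
      rw [← Matrix.SpecialLinearGroup.coe_mul, mul_inv_cancel, Matrix.SpecialLinearGroup.coe_one]
    have e2 : b.1 = -(a.1 * b.1 * (a⁻¹ : S4).1) := by
      rw [← neg_mul, ← e1, mul_assoc, hinv, mul_one]
    have e3 : b.1.trace = -b.1.trace := by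
      conv_lhs => rw [e2]
      rw [trace_neg, trace_mul_comm, ← mul_assoc, ← Matrix.SpecialLinearGroup.coe_mul a⁻¹ a,
        inv_mul_cancel, Matrix.SpecialLinearGroup.coe_one, one_mul]
    revert e3 hb
    generalize b.1.trace = c
    revert c
    decide

/-- The shape of the matrices commuting with `zEl`. -/
def CZ (g : Matrix (Fin 4) (Fin 4) (ZMod 3)) : Prop :=
  g 1 0 = 0 ∧ g 2 0 = 0 ∧ g 3 0 = 0 ∧ g 3 1 = 0 ∧ g 3 2 = 0 ∧ g 0 0 = g 3 3

theorem cz_of_commute {a : S4} (h : Commute (pr a) zEl) : CZ a.1 := by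
  rw [zEl_eq] at h
  have e := commute_lift (b := jS !![0, 1; 0, 0]) h (by decide +kernel)
  have e' : ∀ i j, (a.1 * (jS !![0, 1; 0, 0]).1) i j = ((jS !![0, 1; 0, 0]).1 * a.1) i j :=
    fun i j => by rw [e]
  have h13 := e' 1 3
  have h23 := e' 2 3
  have h33 := e' 3 3
  have h01 := e' 0 1
  have h02 := e' 0 2
  have h03 := e' 0 3
  simp [jS, blk, Matrix.mul_apply, Fin.sum_univ_four] at h13 h23 h33 h01 h02 h03
  refine ⟨h13, h23, h33, h01, h02, ?_⟩
  rw [add_comm (a.1 0 3)] at h03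
  exact add_right_cancel h03

/-- The middle block, normalised by the corner. -/
def midM (g : Matrix (Fin 4) (Fin 4) (ZMod 3)) : M2 :=
  g 0 0 • !![g 1 1, g 1 2; g 2 1, g 2 2]

theorem midM_neg (g : Matrix (Fin 4) (Fin 4) (ZMod 3)) : midM (-g) = midM g := by
  ext i j
  fin_cases i <;> fin_cases j <;> simp [midM]

theorem midM_mul {g k : Matrix (Fin 4) (Fin 4) (ZMod 3)} (hg : CZ g) (hk : CZ k) :
    midM (g * k) = midM g * midM k := by
  obtain ⟨g1, g2, g3, g4, g5, -⟩ := hg
  obtain ⟨k1, k2, k3, k4, k5, -⟩ := hk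
  ext i j
  fin_cases i <;> fin_cases j <;>
    simp [midM, Matrix.mul_apply, Fin.sum_univ_four, Fin.sum_univ_two, g1, g2, g3, g4, g5,
      k1, k2, k3, k4, k5] <;> ring

theorem cz_det {g : Matrix (Fin 4) (Fin 4) (ZMod 3)} (hg : CZ g) :
    g.det = g 0 0 * g 0 0 * (g 1 1 * g 2 2 - g 1 2 * g 2 1) := by
  obtain ⟨g1, g2, g3, g4, g5, g6⟩ := hg
  simp [Matrix.det_succ_row_zero, Fin.sum_univ_succ, Fin.succAbove, g1, g2, g3, g4, g5, ← g6]
  ring

theorem corner_sq {a : S4} (ha : CZ a.1) : a.1 0 0 * a.1 0 0 = 1 := by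
  have h := (cz_det ha).symm.trans a.2
  revert h
  generalize a.1 1 1 * a.1 2 2 - a.1 1 2 * a.1 2 1 = c
  generalize a.1 0 0 = x
  revert c x
  decide

theorem midM_det {a : S4} (ha : CZ a.1) : (midM a.1).det = 1 := by
  have h := (cz_det ha).symm.trans a.2
  simp [midM, Matrix.det_fin_two]
  linear_combination h

/-- The centralizer of `zEl`. -/
abbrev CzL : Subgroup L4 := Subgroup.centralizer ({zEl} : Set L4)

theorem cz_mem {g : L4} (hg : g ∈ CzL) : ∃ a : S4, pr a = g ∧ CZ a.1 := by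
  obtain ⟨a, rfl⟩ := pr_surjective g
  exact ⟨a, rfl, cz_of_commute (Subgroup.mem_centralizer_singleton_iff.1 hg)⟩

/-- The middle block of a class centralizing `zEl`. -/
noncomputable def midFun (g : CzL) : M2 := midM (cz_mem g.2).choose.1

theorem midFun_eq (g : CzL) {a : S4} (h : pr a = g.1) : midFun g = midM a.1 := by
  rcases pr_eq_iff.1 (h.trans (cz_mem g.2).choose_spec.1.symm) with e | e
  · rw [midFun, e]
  · rw [midFun, e, midM_neg]

/-- The action on the middle block. -/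
noncomputable def mid : CzL →* Matrix.SpecialLinearGroup (Fin 2) (ZMod 3) where
  toFun g := ⟨midFun g, midM_det (cz_mem g.2).choose_spec.2⟩
  map_one' := Subtype.ext (by
    show midFun 1 = 1
    rw [midFun_eq 1 (a := 1) (map_one pr)]
    decide +kernel)
  map_mul' g k := Subtype.ext (by
    obtain ⟨a, ha, hca⟩ := cz_mem g.2
    obtain ⟨b, hb, hcb⟩ := cz_mem k.2
    show midFun (g * k) = midFun g * midFun k
    rw [midFun_eq g ha, midFun_eq k hb,
      midFun_eq (g * k) (a := a * b) (by rw [map_mul, ha, hb]; rfl)]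
    exact midM_mul hca hcb)

theorem mid_eq (g : CzL) {a : S4} (h : pr a = g.1) : (mid g).1 = midM a.1 := midFun_eq g h

/-- The matrices with trivial middle block. -/
def kerMat (c p q r s u : ZMod 3) : Matrix (Fin 4) (Fin 4) (ZMod 3) :=
  c • !![1, p, q, r; 0, 1, 0, s; 0, 0, 1, u; 0, 0, 0, 1]

theorem kerMat_cube : ∀ c p q r s u : ZMod 3, c * c = 1 →
    kerMat c p q r s u * kerMat c p q r s u * kerMat c p q r s u = c • 1 := by
  decide +kernel

theorem mid_ker_cube {g : CzL} (h : mid g = 1) : g.1 ^ 3 = 1 := by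
  obtain ⟨a, ha, hca⟩ := cz_mem g.2
  have hm : midM a.1 = 1 := by rw [← mid_eq g ha, h]; rfl
  have hc := corner_sq hca
  obtain ⟨g1, g2, g3, g4, g5, g6⟩ := hca
  set c := a.1 0 0 with hcdef
  have m : ∀ i j, midM a.1 i j = (1 : M2) i j := fun i j => by rw [hm]
  have m00 : c * a.1 1 1 = 1 := by simpa [midM] using m 0 0
  have m01 : c * a.1 1 2 = 0 := by simpa [midM] using m 0 1
  have m10 : c * a.1 2 1 = 0 := by simpa [midM] using m 1 0
  have m11 : c * a.1 2 2 = 1 := by simpa [midM] using m 1 1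
  have e : a.1 = kerMat c (c * a.1 0 1) (c * a.1 0 2) (c * a.1 0 3) (c * a.1 1 3)
      (c * a.1 2 3) := by
    have cc : ∀ x, c * (c * x) = x := fun x => by rw [← mul_assoc, hc, one_mul]
    have d1 : a.1 1 1 = c := by rw [← cc (a.1 1 1), m00, mul_one]
    have d2 : a.1 2 2 = c := by rw [← cc (a.1 2 2), m11, mul_one]
    have z1 : a.1 1 2 = 0 := by rw [← cc (a.1 1 2), m01, mul_zero]
    have z2 : a.1 2 1 = 0 := by rw [← cc (a.1 2 1), m10, mul_zero]
    ext i j
    fin_cases i <;> fin_cases j <;>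
      simp [kerMat, g1, g2, g3, g4, g5, d1, d2, z1, z2, cc, ← g6, hcdef.symm]
  rw [← ha, ← map_pow, ← map_one pr, pr_eq_iff]
  have hcube : (a ^ 3 : S4).1 = c • (1 : Matrix (Fin 4) (Fin 4) (ZMod 3)) := by
    rw [pow_succ, pow_two, Matrix.SpecialLinearGroup.coe_mul, Matrix.SpecialLinearGroup.coe_mul, e]
    exact kerMat_cube _ _ _ _ _ _ hc
  have hcc : c = 1 ∨ c = -1 := by revert hc; generalize c = d; revert d; decide
  rw [Matrix.SpecialLinearGroup.coe_one, hcube]
  rcases hcc with hc1 | hc1 <;> rw [hc1] <;> simp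

theorem sl_two_involution : ∀ x : Matrix.SpecialLinearGroup (Fin 2) (ZMod 3),
    x * x = 1 → x = 1 ∨ x = -1 := by
  decide +kernel

theorem eq_one_of_square_of_cube {G : Type*} [Monoid G] {g : G} (h2 : g * g = 1) (h3 : g ^ 3 = 1) :
    g = 1 := by
  rwa [pow_succ, pow_two, h2, one_mul] at h3

/-- Two commuting involutions of the centralizer of `zEl` are equal. -/
theorem cent_involution_unique {g k : L4} (hg : g ∈ CzL) (hk : k ∈ CzL) (hg2 : g * g = 1)
    (hk2 : k * k = 1) (hg1 : g ≠ 1) (hk1 : k ≠ 1) (hgk : Commute g k) : g = k := by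
  have key : ∀ y : CzL, y.1 * y.1 = 1 → mid y = 1 → y.1 = 1 := fun y h2 h =>
    eq_one_of_square_of_cube h2 (mid_ker_cube h)
  have hv : ∀ y : CzL, y.1 * y.1 = 1 → y.1 ≠ 1 → mid y = -1 := fun y h2 h1 => by
    rcases sl_two_involution (mid y) (by rw [← map_mul, show y * y = 1 from Subtype.ext h2, map_one])
      with e | e
    · exact absurd (key y h2 e) h1
    · exact e
  have h := key ⟨g * k, mul_mem hg hk⟩ (by
      show g * k * (g * k) = 1
      rw [mul_assoc g k (g * k), ← mul_assoc k g k, ← hgk.eq, mul_assoc g k k, hk2, mul_one, hg2]) (by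
      have : (⟨g * k, mul_mem hg hk⟩ : CzL) = ⟨g, hg⟩ * ⟨k, hk⟩ := rfl
      rw [this, map_mul, hv _ hg2 hg1, hv _ hk2 hk1]
      decide +kernel)
  calc g = g * (k * k) := by rw [hk2, mul_one]
    _ = g * k * k := by rw [mul_assoc]
    _ = k := by rw [show g * k = 1 from h, one_mul]

theorem upper_cube : ∀ x : Matrix.SpecialLinearGroup (Fin 2) (ZMod 3),
    x.1 1 0 = 0 → x.1 0 0 = 1 → x ^ 3 = 1 := by
  decide +kernel

/-- An element centralizing `zEl` and two further root elements has a trivial cube in the middle. -/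
theorem cube_of_comm_JQ {g : CzL} (h1 : Commute g.1 (jE !![1, 0; 0, 0]))
    (h2 : Commute g.1 (jE !![0, 0; 0, 1])) : mid g ^ 3 = 1 := by
  obtain ⟨a, ha, hca⟩ := cz_mem g.2
  rw [← ha] at h1 h2
  have e1 := commute_lift (b := jS !![1, 0; 0, 0]) h1 (by decide +kernel)
  have e2 := commute_lift (b := jS !![0, 0; 0, 1]) h2 (by decide +kernel)
  have f22 := congrFun (congrFun e1 0) 2
  have f21 := congrFun (congrFun e1 0) 1
  have f11 := congrFun (congrFun e2 1) 3
  simp [jS, blk, Matrix.mul_apply, Fin.sum_univ_four] at f22 f21 f11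
  rw [add_comm (a.1 0 2)] at f22
  rw [add_comm (a.1 1 3)] at f11
  have d11 : a.1 1 1 = a.1 3 3 := add_right_cancel f11
  refine upper_cube _ ?_ ?_
  · rw [mid_eq g ha]
    simp [midM, f21]
  · rw [mid_eq g ha]
    simp [midM, d11, ← hca.2.2.2.2.2, corner_sq hca]

/-- The root elements next to `zEl` lie in the kernel. -/
theorem mid_jE_of_zero {X : M2} (hX : X 1 0 = 0) (h : jE X ∈ CzL) : mid ⟨jE X, h⟩ = 1 := by
  refine Subtype.ext ?_
  rw [mid_eq ⟨jE X, h⟩ (a := jS X) rfl]
  show midM (jS X).1 = 1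
  ext i j
  fin_cases i <;> fin_cases j <;> simp [midM, jS, blk, hX]

end Cfsg.Agent.PSLFourThree
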