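import Cfsg.Agent.Lib.PSLFourThree.InvFacts

/-!
# The involutions centralizing `tEl` form two classes of `PSL(4,3)`

* `InvCode.tTest`: search for a conjugating matrix to `tEl`
* `invol_class`: an involution of the centralizer is conjugate to `tEl` or to `tTwo`
-/

set_option autoImplicit false

namespace Cfsg.Agent.PSLFourThree

open Matrix

namespace InvCode

/-- A matrix whose outer columns come from the fixed space and whose inner columns are negated. -/
def tMat (g : Matrix (Fin 4) (Fin 4) (ZMod 3)) (i j k l : Fin 4) (s : ZMod 3) :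
    Matrix (Fin 4) (Fin 4) (ZMod 3) :=
  !![(1 + g) 0 i, (1 - g) 0 j, (1 - g) 0 k, s * (1 + g) 0 l;
     (1 + g) 1 i, (1 - g) 1 j, (1 - g) 1 k, s * (1 + g) 1 l;
     (1 + g) 2 i, (1 - g) 2 j, (1 - g) 2 k, s * (1 + g) 2 l;
     (1 + g) 3 i, (1 - g) 3 j, (1 - g) 3 k, s * (1 + g) 3 l]

/-- Search for a conjugating matrix to `tEl`. -/
def tTest (c : Code) : Bool :=
  let g := mat c
  decide (g * g = 1) &&
    ([0, 1, 2, 3] : List (Fin 4)).any fun i => ([0, 1, 2, 3] : List (Fin 4)).any fun l =>
      decide (i < l) &&
        ([0, 1, 2, 3] : List (Fin 4)).any fun j => ([0, 1, 2, 3] : List (Fin 4)).any fun k =>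
          decide (j < k) && ([1, -1] : List (ZMod 3)).any fun s =>
            decide ((tMat g i j k l s).det = 1) &&
              decide (g * tMat g i j k l s =
                tMat g i j k l s * !![1, 0, 0, 0; 0, -1, 0, 0; 0, 0, -1, 0; 0, 0, 0, 1])

theorem isT_of_test {c : Code} (hv : valid c = true) (h : tTest c = true) : IsT (el c) := by
  simp only [tTest, Bool.and_eq_true, List.any_eq_true, decide_eq_true_eq] at h
  obtain ⟨-, i, -, l, -, -, j, -, k, -, -, s, -, hdet, he⟩ := h
  exact isT_of hv _ hdet he

theorem invol_all : ((codes gS true).all fun c =>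
    !(eqC (mulC c c) oneC) || eqC c oneC || tTest c || twoTest c) = true := by
  decide +kernel

theorem invol_codes {c : Code} (hc : c ∈ codes gS true) (h : eqC (mulC c c) oneC = true) :
    eqC c oneC = true ∨ tTest c = true ∨ twoTest c = true := by
  have := List.all_eq_true.1 invol_all c hc
  rw [h] at this
  simpa [or_assoc] using this

end InvCode

open InvCode in
/-- An involution centralizing `tEl` is conjugate to `tEl` or to `tTwo`. -/
theorem invol_class {v : L4} (hv : v ∈ CtL) (h2 : v * v = 1) (h1 : v ≠ 1) : IsT v ∨ IsTwo v := by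
  rw [InvCode.cent_eq, mem_sub] at hv
  obtain ⟨c, hc, rfl⟩ := hv
  have hval := codes_valid hc
  rcases invol_codes hc ((sq_one_iff hval).1 h2) with h | h | h
  · exact absurd (((el_eq_iff hval (by decide)).2 h).trans el_one) h1
  · exact Or.inl (isT_of_test hval h)
  · exact Or.inr (isTwo_of hval h)

end Cfsg.Agent.PSLFourThree
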