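import Cfsg.Agent.Lib.PSLFourThree.CentT
import Cfsg.Agent.Lib.PSLFourThree.InvClasses
import Cfsg.Agent.Lib.Involution.Basic
import Cfsg.Agent.Lib.Linear.SLn

/-!
# An embedded `PSL(4,3)` containing both involution centralizers is everything

* `Emb.top_of_centralizers`
-/

set_option autoImplicit false

namespace Cfsg.Agent.PSLFourThree

universe u

variable {G : Type u} [Group G] [Finite G] {φ : L4 →* G} {T R M : Subgroup L4} {a b τ : L4}

/-- Both centralizers inside force equality. -/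
theorem Emb.top_of_centralizers (E : Emb φ) (F : InvFacts T R M a b τ) (hw : orderOf tTwo = 2)
    (hsep : ∀ g, g * φ tEl * g⁻¹ ≠ φ tTwo)
    (ht : Subgroup.centralizer ({φ tEl} : Set G) ≤ φ.range)
    (ht2 : Subgroup.centralizer ({φ tTwo} : Set G) ≤ φ.range) : φ.range = ⊤ := by
  have : Fact (Nat.Prime 2) := ⟨Nat.prime_two⟩
  have hx : orderOf (φ tEl) = 2 := by rw [orderOf_injective φ E.inj]; exact F.t_invol
  have hall : ∀ g : G, g * φ tTwo * g⁻¹ ∈ φ.range := by
    intro g
    set y := g * φ tTwo * g⁻¹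
    have hy : orderOf y = 2 := by rw [Involution.orderOf_conj, orderOf_injective φ E.inj]; exact hw
    have hne : ¬ IsConj (φ tEl) y := fun h => by
      obtain ⟨c, hc⟩ := isConj_iff.1 h
      refine hsep (g⁻¹ * c) ?_
      calc g⁻¹ * c * φ tEl * (g⁻¹ * c)⁻¹ = g⁻¹ * (c * φ tEl * c⁻¹) * g := by group
        _ = φ tTwo := by rw [hc]; show g⁻¹ * (g * φ tTwo * g⁻¹) * g = _; group
    obtain ⟨z, hz, hzx, hzy, -⟩ := Involution.exists_commuting_involution hx hy
      (Involution.even_of_not_isConj hx hy hne)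
    obtain ⟨v, rfl⟩ := ht (Subgroup.mem_centralizer_singleton_iff.2 hzx.eq)
    have hv2 : v * v = 1 := E.inj (by rw [map_mul, map_one]; exact Involution.mul_self hz)
    have hv1 : v ≠ 1 := fun h => Involution.ne_one hz (by rw [h, map_one])
    have hvC : v ∈ CtL := mem_CtL_of_map E (Subgroup.mem_centralizer_singleton_iff.2 hzx.eq)
    refine (?_ : Subgroup.centralizer ({φ v} : Set G) ≤ φ.range)
      (Subgroup.mem_centralizer_singleton_iff.2 hzy.symm.eq)
    rcases invol_class hvC hv2 hv1 with h | h <;> obtain ⟨c, rfl⟩ := isConj_iff.1 h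
    · exact centralizer_conj_le ht c
    · exact centralizer_conj_le ht2 c
  set N := Subgroup.normalClosure ({φ tTwo} : Set G)
  have hN : N ≤ φ.range := by
    refine (Subgroup.closure_le _).2 fun y hy => ?_
    obtain ⟨a', ha', hc⟩ := Group.mem_conjugatesOfSet_iff.1 hy
    rw [Set.mem_singleton_iff] at ha'
    subst ha'
    obtain ⟨c, rfl⟩ := isConj_iff.1 hc
    exact hall c
  have hrange : φ.range = N := by
    refine le_antisymm ?_ hN
    have : IsSimpleGroup L4 := Linear.isSimpleGroup_psl (by simp)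
    have htop : N.comap φ = ⊤ := by
      refine ((Subgroup.Normal.comap (Subgroup.normalClosure_normal) φ).eq_bot_or_eq_top).resolve_left
        fun h => ?_
      have hm : tTwo ∈ N.comap φ := Subgroup.subset_normalClosure (Set.mem_singleton _)
      rw [h, Subgroup.mem_bot] at hm
      rw [hm, orderOf_one] at hw
      exact absurd hw (by norm_num)
    rintro _ ⟨x, rfl⟩
    exact (htop.symm ▸ Subgroup.mem_top x : x ∈ N.comap φ)
  have hnorm : φ.range.Normal := hrange ▸ Subgroup.normalClosure_normal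
  obtain ⟨S, hS⟩ := E.sylow_two F
  refine eq_top_iff.2 fun g _ => ?_
  obtain ⟨v, hv⟩ := hnorm.conj_mem (φ tEl) ⟨tEl, rfl⟩ g
  have hvo : orderOf v = 2 := by
    rw [← orderOf_injective φ E.inj, hv, Involution.orderOf_conj]; exact hx
  have hTp : IsPGroup 2 T := IsPGroup.of_card (n := 7) (by rw [F.T_card]; norm_num)
  obtain ⟨S', hS'⟩ := hTp.exists_le_sylow
  have hST : (S' : Subgroup L4) = T := by
    refine (Subgroup.eq_of_le_of_card_ge hS' ?_).symm
    rw [← Subgroup.card_map_of_injective (K := (S' : Subgroup L4)) E.inj,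
      S.is_maximal' (S'.isPGroup'.map φ) (hS.symm ▸ Subgroup.map_mono hS'), hS,
      Subgroup.card_map_of_injective E.inj]
  obtain ⟨U, hU⟩ := (IsPGroup.of_card (p := 2) (n := 1)
    (by rw [Nat.card_zpowers, hvo, pow_one]) : IsPGroup 2 (Subgroup.zpowers v)).exists_le_sylow
  obtain ⟨c, hc⟩ := MulAction.exists_smul_eq L4 U S'
  have hmem : c * v * c⁻¹ ∈ T := by
    rw [← hST, ← hc]
    exact ⟨v, hU (Subgroup.mem_zpowers v), rfl⟩
  have hcls : ∀ {w : L4}, IsConj w (c * v * c⁻¹) → IsConj w v := fun h =>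
    h.trans (isConj_iff.2 ⟨c⁻¹, by group⟩)
  rcases invol_class (F.T_le hmem) (Involution.mul_self ((Involution.orderOf_conj c v).trans hvo))
    (Involution.ne_one ((Involution.orderOf_conj c v).trans hvo)) with h | h
  · obtain ⟨d, rfl⟩ := isConj_iff.1 (hcls h)
    obtain ⟨m, hm⟩ := ht (x := (φ d)⁻¹ * g) (Subgroup.mem_centralizer_singleton_iff.2 (by
      refine mul_inv_eq_iff_eq_mul.1 ?_
      simp only [map_mul, map_inv] at hv
      calc (φ d)⁻¹ * g * φ tEl * ((φ d)⁻¹ * g)⁻¹ = (φ d)⁻¹ * (g * φ tEl * g⁻¹) * φ d := by group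
        _ = φ tEl := by rw [← hv]; group))
    exact ⟨d * m, by rw [map_mul, hm, mul_inv_cancel_left]⟩
  · obtain ⟨d, rfl⟩ := isConj_iff.1 (hcls h)
    exfalso
    refine hsep ((φ d)⁻¹ * g) ?_
    simp only [map_mul, map_inv] at hv
    calc (φ d)⁻¹ * g * φ tEl * ((φ d)⁻¹ * g)⁻¹ = (φ d)⁻¹ * (g * φ tEl * g⁻¹) * φ d := by group
      _ = φ tTwo := by rw [← hv]; group

end Cfsg.Agent.PSLFourThree
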