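import Cfsg.Agent.EqLemmas
import Mathlib

/-!
# `PSL(4,3)` and its point parabolic: definitions for S3373

* `L4`, `pr`: the group and the projection from `SL(4,3)`
* `x`: root elements, `zEl`: the root element `x 0 3`
* `Par`: the stabiliser of the first basis line; `radA`, `radB`: the elementary groups of order
  27 in the normal subgroup `Q = radA * radB` of the centralizer of `zEl`; `zSub`
-/

set_option autoImplicit false

namespace Cfsg.Agent.PSLFourThree

open Matrix

/-- `SL(4,3)`. -/
abbrev S4 := Matrix.SpecialLinearGroup (Fin 4) (ZMod 3)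

/-- `PSL(4,3)`. -/
abbrev L4 := Matrix.ProjectiveSpecialLinearGroup (Fin 4) (ZMod 3)

/-- The projection. -/
def pr : S4 →* L4 := QuotientGroup.mk' _

/-- A root element of `SL(4,3)`. -/
abbrev x {i j : Fin 4} (h : i ≠ j) (a : ZMod 3) : S4 := Matrix.SpecialLinearGroup.transvection h a

/-- The root element of the highest root. -/
def zEl : L4 := pr (x (i := 0) (j := 3) (by decide) 1)

/-- The matrices fixing the first basis line. -/
def parLift : Subgroup S4 where
  carrier := {g | g.1 1 0 = 0 ∧ g.1 2 0 = 0 ∧ g.1 3 0 = 0}
  mul_mem' := by
    intro a b ha hb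
    simp only [Set.mem_setOf_eq] at ha hb ⊢
    simp [Matrix.mul_apply, Fin.sum_univ_four, ha, hb]
  one_mem' := by simp
  inv_mem' := by
    intro a ha
    simp only [Set.mem_setOf_eq] at ha ⊢
    simp [Matrix.adjugate_apply, Matrix.det_succ_column_zero, Matrix.det_fin_three,
      Fin.sum_univ_four, Matrix.updateRow_apply, Matrix.submatrix_apply, ha]

/-- The point parabolic. -/
def Par : Subgroup L4 := parLift.map pr

/-- Root elements of the first row: the unipotent radical of the parabolic. -/
def radA : Subgroup L4 := Subgroup.closure
  {pr (x (i := 0) (j := 1) (by decide) 1), pr (x (i := 0) (j := 2) (by decide) 1), zEl}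

/-- Root elements of the last column. -/
def radB : Subgroup L4 := Subgroup.closure
  {pr (x (i := 1) (j := 3) (by decide) 1), pr (x (i := 2) (j := 3) (by decide) 1), zEl}

theorem zEl_mem_par : zEl ∈ Par :=
  ⟨x (i := 0) (j := 3) (by decide) 1, by
    show _ ∧ _
    simp [Matrix.SpecialLinearGroup.transvection, Matrix.transvection], rfl⟩

theorem radA_le_par : radA ≤ Par := by
  refine (Subgroup.closure_le _).2 ?_
  rintro g (rfl | rfl | rfl)
  · exact ⟨x (i := 0) (j := 1) (by decide) 1, by
      show _ ∧ _
      simp [Matrix.SpecialLinearGroup.transvection, Matrix.transvection], rfl⟩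
  · exact ⟨x (i := 0) (j := 2) (by decide) 1, by
      show _ ∧ _
      simp [Matrix.SpecialLinearGroup.transvection, Matrix.transvection], rfl⟩
  · exact zEl_mem_par

theorem radB_le_par : radB ≤ Par := by
  refine (Subgroup.closure_le _).2 ?_
  rintro g (rfl | rfl | rfl)
  · exact ⟨x (i := 1) (j := 3) (by decide) 1, by
      show _ ∧ _
      simp [Matrix.SpecialLinearGroup.transvection, Matrix.transvection], rfl⟩
  · exact ⟨x (i := 2) (j := 3) (by decide) 1, by
      show _ ∧ _
      simp [Matrix.SpecialLinearGroup.transvection, Matrix.transvection], rfl⟩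
  · exact zEl_mem_par

/-- The root element as an element of the parabolic. -/
def zPar : Par := ⟨zEl, zEl_mem_par⟩

/-- The first radical inside the parabolic. -/
def parA : Subgroup Par := radA.subgroupOf Par

/-- The second radical inside the parabolic. -/
def parB : Subgroup Par := radB.subgroupOf Par

/-- The group of the root element inside the parabolic. -/
def parZ : Subgroup Par := Subgroup.zpowers zPar

end Cfsg.Agent.PSLFourThree
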