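/-
The group `N0 = (3 wr 3) : 2` of order 162 in coordinates (piece D of S3373).
-/
import Mathlib
import Cfsg.Agent.EqLemmas

set_option autoImplicit false

namespace Cfsg.Agent.PSLFourThree.Exc

/-- The prime field. -/
abbrev K := ZMod 3

/-- `(v, E^i n^s)`: `v` in the abelian subgroup, `E` a regular unipotent element, `n = diag(-1,1,-1)`. -/
@[ext]
structure N0 : Type where
  /-- the central coordinate -/
  a : K
  /-- the coordinate centralised by the involution -/
  b : K
  /-- the last coordinate -/
  c : K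
  /-- the exponent of the regular element -/
  i : K
  /-- the involution bit -/
  s : Bool
deriving DecidableEq

namespace N0

/-- The sign of an element. -/
def sg : Bool → K
  | false => 1
  | true => -1

theorem sg_xor : ∀ s t, sg (xor s t) = sg s * sg t := by decide

theorem sg_sq : ∀ s, sg s * sg s = 1 := by decide

/-- `N0` as tuples. -/
def equivProd : N0 ≃ K × K × K × K × Bool where
  toFun x := (x.a, x.b, x.c, x.i, x.s)
  invFun p := ⟨p.1, p.2.1, p.2.2.1, p.2.2.2.1, p.2.2.2.2⟩
  left_inv _ := rfl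
  right_inv _ := rfl

instance instFintypeN0 : Fintype N0 := Fintype.ofEquiv _ equivProd.symm

instance instMulN0 : Mul N0 :=
  ⟨fun x y => ⟨x.a + sg x.s * y.a + x.i * y.b - x.i * x.i * (sg x.s * y.c),
    x.b + y.b + x.i * (sg x.s * y.c), x.c + sg x.s * y.c, x.i + sg x.s * y.i, xor x.s y.s⟩⟩

instance instOneN0 : One N0 := ⟨⟨0, 0, 0, 0, false⟩⟩

instance instInvN0 : Inv N0 :=
  ⟨fun x =>
    ⟨-(sg x.s * x.a + -(sg x.s * x.i) * x.b - sg x.s * (x.i * x.i) * x.c),
      -(x.b + -x.i * x.c), -(sg x.s * x.c), -(sg x.s * x.i), x.s⟩⟩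

theorem mul_def (x y : N0) : x * y = ⟨x.a + sg x.s * y.a + x.i * y.b - x.i * x.i * (sg x.s * y.c),
    x.b + y.b + x.i * (sg x.s * y.c), x.c + sg x.s * y.c, x.i + sg x.s * y.i, xor x.s y.s⟩ := rfl

theorem one_def : (1 : N0) = ⟨0, 0, 0, 0, false⟩ := rfl

theorem three_zero : (3 : K) = 0 := by decide

theorem mul_assoc' (x y z : N0) : x * y * z = x * (y * z) := by
  obtain ⟨a, b, c, i, s⟩ := x
  obtain ⟨a', b', c', i', t⟩ := y
  obtain ⟨a'', b'', c'', i'', u⟩ := z
  ext
  · simp only [mul_def]
    cases s <;> cases t <;> simp only [sg, Bool.xor_false, Bool.false_xor, Bool.xor_true, Bool.not_true, Bool.not_false] <;>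
      first
        | (linear_combination (-(i * i' * c'')) * three_zero)
        | (linear_combination (i * i' * c'') * three_zero)
  · simp only [mul_def]
    cases s <;> cases t <;> simp only [sg, Bool.xor_false, Bool.false_xor, Bool.xor_true, Bool.not_true, Bool.not_false] <;> ring
  · simp only [mul_def, sg_xor]; ring
  · simp only [mul_def, sg_xor]; ring
  · simp only [mul_def, Bool.xor_assoc]

theorem inv_mul' : ∀ x : N0, x⁻¹ * x = 1 := by decide +kernel

theorem one_mul' : ∀ x : N0, 1 * x = x := by decide +kernel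

instance instGroupN0 : Group N0 := Group.ofLeftAxioms mul_assoc' one_mul' inv_mul'

theorem card_N0 : Nat.card N0 = 162 := by rw [Nat.card_eq_fintype_card]; decide +kernel

/-- The centre of the Sylow subgroup. -/
def z : N0 := ⟨1, 0, 0, 0, false⟩
/-- The element centralised by the involution. -/
def w : N0 := ⟨0, 1, 0, 0, false⟩
/-- The generator `U`. -/
def u : N0 := ⟨0, 0, 1, 0, false⟩
/-- The regular element. -/
def e : N0 := ⟨0, 0, 0, 1, false⟩
/-- The involution. -/
def n : N0 := ⟨0, 0, 0, 0, true⟩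

end N0

end Cfsg.Agent.PSLFourThree.Exc
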