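/-
Generalized characters of `N0` vanishing on the 3-regular elements (piece D of S3373).

* `gch_F`, `gram`, `F_regular`, `F_D_pairs`
-/
import Cfsg.Agent.Lib.PSLFourThree.ExcGroup
import Cfsg.Agent.Lib.Char.Induced
import Cfsg.Agent.Lib.Char.Virtual
import Cfsg.Agent.Lib.Char.Linear

set_option autoImplicit false
set_option maxRecDepth 100000
set_option maxHeartbeats 1000000

namespace Cfsg.Agent.PSLFourThree.Exc

open Cfsg Cfsg.Agent.Char N0
open scoped ComplexConjugate

/-- Eisenstein integers `a + b ω`. -/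
abbrev Eis := ℤ × ℤ

/-- The product. -/
def emul (x y : Eis) : Eis :=
  (x.1 * y.1 - x.2 * y.2, x.1 * y.2 + x.2 * y.1 - x.2 * y.2)

/-- Complex conjugation. -/
def econj (x : Eis) : Eis := (x.1 - x.2, -x.2)

/-- Powers of `ω`. -/
def epow (k : K) : Eis := if k = 0 then (1, 0) else if k = 1 then (0, 1) else (-1, -1)

/-- The value of an Eisenstein integer. -/
noncomputable def ev (x : Eis) : ℂ :=
  (x.1 : ℂ) + (x.2 : ℂ) * Complex.exp (2 * Real.pi * Complex.I / 3)

theorem omega_rel :
    (1 : ℂ) + Complex.exp (2 * Real.pi * Complex.I / 3) +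
      Complex.exp (2 * Real.pi * Complex.I / 3) ^ 2 = 0 := by
  have h := (Complex.isPrimitiveRoot_exp 3 (by norm_num)).geom_sum_eq_zero (by norm_num)
  simpa [Finset.sum_range_succ] using h

theorem omega_conj : conj (Complex.exp (2 * Real.pi * Complex.I / 3)) =
    -1 - Complex.exp (2 * Real.pi * Complex.I / 3) := by
  set o := Complex.exp (2 * Real.pi * Complex.I / 3) with ho
  have h3 : o ^ 3 = 1 := by linear_combination (o - 1) * omega_rel
  have hn : conj o * o = 1 := by
    rw [Complex.conj_mul', Complex.norm_eq_one_of_pow_eq_one h3 (by norm_num)]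
    simp
  have hne : o ≠ 0 := fun h => by rw [h] at h3; norm_num at h3
  refine mul_right_cancel₀ hne (hn.trans ?_)
  linear_combination omega_rel

theorem ev_add (x y : Eis) : ev (x + y) = ev x + ev y := by
  simp [ev]; ring

theorem ev_zero : ev 0 = 0 := by simp [ev]

theorem ev_one : ev (1, 0) = 1 := by simp [ev]

theorem ev_sum {ι : Type*} (s : Finset ι) (f : ι → Eis) : ev (∑ i ∈ s, f i) = ∑ i ∈ s, ev (f i) := by
  classical
  induction s using Finset.induction with
  | empty => simp [ev_zero]
  | insert a s ha ih => rw [Finset.sum_insert ha, Finset.sum_insert ha, ev_add, ih]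

theorem ev_emul (x y : Eis) : ev (emul x y) = ev x * ev y := by
  simp [ev, emul]
  linear_combination -((x.2 : ℂ) * y.2) * omega_rel

theorem ev_econj (x : Eis) : ev (econj x) = conj (ev x) := by
  simp [ev, econj, omega_conj]
  ring

theorem ev_nsmul (m : ℕ) (x : Eis) : ev (m • x) = (m : ℂ) * ev x := by
  induction m with
  | zero => simp [ev_zero]
  | succ m ih => rw [succ_nsmul, ev_add, ih]; push_cast; ring

theorem epow_add : ∀ k l : K, epow (k + l) = emul (epow k) (epow l) := by decide

theorem epow_zero : epow 0 = (1, 0) := rfl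

/-- A homomorphism to `ℂ` from an exponent. -/
noncomputable def expHom {H : Subgroup N0} (σ : N0 → Eis) (h1 : σ 1 = (1, 0))
    (hm : ∀ x ∈ H, ∀ y ∈ H, σ (x * y) = emul (σ x) (σ y)) : H →* ℂ where
  toFun x := ev (σ x)
  map_one' := by rw [OneMemClass.coe_one, h1, ev_one]
  map_mul' x y := by rw [Subgroup.coe_mul, hm _ x.2 _ y.2, ev_emul]

theorem gch_of_ind {H : Subgroup N0} [DecidablePred (· ∈ H)] (σ : N0 → Eis) (h1 : σ 1 = (1, 0))
    (hm : ∀ x ∈ H, ∀ y ∈ H, σ (x * y) = emul (σ x) (σ y)) (m : ℕ) (hcard : Nat.card H = m)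
    (f : N0 → Eis)
    (hf : ∀ g, (∑ x : N0, if x⁻¹ * g * x ∈ H then σ (x⁻¹ * g * x) else 0) = m • f g) :
    IsGeneralizedCharacter N0 (fun g => ev (f g)) := by
  classical
  have e : Cfsg.indFun H (⇑(expHom σ h1 hm)) = fun g => ev (f g) := by
    funext g
    have h0 : (m : ℂ) ≠ 0 := Nat.cast_ne_zero.2 (hcard ▸ Nat.card_pos.ne')
    unfold Cfsg.indFun
    rw [hcard, inv_mul_eq_iff_eq_mul₀ h0, ← ev_nsmul, ← hf g, ev_sum]
    refine Finset.sum_congr rfl fun x _ => ?_
    rw [extendByZero_eq]
    split_ifs with h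
    · rfl
    · exact ev_zero.symm
  rw [← e]
  exact IsGeneralizedCharacter.indFun
    (isGeneralizedCharacter_of_isCharacter (isCharacter_of_hom (expHom σ h1 hm)))

/-- The Sylow subgroup. -/
def sylP : Subgroup N0 where
  carrier := {x | x.s = false}
  one_mem' := rfl
  mul_mem' := fun {x y} (hx : x.s = false) (hy : y.s = false) => by
    show (x * y).s = false
    rw [mul_def, hx, hy]; rfl
  inv_mem' := fun {x} (hx : x.s = false) => hx

/-- The subgroup `A<n>`. -/
def subAn : Subgroup N0 where
  carrier := {x | x.i = 0}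
  one_mem' := rfl
  mul_mem' := fun {x y} (hx : x.i = 0) (hy : y.i = 0) => by
    show (x * y).i = 0
    simp [mul_def, hx, hy]
  inv_mem' := fun {x} (hx : x.i = 0) => by
    show -(sg x.s * x.i) = 0
    simp [hx]

/-- The abelian subgroup. -/
def subA : Subgroup N0 := sylP ⊓ subAn

instance : DecidablePred (· ∈ (⊤ : Subgroup N0)) := fun x => isTrue (Subgroup.mem_top x)
instance : DecidablePred (· ∈ sylP) := fun x => decEq x.s false
instance : DecidablePred (· ∈ subAn) := fun x => decEq x.i 0
instance : DecidablePred (· ∈ subA) := fun x => decidable_of_iff (x.s = false ∧ x.i = 0) Iff.rfl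

theorem cards : Nat.card sylP = 81 ∧ Nat.card subAn = 54 ∧ Nat.card subA = 27 := by
  simp only [Nat.card_eq_fintype_card]
  decide +kernel

/-- `1` or `2` times a character of degree two. -/
def two (m : K) : Eis := epow m + epow (-m)

/-- Degree two, trivial on the centre. -/
def th (p : K × K) (x : N0) : Eis := if x.s then 0 else two (p.1 * x.c + p.2 * x.i)

/-- Degree three. -/
def al (sgn : ℤ) (x : N0) : Eis :=
  if x.s then sgn • epow (x.b + x.i * x.c)
  else if x.i = 0 ∧ x.c = 0 then 3 • epow x.b else 0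

/-- Degree six. -/
def be (k : K) (x : N0) : Eis :=
  if x.s || x.i != 0 then 0
  else ∑ j : K, two (x.a + j * x.b - j * j * x.c + k * x.c)

/-- The trivial character. -/
def one' : N0 → Eis := fun _ => (1, 0)

/-- The sign character. -/
def sgnC (x : N0) : Eis := if x.s then (-1, 0) else (1, 0)

/-- The four parameters of degree two. -/
def par : Fin 4 → K × K := ![(1, 0), (0, 1), (1, 1), (1, 2)]

theorem gch_one : IsGeneralizedCharacter N0 (fun g => ev (one' g)) := by
  simp only [one', ev_one]
  exact isGeneralizedCharacter_of_isCharacter isCharacter_one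

theorem gch_sgn : IsGeneralizedCharacter N0 (fun g => ev (sgnC g)) :=
  gch_of_ind (H := ⊤) sgnC rfl
    (fun x _ y _ => (show ∀ x y : N0, sgnC (x * y) = emul (sgnC x) (sgnC y) by decide +kernel) x y)
    162 (by rw [Subgroup.card_top, card_N0]) sgnC (by decide +kernel)

theorem gch_th (j : Fin 4) : IsGeneralizedCharacter N0 (fun g => ev (th (par j) g)) := by
  refine gch_of_ind (H := sylP) (fun x => epow ((par j).1 * x.c + (par j).2 * x.i))
    (by revert j; decide) (fun x (hx : x.s = false) y (hy : y.s = false) => ?_) 81 cards.1 _ ?_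
  · rw [← epow_add]
    simp only [mul_def, hx, sg]
    congr 1
    ring
  · revert j; decide +kernel

theorem gch_al_pos : IsGeneralizedCharacter N0 (fun g => ev (al 1 g)) := by
  refine gch_of_ind (H := subAn) (fun x => epow x.b) rfl
    (fun x (hx : x.i = 0) y _ => ?_) 54 cards.2.1 _ (by decide +kernel)
  rw [← epow_add]
  simp [mul_def, hx]

theorem gch_al_neg : IsGeneralizedCharacter N0 (fun g => ev (al (-1) g)) := by
  refine gch_of_ind (H := subAn) (fun x => emul (sgnC x) (epow x.b)) rfl
    (fun x (hx : x.i = 0) y _ => ?_) 54 cards.2.1 _ (by decide +kernel)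
  have h : ∀ s t : Bool, ∀ k l : K,
      emul (if xor s t then ((-1, 0) : Eis) else (1, 0)) (epow (k + l)) =
        emul (emul (if s then (-1, 0) else (1, 0)) (epow k))
          (emul (if t then (-1, 0) else (1, 0)) (epow l)) := by decide
  have := h x.s y.s x.b y.b
  simpa [mul_def, hx, sgnC] using this

theorem gch_be (k : K) : IsGeneralizedCharacter N0 (fun g => ev (be k g)) := by
  refine gch_of_ind (H := subA) (fun x => epow (x.a + k * x.c)) (by revert k; decide)
    (fun x (hx : x.s = false ∧ x.i = 0) y _ => ?_) 27 cards.2.2 _ (by revert k; decide +kernel)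
  rw [← epow_add]
  simp only [mul_def, hx.1, hx.2, sg]
  congr 1
  ring

/-- The indices: `Φ`, `D`, two differences, two cubics, `g`. -/
inductive Ix where
  | phi (j : Fin 4)
  | dd
  | u (k : Bool)
  | bb (k : Bool)
  | gg
deriving DecidableEq, Fintype

/-- The functions. -/
def F : Ix → N0 → Eis
  | .phi j => fun x => one' x + sgnC x - th (par j) x
  | .dd => fun x => one' x - sgnC x - al 1 x + al (-1) x
  | .u false => fun x => al 1 x - econj (al 1 x)
  | .u true => fun x => al (-1) x - econj (al (-1) x)
  | .bb k => fun x => al 1 x + al (-1) x - be (if k then 1 else 0) x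
  | .gg => fun x => be 0 x - th (par 0) x - th (par 1) x - th (par 2) x

theorem ev_sub (x y : Eis) : ev (x - y) = ev x - ev y := by
  rw [eq_sub_iff_add_eq, ← ev_add, sub_add_cancel]

theorem gch_F (i : Ix) : IsGeneralizedCharacter N0 (fun g => ev (F i g)) := by
  rcases i with j | _ | k | k | _
  · simp only [F, ev_add, ev_sub]
    exact IsGeneralizedCharacter.sub (IsGeneralizedCharacter.add gch_one gch_sgn) (gch_th j)
  · simp only [F, ev_add, ev_sub]
    exact IsGeneralizedCharacter.add (IsGeneralizedCharacter.sub (IsGeneralizedCharacter.sub gch_one gch_sgn) gch_al_pos) gch_al_neg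
  · cases k <;> simp only [F, ev_sub, ev_econj]
    · exact IsGeneralizedCharacter.sub gch_al_pos (IsGeneralizedCharacter.conj gch_al_pos)
    · exact IsGeneralizedCharacter.sub gch_al_neg (IsGeneralizedCharacter.conj gch_al_neg)
  · simp only [F, ev_add, ev_sub]
    exact IsGeneralizedCharacter.sub (IsGeneralizedCharacter.add gch_al_pos gch_al_neg) (gch_be _)
  · simp only [F, ev_sub]
    exact IsGeneralizedCharacter.sub (IsGeneralizedCharacter.sub (IsGeneralizedCharacter.sub (gch_be 0) (gch_th 0)) (gch_th 1)) (gch_th 2)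

/-- The inner products. -/
def G0 : Ix → Ix → ℤ
  | .phi i, .phi j => if i = j then 3 else 2
  | .dd, .dd => 4
  | .dd, .u k => if k then 1 else -1
  | .u k, .dd => if k then 1 else -1
  | .u k, .u l => if k = l then 2 else 0
  | .bb k, .bb l => if k = l then 3 else 2
  | .bb _, .u _ => 1
  | .u _, .bb _ => 1
  | .gg, .gg => 4
  | .gg, .phi j => if j = 3 then 0 else 1
  | .phi j, .gg => if j = 3 then 0 else 1
  | .gg, .bb k => if k then 0 else -1
  | .bb k, .gg => if k then 0 else -1
  | _, _ => 0

/-- The inner products with the trivial character. -/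
def T0 : Ix → ℤ
  | .phi _ => 1
  | .dd => 1
  | _ => 0

theorem gram_sum : ∀ i j, (∑ x : N0, emul (F i x) (econj (F j x))) = (162 * G0 i j, 0) := by
  decide +kernel

theorem triv_sum : ∀ i, (∑ x : N0, F i x) = (162 * T0 i, 0) := by decide +kernel

theorem F_regular : ∀ i x, x * x = 1 → F i x = 0 := by decide +kernel

theorem F_D_pairs : ∀ y : N0, y.s = true → y * y = 1 → ∀ y' : N0, y'.s = true → y' * y' = 1 →
    F .dd (y * y') = 0 := by decide +kernel

end Cfsg.Agent.PSLFourThree.Exc
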