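/-
The decomposition of the eleven induced generalized characters (piece D of S3373).

* `Dec.conclusion`: some non-principal constituent is linear or has `n` in its kernel
-/
import Cfsg.Agent.Lib.PSLFourThree.ExcChar
import Cfsg.Agent.Lib.InvertedSylow.Star

set_option autoImplicit false
set_option maxHeartbeats 1000000

namespace Cfsg.Agent.PSLFourThree.Exc

open InvertedSylow
open scoped Classical

variable {κ : Type*} [Fintype κ]

/-- Integral vectors with the inner products of `F`, vanishing at `1` and `n`. -/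
structure Dec (κ : Type*) [Fintype κ] where
  /-- the coefficients -/
  m : Ix → κ → ℤ
  /-- the trivial index -/
  o : κ
  /-- the degrees -/
  d : κ → ℕ
  /-- the values at the involution -/
  v : κ → ℂ
  d_pos : ∀ c, 0 < d c
  d_o : d o = 1
  v_o : v o = 1
  gram : ∀ i j, ∑ c, m i c * m j c = G0 i j
  triv : ∀ i, m i o = T0 i
  deg : ∀ i, ∑ c, (m i c : ℂ) * (d c : ℂ) = 0
  val : ∀ i, ∑ c, (m i c : ℂ) * v c = 0
  cls : ∑ c, (m .dd c : ℂ) * (v c * v c / (d c : ℂ)) = 0

theorem sum_outside {ι : Type*} [Fintype ι] {idx : ι → κ} (hi : Function.Injective idx)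
    {R : Type*} [AddCommMonoid R] (f : κ → R) :
    ∑ c, f c = ∑ i, f (idx i) + ∑ c ∈ (Finset.univ.image idx)ᶜ, f c := by
  rw [← Finset.sum_add_sum_compl (Finset.univ.image idx) f,
    Finset.sum_image fun x _ y _ h => hi h]

theorem norm_le {ι : Type*} [Fintype ι] {idx : ι → κ} (hi : Function.Injective idx) (w : κ → ℤ) :
    ∑ i, w (idx i) ^ 2 ≤ ∑ c, w c ^ 2 := by
  rw [sum_outside hi (fun c => w c ^ 2)]
  exact le_add_of_nonneg_right (Finset.sum_nonneg fun c _ => sq_nonneg _)

theorem zero_outside {ι : Type*} [Fintype ι] {idx : ι → κ} (hi : Function.Injective idx) {w : κ → ℤ}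
    (h : ∑ i, w (idx i) ^ 2 = ∑ c, w c ^ 2) {c : κ} (hc : ∀ i, idx i ≠ c) : w c = 0 := by
  rw [sum_outside hi (fun c => w c ^ 2), left_eq_add] at h
  exact (pow_eq_zero_iff two_ne_zero).1
    ((Finset.sum_eq_zero_iff_of_nonneg fun c _ => sq_nonneg _).1 h c (by simp [hc]))

theorem one_outside {ι : Type*} [Fintype ι] {idx : ι → κ} (hi : Function.Injective idx) {w : κ → ℤ}
    (h : ∑ i, w (idx i) ^ 2 + 1 = ∑ c, w c ^ 2) :
    ∃ y, (∀ i, idx i ≠ y) ∧ (w y = 1 ∨ w y = -1) ∧
      ∀ c, (∀ i, idx i ≠ c) → c ≠ y → w c = 0 := by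
  rw [sum_outside hi (fun c => w c ^ 2), add_right_inj] at h
  set S := (Finset.univ.image idx)ᶜ
  have hS : ∀ c, c ∈ S ↔ ∀ i, idx i ≠ c := fun c => by simp [S]
  obtain ⟨y, hy, hy0⟩ := Finset.exists_ne_zero_of_sum_ne_zero (h.symm ▸ one_ne_zero)
  have hle := Finset.single_le_sum (f := fun c => w c ^ 2) (fun c _ => sq_nonneg _) hy
  have hpos : 0 < w y ^ 2 := lt_of_le_of_ne (sq_nonneg _) (Ne.symm hy0)
  have h1 : w y ^ 2 = 1 := by omega
  refine ⟨y, (hS y).1 hy, sq_eq_one_iff.1 h1, fun c hc hne => ?_⟩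
  rw [← Finset.add_sum_erase _ _ hy, h1] at h
  exact (pow_eq_zero_iff two_ne_zero).1
    ((Finset.sum_eq_zero_iff_of_nonneg fun c _ => sq_nonneg _).1 (by omega) c
      (Finset.mem_erase.2 ⟨hne, (hS c).2 hc⟩))

/-- A pairing with a vector supported on two entries. -/
theorem sum_pair_supp {R : Type*} [CommRing R] {r s : κ} (hrs : r ≠ s) (w : κ → R) {u : κ → ℤ}
    (hu : ∀ c, c ≠ r → c ≠ s → u c = 0) :
    ∑ c, w c * (u c : R) = w r * (u r : R) + w s * (u s : R) := by
  rw [← Finset.sum_pair (f := fun c => w c * (u c : R)) hrs]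
  exact (Finset.sum_subset (Finset.subset_univ _) fun c _ hc => by
    simp only [Finset.mem_insert, Finset.mem_singleton, not_or] at hc
    simp [hu c hc.1 hc.2]).symm

theorem norm_two {u : κ → ℤ} (h : ∑ c, u c ^ 2 = 2) : ∃ r s, r ≠ s ∧ (u r = 1 ∨ u r = -1) ∧
    (u s = 1 ∨ u s = -1) ∧ ∀ c, c ≠ r → c ≠ s → u c = 0 := by
  obtain ⟨r, s, hrs, e⟩ := Finset.card_eq_two.1 (card_supp h)
  have hm : ∀ c, c ∈ supp u ↔ c = r ∨ c = s := fun c => by rw [e]; simp
  refine ⟨r, s, hrs, abs_le_one_of_norm h (mem_supp.1 ((hm r).2 (Or.inl rfl))),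
    abs_le_one_of_norm h (mem_supp.1 ((hm s).2 (Or.inr rfl))), fun c h1 h2 => ?_⟩
  by_contra h0
  exact ((hm c).1 (mem_supp.2 h0)).elim h1 h2

/-- A signed pair. -/
theorem signed_pair {u : κ → ℤ} (h : ∑ c, u c ^ 2 = 2) {d : κ → ℕ} (hd : ∀ c, 0 < d c)
    (h1 : ∑ c, (u c : ℂ) * (d c : ℂ) = 0) : ∃ r s σ, r ≠ s ∧ (σ = 1 ∨ σ = -1) ∧ u r = σ ∧ u s = -σ ∧
      d r = d s ∧ ∀ c, c ≠ r → c ≠ s → u c = 0 := by
  obtain ⟨r, s, hrs, hr, hs, hz⟩ := norm_two h
  have e : ∑ c, (d c : ℤ) * u c = 0 := by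
    have : ((∑ c, (d c : ℤ) * u c : ℤ) : ℂ) = 0 := by
      push_cast; rw [← h1]; exact Finset.sum_congr rfl fun c _ => mul_comm _ _
    exact_mod_cast this
  have e2 := sum_pair_supp hrs (fun c => (d c : ℤ)) hz
  simp only [Int.cast_id] at e2
  rw [e2] at e
  have := hd r; have := hd s
  rcases hr with er | er <;> rcases hs with es | es <;> rw [er, es] at e <;> push_cast at e
  · omega
  · exact ⟨r, s, 1, hrs, Or.inl rfl, er, es, by omega, hz⟩
  · exact ⟨r, s, -1, hrs, Or.inr rfl, er, by simpa using es, by omega, hz⟩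
  · omega

theorem final_calc {X P M x p m : ℂ} (c : ℤ) (hc : c = 0 ∨ c = 1) (hX : X ≠ 0) (hP : P ≠ 0)
    (hM : M ≠ 0) (e1 : 1 - X - P + M = 0) (e2 : (2 * (c : ℂ) - 1) * (P + M) = 3 * (1 + X))
    (f1 : 1 - x - p + m = 0) (f2 : (2 * (c : ℂ) - 1) * (p + m) = 3 * (1 + x))
    (f3 : 1 - x * x / X - p * p / P + m * m / M = 0) : x = X ∨ X = 1 := by
  field_simp at f3
  rcases hc with rfl | rfl
  · have hP' : P = -1 - 2 * X := by push_cast at e2; linear_combination (-1/2 : ℂ) * e1 - (1/2 : ℂ) * e2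
    have hM' : M = -2 - X := by push_cast at e2; linear_combination (1/2 : ℂ) * e1 - (1/2 : ℂ) * e2
    have hp' : p = -1 - 2 * x := by push_cast at f2; linear_combination (-1/2 : ℂ) * f1 - (1/2 : ℂ) * f2
    have hm' : m = -2 - x := by push_cast at f2; linear_combination (1/2 : ℂ) * f1 - (1/2 : ℂ) * f2
    subst hP' hM' hp' hm'
    have : (X - x) ^ 2 * (X - 1) = 0 := by linear_combination (1/2 : ℂ) * f3
    rcases mul_eq_zero.1 this with h | h
    · exact Or.inl (sub_eq_zero.1 ((pow_eq_zero_iff two_ne_zero).1 h)).symm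
    · exact Or.inr (sub_eq_zero.1 h)
  · have hP' : P = 2 + X := by push_cast at e2; linear_combination (-1/2 : ℂ) * e1 + (1/2 : ℂ) * e2
    have hM' : M = 1 + 2 * X := by push_cast at e2; linear_combination (1/2 : ℂ) * e1 + (1/2 : ℂ) * e2
    have hp' : p = 2 + x := by push_cast at f2; linear_combination (-1/2 : ℂ) * f1 + (1/2 : ℂ) * f2
    have hm' : m = 1 + 2 * x := by push_cast at f2; linear_combination (1/2 : ℂ) * f1 + (1/2 : ℂ) * f2
    subst hP' hM' hp' hm'
    have : (X - x) ^ 2 * (X - 1) = 0 := by linear_combination (1/2 : ℂ) * f3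
    rcases mul_eq_zero.1 this with h | h
    · exact Or.inl (sub_eq_zero.1 ((pow_eq_zero_iff two_ne_zero).1 h)).symm
    · exact Or.inr (sub_eq_zero.1 h)

theorem int_sq_self (c : ℤ) : c ≤ c ^ 2 := by
  rcases le_or_gt c 0 with h | h
  · exact h.trans (sq_nonneg c)
  · nlinarith

/-- The arithmetic of the cubic functions. -/
theorem bb_arith {α c : ℤ} {n : ℤ} (hn : n ≤ 3)
    (h : 5 * α ^ 2 + (c ^ 2 + (c - 1) ^ 2 + ((c + α) ^ 2 + (c + α - 1) ^ 2)) ≤ n) :
    α = 0 ∧ (c = 0 ∨ c = 1) := by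
  have h1 := int_sq_self c
  have h2 := int_sq_self (c + α)
  have hα : α ^ 2 ≤ 0 := by nlinarith
  have hα0 : α = 0 := (pow_eq_zero_iff two_ne_zero).1 (le_antisymm hα (sq_nonneg _))
  subst hα0
  refine ⟨rfl, ?_⟩
  have : c ^ 2 ≤ c := by nlinarith
  have h0 : 0 ≤ c := le_trans (sq_nonneg c) this
  have h3 : c ≤ 1 := by nlinarith
  omega

/-- The nine known indices. -/
abbrev L9 := (Unit ⊕ Fin 4) ⊕ (Bool × Bool)

theorem sum_L9 {R : Type*} [AddCommMonoid R] (f : L9 → R) :
    ∑ i, f i = (f (.inl (.inl ())) + (f (.inl (.inr 0)) + f (.inl (.inr 1)) + f (.inl (.inr 2)) +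
      f (.inl (.inr 3)))) + ((f (.inr (true, true)) + f (.inr (true, false))) +
      (f (.inr (false, true)) + f (.inr (false, false)))) := by
  simp [Fintype.sum_sum_type, Fintype.sum_prod_type, Fin.sum_univ_four]

namespace Dec

variable (E : Dec κ)

/-- The vector without its trivial entry. -/
noncomputable def r (i : Ix) (c : κ) : ℤ := if c = E.o then 0 else E.m i c

theorem sum_r {R : Type*} [CommRing R] (i : Ix) (f : κ → R) :
    ∑ c, (E.m i c : R) * f c = (T0 i : R) * f E.o + ∑ c, (E.r i c : R) * f c := by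
  rw [← Finset.add_sum_erase _ _ (Finset.mem_univ E.o),
    ← Finset.add_sum_erase (f := fun c => (E.r i c : R) * f c) _ (Finset.mem_univ E.o), E.triv]
  have e : ∀ c ∈ Finset.univ.erase E.o, (E.r i c : R) * f c = (E.m i c : R) * f c := fun c hc => by
    simp [r, Finset.ne_of_mem_erase hc]
  rw [Finset.sum_congr rfl e]
  simp [r]

theorem gram_r (i j : Ix) : ∑ c, E.r i c * E.r j c = G0 i j - T0 i * T0 j := by
  have h := E.sum_r i (fun c => E.m j c)
  simp only [Int.cast_id] at h
  rw [E.gram, E.triv] at h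
  rw [h, add_sub_cancel_left]
  refine Finset.sum_congr rfl fun c _ => ?_
  by_cases hc : c = E.o <;> simp [r, hc]

theorem norm_r (i : Ix) : ∑ c, E.r i c ^ 2 = G0 i i - T0 i * T0 i := by
  rw [← E.gram_r]; exact Finset.sum_congr rfl fun c _ => sq _

/-- Some non-principal constituent is linear or contains the involution in its kernel. -/
theorem conclusion : ∃ a, a ≠ E.o ∧ (E.v a = E.d a ∨ E.d a = 1) := by
  -- the star
  let vφ : Fin 4 → κ → ℤ := fun j => E.r (.phi j)
  have hφn : ∀ j, ∑ c, vφ j c ^ 2 = 2 := fun j => by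
    simp only [vφ]; rw [E.norm_r]; simp [G0, T0]
  have hφd : ∀ i j, i ≠ j → ∑ c, vφ i c * vφ j c = 1 := fun i j h => by
    simp only [vφ]; rw [E.gram_r]; simp [G0, T0, h]
  have hφi : Function.Injective vφ := fun i j e => by
    by_contra h
    have h1 := hφd i j h
    rw [← e, ← Finset.sum_congr rfl fun c _ => sq (vφ i c), hφn] at h1
    norm_num at h1
  obtain ⟨a, ha⟩ := common_entry (Finset.univ.image vφ)
    (by rw [Finset.card_image_of_injective _ hφi]; simp)
    (fun w hw => by obtain ⟨j, -, rfl⟩ := Finset.mem_image.1 hw; exact hφn j)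
    (fun w hw w' hw' hne => by
      obtain ⟨i, -, rfl⟩ := Finset.mem_image.1 hw
      obtain ⟨j, -, rfl⟩ := Finset.mem_image.1 hw'
      exact hφd i j fun e => hne (e ▸ rfl))
  have haφ : ∀ i j, vφ i a * vφ j a = 1 := fun i j => ha _ (Finset.mem_image_of_mem _
    (Finset.mem_univ i)) _ (Finset.mem_image_of_mem _ (Finset.mem_univ j))
  obtain ⟨sa, hsa, hsaj⟩ : ∃ sa, (sa = 1 ∨ sa = -1) ∧ ∀ j, vφ j a = sa := by
    refine ⟨vφ 0 a, Int.eq_one_or_neg_one_of_mul_eq_one (haφ 0 0), fun j => ?_⟩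
    have h1 := haφ j 0; have h2 := haφ 0 0
    rcases Int.eq_one_or_neg_one_of_mul_eq_one h2 with e | e <;> rw [e] at h1 ⊢ <;> omega
  have hao : a ≠ E.o := fun e => by
    have h := hsaj 0
    simp only [vφ, r, e, if_true] at h
    omega
  have hb : ∀ j, ∃ b, b ≠ a ∧ (vφ j b = 1 ∨ vφ j b = -1) ∧ ∀ c, c ≠ a → c ≠ b → vφ j c = 0 := by
    intro j
    obtain ⟨r, s, hrs, hr, hs, hz⟩ := norm_two (hφn j)
    by_cases h1 : r = a
    · subst h1; exact ⟨s, hrs.symm, hs, hz⟩
    by_cases h2 : s = a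
    · subst h2; exact ⟨r, hrs, hr, fun c x y => hz c y x⟩
    have := hsaj j
    rw [hz a (Ne.symm h1) (Ne.symm h2)] at this
    omega
  choose b hba hbv hbz using hb
  have hφpair : ∀ j (w : κ → ℤ), ∑ c, w c * vφ j c = w a * sa + w (b j) * vφ j (b j) := fun j w => by
    have := sum_pair_supp (hba j).symm w (hbz j)
    simp only [Int.cast_id] at this
    rw [this, hsaj]
  have hbinj : Function.Injective b := fun i j e => by
    by_contra h
    have h1 := hφd i j h
    rw [hφpair j (vφ i), hsaj, ← e] at h1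
    rcases hsa with s1 | s1 <;> rcases hbv i with s2 | s2 <;> rcases hbv j with s3 | s3 <;>
      rw [← e] at s3 <;> simp [s1, s2, s3] at h1
  -- equations with the star
  have hab : Function.Injective (Sum.elim (fun _ : Unit => a) b) := by
    rintro (i | i) (j | j) e <;> simp only [Sum.elim_inl, Sum.elim_inr] at e
    · rfl
    · exact absurd e.symm (hba j)
    · exact absurd e (hba i)
    · rw [hbinj e]
  have hstar : ∀ i, ∀ j, E.r i a * sa + E.r i (b j) * vφ j (b j) = G0 i (.phi j) - T0 i := fun i j => by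
    rw [← hφpair j, E.gram_r]; simp [T0]
  have hle5 : ∀ i, E.r i a ^ 2 + (E.r i (b 0) ^ 2 + E.r i (b 1) ^ 2 + E.r i (b 2) ^ 2 + E.r i (b 3) ^ 2)
      ≤ G0 i i - T0 i * T0 i := fun i => by
    have h := norm_le hab (E.r i)
    rw [E.norm_r] at h
    simpa [Fintype.sum_sum_type, Fin.sum_univ_four] using h
  have hsq : ∀ j, vφ j (b j) ^ 2 = 1 := fun j => sq_eq_one_iff.2 (hbv j)
  have hsa2 : sa ^ 2 = 1 := sq_eq_one_iff.2 hsa
  -- `D` and the differences at the star
  have hDa : E.r .dd a = -sa ∧ ∀ j, E.r .dd (b j) = 0 := by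
    set α := E.r .dd a * sa
    have hβ : ∀ j, E.r .dd (b j) * vφ j (b j) = -1 - α := fun j => by
      have := hstar .dd j; simp [G0, T0] at this; omega
    have h5 := hle5 .dd
    have e0 : ∀ j, E.r .dd (b j) ^ 2 = (-1 - α) ^ 2 := fun j => by
      rw [← hβ j, mul_pow, hsq, mul_one]
    have ea : E.r .dd a ^ 2 = α ^ 2 := by rw [mul_pow, hsa2, mul_one]
    rw [e0, e0, e0, e0, ea] at h5
    simp [G0, T0] at h5
    have hα : α = -1 := by nlinarith
    refine ⟨?_, fun j => ?_⟩
    · calc E.r .dd a = α * sa := by rw [mul_assoc, ← sq, hsa2, mul_one]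
        _ = -sa := by rw [hα]; ring
    · have := e0 j
      rw [hα] at this
      simpa using this
  have hua : ∀ k, E.r (.u k) a = 0 ∧ ∀ j, E.r (.u k) (b j) = 0 := by
    intro k
    set α := E.r (.u k) a * sa
    have hβ : ∀ j, E.r (.u k) (b j) * vφ j (b j) = - α := fun j => by
      have := hstar (.u k) j; simp [G0, T0] at this; omega
    have h5 := hle5 (.u k)
    have e0 : ∀ j, E.r (.u k) (b j) ^ 2 = (-α) ^ 2 := fun j => by
      rw [← hβ j, mul_pow, hsq, mul_one]
    have ea : E.r (.u k) a ^ 2 = α ^ 2 := by rw [mul_pow, hsa2, mul_one]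
    rw [e0, e0, e0, e0, ea] at h5
    simp [G0, T0] at h5
    have hα : α = 0 := by nlinarith
    rw [hα] at ea
    exact ⟨by simpa using ea, fun j => by simpa [hα] using e0 j⟩
  -- the differences
  have hu : ∀ k, ∃ r s σ, r ≠ s ∧ (σ = 1 ∨ σ = -1) ∧ E.r (.u k) r = σ ∧ E.r (.u k) s = -σ ∧
      E.d r = E.d s ∧ ∀ c, c ≠ r → c ≠ s → E.r (.u k) c = 0 := by
    intro k
    refine signed_pair (by rw [E.norm_r]; simp [G0, T0]) E.d_pos ?_
    have := E.deg (.u k)
    rw [E.sum_r] at this
    simpa [T0] using this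
  have hu' : ∀ k, ∃ r s σ, r ≠ s ∧ (σ = 1 ∨ σ = -1) ∧ E.r (.u k) r = σ ∧ E.r (.u k) s = -σ ∧
      E.d r = E.d s ∧ (∀ c, c ≠ r → c ≠ s → E.r (.u k) c = 0) ∧ E.r .dd r ≠ 0 := by
    intro k
    obtain ⟨r, s, σ, h1, h2, h3, h4, h5, h6⟩ := hu k
    by_cases h : E.r .dd r = 0
    · refine ⟨s, r, -σ, h1.symm, by omega, h4, by rw [h3, neg_neg], h5.symm,
        fun c x y => h6 c y x, fun h' => ?_⟩
      have e := E.gram_r .dd (.u k)
      rw [show ∑ c, E.r .dd c * E.r (.u k) c = E.r .dd r * σ + E.r .dd s * (-σ) by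
        have := sum_pair_supp h1 (E.r .dd) h6
        simp only [Int.cast_id] at this
        rw [this, h3, h4], h, h'] at e
      cases k <;> simp [G0, T0] at e
    · exact ⟨r, s, σ, h1, h2, h3, h4, h5, h6, h⟩
  choose r s σ hrs hσ hur hus hds huz hDr using hu'
  have hupair : ∀ k (w : κ → ℤ), ∑ c, w c * E.r (.u k) c = (w (r k) - w (s k)) * σ k := fun k w => by
    have := sum_pair_supp (hrs k) w (huz k)
    simp only [Int.cast_id] at this
    rw [this, hur, hus]; ring
  have hu0 : (∀ i, E.r (.u true) i * E.r (.u false) i = 0) ∧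
      r true ≠ r false ∧ r true ≠ s false ∧ s true ≠ r false ∧ s true ≠ s false := by
    have e := E.gram_r (.u true) (.u false)
    rw [hupair false] at e
    simp [G0, T0] at e
    have h1 := hur true; have h2 := hus true
    have hz := huz true
    have h3 := hσ true; have h4 := hσ false
    have hne := hrs false
    by_cases a1 : r false = r true <;> by_cases a2 : r false = s true <;>
      by_cases a3 : s false = r true <;> by_cases a4 : s false = s true
    all_goals first
      | exact absurd (a1.symm.trans a2) (hrs true)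
      | exact absurd (a3.symm.trans a4) (hrs true)
      | exact absurd (a1.trans a3.symm) hne
      | exact absurd (a2.trans a4.symm) hne
      | skip
    all_goals first
      | (exfalso; simp only [a1, a2, a3, a4, hz _ a1 a2, hz _ a3 a4, h1, h2] at e; omega)
      | (exfalso; rw [a1] at e; rw [a4] at e; omega)
      | (exfalso; rw [a2] at e; rw [a3] at e; omega)
      | (exfalso; rw [a1, hz _ a3 a4, h1] at e; omega)
      | (exfalso; rw [a2, hz _ a3 a4, h2] at e; omega)
      | (exfalso; rw [hz _ a1 a2, a3, h1] at e; omega)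
      | (exfalso; rw [hz _ a1 a2, a4, h2] at e; omega)
      | exact ⟨fun i => by
          by_cases x : i = r true
          · rw [x, huz false _ (Ne.symm a1) (Ne.symm a3), mul_zero]
          by_cases y : i = s true
          · rw [y, huz false _ (Ne.symm a2) (Ne.symm a4), mul_zero]
          rw [hz i x y, zero_mul], Ne.symm a1, Ne.symm a3, Ne.symm a2, Ne.symm a4⟩
  obtain ⟨-, n1, n2, n3, n4⟩ := hu0
  -- the nine indices
  let idx : L9 → κ := Sum.elim (Sum.elim (fun _ => a) b) (fun p => if p.2 then r p.1 else s p.1)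
  have hrsab : ∀ k, (r k ≠ a ∧ ∀ j, r k ≠ b j) ∧ (s k ≠ a ∧ ∀ j, s k ≠ b j) := fun k => by
    have := hσ k
    exact ⟨⟨fun e => by have := hur k; rw [e, (hua k).1] at this; omega,
      fun j e => by have := hur k; rw [e, (hua k).2 j] at this; omega⟩,
      fun e => by have := hus k; rw [e, (hua k).1] at this; omega,
      fun j e => by have := hus k; rw [e, (hua k).2 j] at this; omega⟩
  have hidx : Function.Injective idx := by
    have hpq : Function.Injective fun p : Bool × Bool => if p.2 then r p.1 else s p.1 := by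
      rintro ⟨i, i'⟩ ⟨j, j'⟩ e
      cases i <;> cases i' <;> cases j <;> cases j' <;> simp at e <;>
        first
          | rfl
          | exact absurd e (hrs _) | exact absurd e.symm (hrs _)
          | exact absurd e n1 | exact absurd e.symm n1 | exact absurd e n2 | exact absurd e.symm n2
          | exact absurd e n3 | exact absurd e.symm n3 | exact absurd e n4 | exact absurd e.symm n4
    refine Function.Injective.sumElim hab hpq fun i p e => ?_
    rcases i with i | i <;> simp only [Sum.elim_inl, Sum.elim_inr] at e <;> cases h : p.2 <;>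
      rw [h] at e <;> simp at e
    exacts [(hrsab p.1).2.1 e.symm, (hrsab p.1).1.1 e.symm, (hrsab p.1).2.2 i e.symm,
      (hrsab p.1).1.2 i e.symm]
  have hsum9 : ∀ i, ∑ l, E.r i (idx l) ^ 2 = (E.r i a ^ 2 + (E.r i (b 0) ^ 2 + E.r i (b 1) ^ 2 +
      E.r i (b 2) ^ 2 + E.r i (b 3) ^ 2)) + ((E.r i (r true) ^ 2 + E.r i (s true) ^ 2) +
      (E.r i (r false) ^ 2 + E.r i (s false) ^ 2)) := fun i => by rw [sum_L9]; simp [idx]
  have hle9 : ∀ i, ∑ l, E.r i (idx l) ^ 2 ≤ G0 i i - T0 i * T0 i := fun i => by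
    rw [← E.norm_r]; exact norm_le hidx _
  have hueq : ∀ i k, (E.r i (r k) - E.r i (s k)) * σ k = G0 i (.u k) := fun i k => by
    rw [← hupair, E.gram_r]; simp [T0]
  have hσ2 : ∀ k, σ k ^ 2 = 1 := fun k => sq_eq_one_iff.2 (hσ k)
  -- `D`
  have hD : E.r .dd (r true) = σ true ∧ E.r .dd (s true) = 0 ∧ E.r .dd (r false) = -σ false ∧
      E.r .dd (s false) = 0 ∧ ∀ c, (∀ i, idx i ≠ c) → E.r .dd c = 0 := by
    have h9 := hle9 .dd
    rw [hsum9, hDa.1, hDa.2 0, hDa.2 1, hDa.2 2, hDa.2 3, neg_sq, hsa2] at h9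
    simp [G0, T0] at h9
    have p : ∀ k, 1 ≤ E.r .dd (r k) ^ 2 := fun k => by
      have := sq_pos_of_ne_zero (hDr k); omega
    have q := fun k => sq_nonneg (E.r .dd (s k))
    have := p true; have := p false; have := q true; have := q false
    have z1 : E.r .dd (s true) = 0 := (pow_eq_zero_iff two_ne_zero).1 (by omega)
    have z2 : E.r .dd (s false) = 0 := (pow_eq_zero_iff two_ne_zero).1 (by omega)
    have e1 := hueq .dd true; have e2 := hueq .dd false
    simp [G0, z1, z2] at e1 e2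
    have x1 : E.r .dd (r true) = σ true := by
      linear_combination (σ true) * e1 - E.r .dd (r true) * hσ2 true
    have x2 : E.r .dd (r false) = -σ false := by
      linear_combination (σ false) * e2 - E.r .dd (r false) * hσ2 false
    refine ⟨x1, z1, x2, z2, fun c hc => zero_outside hidx ?_ hc⟩
    rw [hsum9, E.norm_r, hDa.1, hDa.2 0, hDa.2 1, hDa.2 2, hDa.2 3, x1, x2, z1, z2]
    simp [G0, T0, hsa2, hσ2]
  -- pairings with `D`
  have hDeq : ∀ i, T0 i = 0 → -(E.r i a * sa) + E.r i (r true) * σ true - E.r i (r false) * σ false =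
      G0 i .dd := fun i hi => by
    have e := E.gram_r i .dd
    rw [sum_outside hidx, Finset.sum_eq_zero (s := (Finset.univ.image idx)ᶜ) fun c hc => by
      rw [hD.2.2.2.2 c (by simpa using hc), mul_zero], add_zero, sum_L9] at e
    simp [idx, hDa.1, hDa.2, hD.1, hD.2.1, hD.2.2.1, hD.2.2.2.1, hi] at e
    linear_combination e
  -- the cubics
  have hB : ∀ k, ∃ c y, (c = 0 ∨ c = 1) ∧ E.r (.bb k) a = 0 ∧ (∀ j, E.r (.bb k) (b j) = 0) ∧
      (∀ l, E.r (.bb k) (r l) = c * σ l ∧ E.r (.bb k) (s l) = (c - 1) * σ l) ∧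
      (∀ i, idx i ≠ y) ∧ (E.r (.bb k) y = 1 ∨ E.r (.bb k) y = -1) ∧
      ∀ x, (∀ i, idx i ≠ x) → x ≠ y → E.r (.bb k) x = 0 := by
    intro k
    set α := E.r (.bb k) a * sa with hα
    set cT := E.r (.bb k) (r true) * σ true with hcT
    set cF := E.r (.bb k) (r false) * σ false with hcF
    have hβ : ∀ j, E.r (.bb k) (b j) * vφ j (b j) = -α := fun j => by
      have := hstar (.bb k) j; simp [G0, T0] at this; omega
    have hT := hueq (.bb k) true; have hF := hueq (.bb k) false
    have hd := hDeq (.bb k) (by simp [T0])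
    simp [G0] at hT hF hd
    rw [← hα, ← hcT, ← hcF] at hd
    have e0 : ∀ j, E.r (.bb k) (b j) ^ 2 = α ^ 2 := fun j => by
      rw [← neg_sq α, ← hβ j, mul_pow, hsq, mul_one]
    have ea : E.r (.bb k) a ^ 2 = α ^ 2 := by rw [hα, mul_pow, hsa2, mul_one]
    have eT : E.r (.bb k) (r true) ^ 2 = cT ^ 2 := by rw [hcT, mul_pow, hσ2, mul_one]
    have eF : E.r (.bb k) (r false) ^ 2 = cF ^ 2 := by rw [hcF, mul_pow, hσ2, mul_one]
    have sT : E.r (.bb k) (s true) = (cT - 1) * σ true := by
      rw [hcT]; linear_combination -(σ true) * hT - (E.r (.bb k) (s true)) * hσ2 true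
    have sF : E.r (.bb k) (s false) = (cF - 1) * σ false := by
      rw [hcF]; linear_combination -(σ false) * hF - (E.r (.bb k) (s false)) * hσ2 false
    have h9 := hle9 (.bb k)
    have qT : E.r (.bb k) (s true) ^ 2 = (cT - 1) ^ 2 := by rw [sT, mul_pow, hσ2, mul_one]
    have qF : E.r (.bb k) (s false) ^ 2 = (cF - 1) ^ 2 := by rw [sF, mul_pow, hσ2, mul_one]
    rw [hsum9, ea, e0 0, e0 1, e0 2, e0 3, eT, eF, qT, qF] at h9
    simp [G0, T0] at h9
    have hrel : cF = cT + α ∨ cF = cT - α := by omega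
    obtain ⟨hα0, hcc, hc01⟩ : α = 0 ∧ cF = cT ∧ (cT = 0 ∨ cT = 1) := by
      rcases hrel with e | e <;> rw [e] at h9 ⊢
      · obtain ⟨h0, h1⟩ := bb_arith (α := α) (c := cT) le_rfl (by nlinarith)
        exact ⟨h0, by rw [h0, add_zero], h1⟩
      · obtain ⟨h0, h1⟩ := bb_arith (α := -α) (c := cT) le_rfl (by
          rw [← sub_eq_add_neg]; nlinarith)
        exact ⟨by omega, by omega, h1⟩
    rw [hα0] at h9 e0 ea hd
    rw [hcc] at h9 eF sF qF
    obtain ⟨y, hy1, hy2, hy3⟩ := one_outside hidx (w := E.r (.bb k)) (by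
      rw [hsum9, E.norm_r, ea, e0 0, e0 1, e0 2, e0 3, eT, eF, qT, qF]
      rcases hc01 with h | h <;> simp [h, G0, T0])
    refine ⟨cT, y, hc01, by simpa using ea, fun j => by simpa using e0 j, fun l => ?_, hy1, hy2, hy3⟩
    cases l
    · refine ⟨?_, sF⟩
      rw [← hcc, hcF, mul_assoc, ← sq, hσ2, mul_one]
    · refine ⟨?_, sT⟩
      rw [hcT, mul_assoc, ← sq, hσ2, mul_one]
  choose cB y hc01 hBa hBb hBp hy hyv hBz using hB
  have hBgram : ∀ i k, ∑ c, E.r i c * E.r (.bb k) c =
      ((E.r i (r true) * σ true + E.r i (r false) * σ false) * cB k +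
      (E.r i (s true) * σ true + E.r i (s false) * σ false) * (cB k - 1)) +
      E.r i (y k) * E.r (.bb k) (y k) := by
    intro i k
    rw [sum_outside hidx, sum_L9, Finset.sum_eq_single (y k) (fun c hc hne => by
      rw [hBz k c (by simpa using hc) hne, mul_zero]) (fun h => absurd (by simpa using hy k) h)]
    simp [idx, hBa, hBb, (hBp k true).1, (hBp k true).2, (hBp k false).1, (hBp k false).2]
    ring
  -- the last function
  have hceq : cB true = cB false := by
    have e := hBgram (.bb true) false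
    rw [E.gram_r, (hBp true true).1, (hBp true true).2, (hBp true false).1, (hBp true false).2] at e
    have hprod : E.r (.bb true) (y false) * E.r (.bb false) (y false) ≤ 1 := by
      by_cases h : y false = y true
      · rw [h]; rcases hyv true with a | a <;> rcases hyv false with b | b <;> rw [h] at b <;> simp [a, b]
      · simp [hBz true _ (hy false) h]
    have t := hσ2 true; have f := hσ2 false
    rcases hc01 true with a | a <;> rcases hc01 false with b | b <;> simp [G0, T0, a, b, ← sq, t, f] at e ⊢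
    all_goals omega
  set α := E.r .gg a * sa with hα
  have hg : α = 0 ∧ E.r .gg a = 0 ∧ (∀ j : Fin 4, E.r .gg (b j) * vφ j (b j) = if j = 3 then 0 else 1) ∧
      (∀ k, E.r .gg (r k) = 0 ∧ E.r .gg (s k) = 0) ∧ ∀ c, (∀ i, idx i ≠ c) → c ≠ y false →
        E.r .gg c = 0 := by
    have hβ : ∀ j, E.r .gg (b j) * vφ j (b j) = (if j = 3 then 0 else 1) - α := fun j => by
      have h := hstar .gg j
      simp [G0, T0] at h
      split_ifs at h ⊢ <;> omega
    have e0 : ∀ j, E.r .gg (b j) ^ 2 = ((if j = 3 then 0 else 1) - α) ^ 2 := fun j => by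
      rw [← hβ j, mul_pow, hsq, mul_one]
    have ea : E.r .gg a ^ 2 = α ^ 2 := by rw [hα, mul_pow, hsa2, mul_one]
    have hT := hueq .gg true; have hF := hueq .gg false
    have hd := hDeq .gg (by simp [T0])
    simp [G0] at hT hF hd
    have eT : E.r .gg (s true) = E.r .gg (r true) := by
      rcases hσ true with h | h <;> simp [h] at hT <;> omega
    have eF : E.r .gg (s false) = E.r .gg (r false) := by
      rcases hσ false with h | h <;> simp [h] at hF <;> omega
    set gT := E.r .gg (r true) * σ true with hgT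
    set gF := E.r .gg (r false) * σ false with hgF
    rw [← hα] at hd
    have qT : E.r .gg (r true) ^ 2 = gT ^ 2 := by rw [hgT, mul_pow, hσ2, mul_one]
    have qF : E.r .gg (r false) ^ 2 = gF ^ 2 := by rw [hgF, mul_pow, hσ2, mul_one]
    have h9 := hle9 .gg
    rw [hsum9, ea, e0 0, e0 1, e0 2, e0 3, eT, eF, qT, qF] at h9
    simp [G0, T0] at h9
    have hα01 : α = 0 ∨ α = 1 := by
      have : 0 ≤ α ∧ α ≤ 1 := ⟨by nlinarith, by nlinarith⟩
      omega
    rcases hα01 with hα0 | hα1
    · rw [hα0] at h9 ea e0 hd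
      have hgTF : gT = gF := by omega
      rw [hgTF] at h9 qT
      have hgF0 : gF = 0 := by nlinarith
      rw [hgF0] at qT qF
      have zT : E.r .gg (r true) = 0 := by simpa using qT
      have zF : E.r .gg (r false) = 0 := by simpa using qF
      have zk : ∀ k, E.r .gg (r k) = 0 ∧ E.r .gg (s k) = 0 := fun k => by
        cases k
        exacts [⟨zF, eF.trans zF⟩, ⟨zT, eT.trans zT⟩]
      obtain ⟨w, hw1, -, hw3⟩ := one_outside hidx (w := E.r .gg) (by
        rw [hsum9, E.norm_r, ea, e0 0, e0 1, e0 2, e0 3, eT, eF, zT, zF]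
        simp [G0, T0])
      have hwy : w = y false := by
        by_contra hne
        have e := hBgram .gg false
        rw [E.gram_r, (zk true).1, (zk true).2, (zk false).1, (zk false).2,
          hw3 _ (hy false) (Ne.symm hne)] at e
        simp [G0, T0] at e
      exact ⟨hα0, by simpa using ea, fun j => by rw [hβ, hα0, sub_zero], zk,
        fun c hc hne => hw3 c hc (hwy ▸ hne)⟩
    · exfalso
      rw [hα1] at h9 hd
      have hz : ∀ c, (∀ i, idx i ≠ c) → E.r .gg c = 0 := fun c hc => by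
        refine zero_outside hidx ?_ hc
        refine le_antisymm (norm_le hidx _) ?_
        rw [E.norm_r, hsum9, ea, e0 0, e0 1, e0 2, e0 3, eT, eF, qT, qF, hα1]
        simp [G0, T0]
        rcases le_or_gt gF (-1) with h | h <;> nlinarith
      have e1 := hBgram .gg true; have e2 := hBgram .gg false
      rw [E.gram_r, hz _ (hy true), hceq] at e1
      rw [E.gram_r, hz _ (hy false)] at e2
      simp [G0, T0] at e1 e2
      omega
  obtain ⟨-, hga, hgb, hgp, hgz⟩ := hg
  have hgy : E.r .gg (y false) * E.r (.bb false) (y false) = -1 := by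
    have e := hBgram .gg false
    rw [E.gram_r, (hgp true).1, (hgp true).2, (hgp false).1, (hgp false).2] at e
    simp [G0, T0] at e
    omega
  -- evaluations
  have evalD : ∀ f : κ → ℂ, f E.o = 1 → ∑ c, (E.m .dd c : ℂ) * f c =
      1 - (sa : ℂ) * f a + (σ true : ℂ) * f (r true) - (σ false : ℂ) * f (r false) := by
    intro f hf
    rw [E.sum_r, sum_outside hidx, sum_L9, Finset.sum_eq_zero (s := (Finset.univ.image idx)ᶜ)
      fun c hc => by rw [hD.2.2.2.2 c (by simpa using hc)]; simp]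
    simp [idx, hDa.1, hDa.2, hD.1, hD.2.1, hD.2.2.1, hD.2.2.2.1, T0, hf]
    ring
  have evalU : ∀ k (f : κ → ℂ), ∑ c, (E.m (.u k) c : ℂ) * f c = 0 → f (s k) = f (r k) := by
    intro k f h0
    rw [E.sum_r, show ∑ c, (E.r (.u k) c : ℂ) * f c = (f (r k) - f (s k)) * (σ k : ℂ) by
      rw [Finset.sum_congr rfl fun c _ => mul_comm _ _, sum_pair_supp (hrs k) f (huz k), hur, hus]
      push_cast; ring] at h0
    simp [T0] at h0
    rcases h0 with h | h
    · exact (sub_eq_zero.1 h).symm
    · rcases hσ k with e | e <;> simp [e] at h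
  have evalB : ∀ f : κ → ℂ, f E.o = 1 → (∀ i, ∑ c, (E.m i c : ℂ) * f c = 0) →
      (2 * (cB false : ℂ) - 1) * ((σ false : ℂ) * f (r false) + (σ true : ℂ) * f (r true)) =
        3 * (1 + (sa : ℂ) * f a) := by
    intro f hf h0
    have hφ : ∀ j, 1 + (sa : ℂ) * f a + (vφ j (b j) : ℂ) * f (b j) = 0 := fun j => by
      have h := h0 (.phi j)
      rw [E.sum_r, Finset.sum_congr rfl fun c _ => mul_comm _ _, sum_pair_supp (hba j).symm f (hbz j)] at h
      rw [hsaj j] at h
      simp [T0, hf] at h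
      linear_combination h
    have hb' := h0 (.bb false)
    rw [E.sum_r, sum_outside hidx, sum_L9, Finset.sum_eq_single (y false) (fun c hc hne => by
      rw [hBz false c (by simpa using hc) hne]; simp) (fun h => absurd (by simpa using hy false) h)] at hb'
    simp [idx, hBa, hBb, (hBp false true).1, (hBp false true).2, (hBp false false).1,
      (hBp false false).2, T0, evalU _ f (h0 _)] at hb'
    have hg' := h0 .gg
    rw [E.sum_r, sum_outside hidx, sum_L9, Finset.sum_eq_single (y false) (fun c hc hne => by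
      rw [hgz c (by simpa using hc) hne]; simp) (fun h => absurd (by simpa using hy false) h)] at hg'
    have gb : ∀ j, E.r .gg (b j) = if j = 3 then 0 else vφ j (b j) := fun j => by
      have := hgb j
      rcases hbv j with e | e <;> rw [e] at this ⊢ <;> split_ifs at this ⊢ <;> omega
    simp [idx, hga, gb, hgp, T0] at hg'
    have gy : E.r .gg (y false) = -E.r (.bb false) (y false) := by
      rcases hyv false with e | e <;> rw [e] at hgy ⊢ <;> omega
    rw [gy] at hg'
    push_cast at hg'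
    linear_combination hb' + hg' - hφ 0 - hφ 1 - hφ 2
  set sX : ℂ := (sa : ℂ)
  have hdeg := evalD (fun c => (E.d c : ℂ)) (by simp [E.d_o])
  rw [E.deg] at hdeg
  have hval := evalD E.v E.v_o
  rw [E.val] at hval
  have hcls := evalD (fun c => E.v c * E.v c / (E.d c : ℂ)) (by simp [E.d_o, E.v_o])
  rw [E.cls] at hcls
  have hB1 := evalB (fun c => (E.d c : ℂ)) (by simp [E.d_o]) E.deg
  have hB2 := evalB E.v E.v_o E.val
  have hd0 : ∀ c, (E.d c : ℂ) ≠ 0 := fun c => Nat.cast_ne_zero.2 (E.d_pos c).ne'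
  have cs : ∀ {q : ℤ}, (q = 1 ∨ q = -1) → ∀ c, (q : ℂ) * (E.v c * E.v c / (E.d c : ℂ)) =
      ((q : ℂ) * E.v c) * ((q : ℂ) * E.v c) / ((q : ℂ) * (E.d c : ℂ)) := by
    intro q hq c
    rcases hq with rfl | rfl <;> push_cast <;> field_simp
  have hne : ∀ {q : ℤ}, (q = 1 ∨ q = -1) → ∀ c, (q : ℂ) * (E.d c : ℂ) ≠ 0 := by
    intro q hq c
    rcases hq with rfl | rfl <;> simp [hd0 c]
  rw [cs hsa, cs (hσ true), cs (hσ false)] at hcls
  refine ⟨a, hao, ?_⟩
  rcases final_calc (cB false) (hc01 false) (hne hsa a) (hne (hσ false) (r false)) (hne (hσ true) (r true))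
      (by linear_combination -hdeg) hB1 (by linear_combination -hval) hB2
      (by linear_combination -hcls) with h | h
  · left
    rcases hsa with e | e <;> simpa [sX, e] using h
  · right
    rcases hsa with e | e
    · simpa [sX, e] using h
    · exfalso
      simp [sX, e] at h
      have h' : ((E.d a : ℤ) : ℂ) = ((-1 : ℤ) : ℂ) := by push_cast; linear_combination -h
      have := Int.cast_inj.1 h'
      have := E.d_pos a
      omega

end Dec

end Cfsg.Agent.PSLFourThree.Exc
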