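/-
Finite facts about `N0` for the exceptional step (piece D of S3373).
-/
import Cfsg.Agent.Lib.PSLFourThree.ExcChar

set_option autoImplicit false
set_option maxRecDepth 100000

namespace Cfsg.Agent.PSLFourThree.Exc

open N0

/-- Representatives of the elements of order three. -/
def reps : List N0 := [N0.z, N0.w, N0.u, N0.w * N0.u, N0.z * N0.u * N0.u, N0.e]

theorem reps_spec : ∀ g : N0, g.s = false → g ≠ 1 → ∃ r ∈ reps, ∃ h : N0,
    h * g * h⁻¹ = r ∨ h * g * h⁻¹ = r * r ∨ h * (g * g * g) * h⁻¹ = r ∨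
      h * (g * g * g) * h⁻¹ = r * r := by decide +kernel

theorem reps_cube : ∀ r ∈ reps, r * r * r = 1 := by decide

theorem nonreg_four : ∀ a : N0, a * a ≠ 1 →
    (a * a * (a * a)).s = false ∧ a * a * (a * a) ≠ 1 := by decide +kernel

theorem syl_regular : ∀ a : N0, a.s = false → a ≠ 1 → a * a ≠ 1 := by decide +kernel

theorem z_central : ∀ a : N0, a.s = false → N0.z * a = a * N0.z := by decide +kernel

theorem z_unique : ∀ d : N0, d.s = false → d ≠ 1 →
    81 ≤ (Finset.univ.filter fun h : N0 => h * d = d * h).card →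
    d = N0.z ∨ d = N0.n * N0.z * N0.n⁻¹ := by decide +kernel

theorem syl_of_cube : ∀ d : N0, d * d * d = 1 → d.s = false := by decide +kernel

theorem card_cent_z : (Finset.univ.filter fun h : N0 => h * N0.z = N0.z * h).card = 81 := by
  decide +kernel

theorem invol_cases : ∀ c : N0, c * c = 1 → c = 1 ∨ c.s = true := by decide +kernel

theorem card_syl : Nat.card sylP = 81 := cards.1

theorem syl_gen : ∀ g : N0, g.s = false → g = ⟨g.a, 0, 0, 0, false⟩ * ⟨0, g.b, 0, 0, false⟩ *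
    ⟨0, 0, g.c, 0, false⟩ * ⟨0, 0, 0, g.i, false⟩ := by decide +kernel

theorem coord_pow : ∀ k : K, (⟨k, 0, 0, 0, false⟩ : N0) = N0.z ^ k.val ∧
    (⟨0, k, 0, 0, false⟩ : N0) = N0.w ^ k.val ∧ (⟨0, 0, k, 0, false⟩ : N0) = N0.u ^ k.val ∧
    (⟨0, 0, 0, k, false⟩ : N0) = N0.e ^ k.val := by decide +kernel

theorem conj_e : N0.n * N0.e * N0.n⁻¹ = N0.e⁻¹ ∧ N0.n * N0.u * N0.n⁻¹ = N0.u⁻¹ := by decide

theorem comm_eu : N0.e * N0.u * N0.e⁻¹ * N0.u⁻¹ = N0.z⁻¹ * N0.w ∧
    N0.e * N0.w * N0.e⁻¹ * N0.w⁻¹ = N0.z := by decide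

end Cfsg.Agent.PSLFourThree.Exc
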