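/-
The exceptional step of piece D of S3373: a group cannot properly contain `N0 = (3 wr 3) : 2`
with the centralizers of its 3-elements inside.
-/
import Cfsg.Agent.Lib.PSLFourThree.ExcFacts
import Cfsg.Agent.Lib.PSLFourThree.ExcComb
import Cfsg.Agent.Lib.Char.ClassMult
import Cfsg.Agent.Lib.Char.Eigen
import Cfsg.Agent.Lib.Coprime.Generation
import Cfsg.Agent.Lib.Transfer.NilpotentHall

set_option autoImplicit false
set_option maxRecDepth 100000

namespace Cfsg.Agent.PSLFourThree.Exc

open Cfsg Cfsg.Agent.Char N0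
open scoped ComplexConjugate

universe u

theorem plane_cube : ∀ a b : ZMod 3, (⟨a, b, 0, 0, false⟩ : N0) * ⟨a, b, 0, 0, false⟩ *
    ⟨a, b, 0, 0, false⟩ = 1 := by decide

variable {Y : Type u} [Group Y] {π : N0 →* Y}

theorem exists_of_mem {y : Y} (h : y ∈ π.range) : ∃ a, π a = y := h

theorem map_eq_one (hπ : Function.Injective π) {a : N0} : π a = 1 ↔ a = 1 := by
  rw [← map_one π, hπ.eq_iff]

theorem cent_all (hcent : ∀ g ∈ reps, Subgroup.centralizer ({π g} : Set Y) ≤ π.range)
    {g : N0} (hg : g.s = false) (hg1 : g ≠ 1) :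
    Subgroup.centralizer ({π g} : Set Y) ≤ π.range := by
  obtain ⟨r, hr, h, hh⟩ := reps_spec g hg hg1
  intro y hy
  have hy1 : y * π g = π g * y := Subgroup.mem_centralizer_singleton_iff.1 hy
  have hc1 : Commute y (π g) := hy1
  have hc3 : Commute y (π (g * g * g)) := by
    rw [map_mul, map_mul]; exact (hc1.mul_right hc1).mul_right hc1
  have key : ∀ k : N0, Commute y (π k) → Commute (π h * y * (π h)⁻¹) (π (h * k * h⁻¹)) := by
    intro k hk
    rw [map_mul, map_mul, map_inv]
    exact (Commute.conj_iff (π h)).2 hk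
  have hsq : r * r * (r * r) = r := by rw [← mul_assoc, reps_cube r hr, one_mul]
  have hr' : Commute (π h * y * (π h)⁻¹) (π r) := by
    rcases hh with e | e | e | e
    · exact e ▸ key g hc1
    · have := e ▸ key g hc1
      rw [← hsq, map_mul]; exact this.mul_right this
    · exact e ▸ key _ hc3
    · have := e ▸ key _ hc3
      rw [← hsq, map_mul]; exact this.mul_right this
  have hm := hcent r hr (Subgroup.mem_centralizer_singleton_iff.2 hr'.eq)
  have e : y = (π h)⁻¹ * (π h * y * (π h)⁻¹) * π h := by group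
  rw [e]
  exact mul_mem (mul_mem (inv_mem ⟨h, rfl⟩) hm) ⟨h, rfl⟩

variable (hπ : Function.Injective π)
  (hcent : ∀ g ∈ reps, Subgroup.centralizer ({π g} : Set Y) ≤ π.range)
include hπ hcent

/-- Strong closure of the range on the 3-singular elements. -/
theorem fusion {a b : N0} {y : Y} (ha : a * a ≠ 1) (h : y * π a * y⁻¹ = π b) : y ∈ π.range := by
  classical
  obtain ⟨ha4, ha41⟩ := nonreg_four a ha
  obtain ⟨v, hv⟩ : ∃ v, v = a * a * (a * a) := ⟨_, rfl⟩
  obtain ⟨v', hv'⟩ : ∃ v, v = b * b * (b * b) := ⟨_, rfl⟩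
  rw [← hv] at ha4 ha41
  have hvv : y * π v * y⁻¹ = π v' := by
    simp only [hv, hv', map_mul, ← h]; group
  have hb1 : v' ≠ 1 := fun e => ha41 (by
    rw [e, map_one, mul_inv_eq_one, mul_eq_left] at hvv
    exact (map_eq_one hπ).1 hvv)
  have hs : ∀ x : N0, (x * x * (x * x)).s = false := by
    intro x
    simp only [N0.mul_def]
    cases x.s <;> rfl
  have hin : ∀ q : N0, q * v = v * q → ∃ q', π q' = y * π q * y⁻¹ := fun q hq =>
    exists_of_mem (cent_all hcent (hv' ▸ hs b) hb1 (Subgroup.mem_centralizer_singleton_iff.2 (by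
      rw [← hvv]
      calc y * π q * y⁻¹ * (y * π v * y⁻¹) = y * π (q * v) * y⁻¹ := by rw [map_mul]; group
        _ = y * π (v * q) * y⁻¹ := by rw [hq]
        _ = _ := by rw [map_mul]; group)))
  obtain ⟨d, hd⟩ := hin N0.z (z_central v ha4)
  have hd1 : d ≠ 1 := fun e => by
    rw [e, map_one, eq_comm, mul_inv_eq_one, mul_eq_left] at hd
    exact (show N0.z ≠ 1 by decide) ((map_eq_one hπ).1 hd)
  have hd3 : d * d * d = 1 := (map_eq_one hπ).1 (by
    rw [map_mul, map_mul, hd]
    have e : π N0.z * π N0.z * π N0.z = 1 := by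
      rw [← map_mul, ← map_mul, (show N0.z * N0.z * N0.z = 1 by decide), map_one]
    calc y * π N0.z * y⁻¹ * (y * π N0.z * y⁻¹) * (y * π N0.z * y⁻¹)
        = y * (π N0.z * π N0.z * π N0.z) * y⁻¹ := by group
      _ = 1 := by rw [e]; group)
  have hds := syl_of_cube d hd3
  have hc : ∀ q : N0, q * N0.z = N0.z * q → ∃ q', π q' = y * π q * y⁻¹ ∧ q' * d = d * q' := by
    intro q hq
    have hm : y * π q * y⁻¹ * π d = π d * (y * π q * y⁻¹) := by
      rw [hd]
      calc y * π q * y⁻¹ * (y * π N0.z * y⁻¹) = y * π (q * N0.z) * y⁻¹ := by rw [map_mul]; group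
        _ = y * π (N0.z * q) * y⁻¹ := by rw [hq]
        _ = _ := by rw [map_mul]; group
    obtain ⟨q', hq'⟩ := exists_of_mem
      (cent_all hcent hds hd1 (Subgroup.mem_centralizer_singleton_iff.2 hm))
    exact ⟨q', hq', hπ (by rw [map_mul, map_mul, hq', hm])⟩
  have hcard : 81 ≤ (Finset.univ.filter fun h : N0 => h * d = d * h).card := by
    choose f hf hfd using hc
    rw [← card_cent_z]
    refine Finset.card_le_card_of_injOn
      (fun q => if hq : q * N0.z = N0.z * q then f q hq else 1) (fun q hq => ?_) fun q hq q₂ hq₂ e => ?_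
    · simp only [Finset.coe_filter, Finset.mem_univ, true_and, Set.mem_setOf_eq] at hq ⊢
      rw [dif_pos hq]; exact hfd q hq
    · simp only [Finset.coe_filter, Finset.mem_univ, true_and, Set.mem_setOf_eq] at hq hq₂
      simp only [dif_pos hq, dif_pos hq₂] at e
      have := congrArg π e
      rw [hf, hf] at this
      exact hπ (mul_left_cancel (mul_right_cancel this))
  have hz1 : (N0.z : N0) ≠ 1 := by decide
  rcases z_unique d hds hd1 hcard with e | e
  · refine cent_all hcent (g := N0.z) rfl hz1 (Subgroup.mem_centralizer_singleton_iff.2 ?_)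
    rw [e, eq_comm, mul_inv_eq_iff_eq_mul] at hd
    exact hd
  · have h1 : (π N0.n)⁻¹ * y * π N0.z = π N0.z * ((π N0.n)⁻¹ * y) := by
      rw [e, map_mul, map_mul, map_inv] at hd
      calc (π N0.n)⁻¹ * y * π N0.z = (π N0.n)⁻¹ * (y * π N0.z * y⁻¹) * y := by group
        _ = _ := by rw [← hd]; group
    have := mul_mem (show π N0.n ∈ π.range from ⟨_, rfl⟩)
      (cent_all hcent (g := N0.z) rfl hz1 (Subgroup.mem_centralizer_singleton_iff.2 h1))
    simpa using this

omit hcent in
theorem symm_apply (a : N0) (h : π a ∈ π.range) :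
    (MonoidHom.ofInjective hπ).symm ⟨π a, h⟩ = a :=
  (MonoidHom.ofInjective hπ).symm_apply_apply a

/-- The functions on the range. -/
noncomputable def psi (hπ : Function.Injective π) (i : Ix) : π.range → ℂ :=
  fun x => ev (F i ((MonoidHom.ofInjective hπ).symm x))

omit hcent in
theorem gch_psi (i : Ix) : IsGeneralizedCharacter π.range (psi hπ i) :=
  IsGeneralizedCharacter.comp_hom (gch_F i) (MonoidHom.ofInjective hπ).symm.toMonoidHom

omit hcent in
theorem psi_apply (i : Ix) (a : N0) (h : π a ∈ π.range) : psi hπ i ⟨π a, h⟩ = ev (F i a) := by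
  rw [psi, symm_apply hπ]

variable [Fintype Y]

/-- The induced functions. -/
noncomputable def ind (hπ : Function.Injective π) (i : Ix) : Y → ℂ :=
  Cfsg.indFun π.range (psi hπ i)

omit hcent in
theorem ind_ne_zero {i : Ix} {g : Y} (h : ind hπ i g ≠ 0) :
    ∃ x a, x⁻¹ * g * x = π a ∧ F i a ≠ 0 := by
  by_contra hno
  push Not at hno
  refine h ?_
  show Cfsg.indFun _ _ g = 0
  unfold Cfsg.indFun
  rw [Finset.sum_eq_zero, mul_zero]
  intro x _
  rw [extendByZero_eq]
  split_ifs with hm
  · obtain ⟨a, ha⟩ := exists_of_mem hm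
    have he : (⟨x⁻¹ * g * x, hm⟩ : π.range) = ⟨π a, a, rfl⟩ := Subtype.ext ha.symm
    rw [he]
    exact (psi_apply hπ i a _).trans (by rw [hno x a ha.symm, ev_zero])
  · rfl

omit hcent in
theorem ind_regular {i : Ix} {g : Y} (h : g * g = 1) : ind hπ i g = 0 := by
  by_contra hne
  obtain ⟨x, a, ha, hF⟩ := ind_ne_zero hπ hne
  refine hF (F_regular i a ((map_eq_one hπ).1 ?_))
  rw [map_mul, ← ha]
  calc x⁻¹ * g * x * (x⁻¹ * g * x) = x⁻¹ * (g * g) * x := by group
    _ = 1 := by rw [h]; group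

theorem ind_eq (i : Ix) {a : N0} (ha : a * a ≠ 1) : ind hπ i (π a) = ev (F i a) := by
  classical
  have hcl : IsClassFunction π.range (psi hπ i) :=
    (isGeneralizedCharacter_iff_classInner.1 (gch_psi hπ i)).1
  have hout : ∀ x : Y, x ∉ π.range → extendByZero π.range (psi hπ i) (x⁻¹ * π a * x) = 0 := by
    intro x hx
    rw [extendByZero_eq]
    split_ifs with hm
    · obtain ⟨b, hb⟩ := exists_of_mem hm
      refine absurd ?_ hx
      simpa using inv_mem (fusion hπ hcent (y := x⁻¹) ha (by rw [inv_inv]; exact hb.symm))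
    · rfl
  have hin : ∀ x : π.range,
      extendByZero π.range (psi hπ i) ((x : Y)⁻¹ * π a * x) = ev (F i a) := by
    intro x
    have e : (x : Y)⁻¹ * π a * x = ((x⁻¹ * ⟨π a, a, rfl⟩ * x : π.range) : Y) := by simp
    rw [e, extendByZero_coe, ← psi_apply hπ i a ⟨a, rfl⟩]
    simpa using hcl ⟨π a, a, rfl⟩ x⁻¹
  show Cfsg.indFun _ _ _ = _
  unfold Cfsg.indFun
  rw [← Finset.sum_filter_add_sum_filter_not Finset.univ (· ∈ π.range),
    Finset.sum_eq_zero (s := Finset.univ.filter fun x => ¬ x ∈ π.range) fun x hx =>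
      hout x (Finset.mem_filter.1 hx).2, add_zero,
    Finset.sum_subtype (p := (· ∈ π.range)) _ (fun x => by simp)
      (fun x => extendByZero π.range (psi hπ i) (x⁻¹ * π a * x)),
    Finset.sum_congr rfl fun x _ => hin x, Finset.sum_const, Finset.card_univ, nsmul_eq_mul,
    ← Nat.card_eq_fintype_card]
  have : (Nat.card π.range : ℂ) ≠ 0 := Nat.cast_ne_zero.2 Nat.card_pos.ne'
  field_simp

omit hcent in
theorem sum_range [Fintype π.range] (f : N0 → ℂ) :
    ∑ x : π.range, f ((MonoidHom.ofInjective hπ).symm x) = ∑ a : N0, f a :=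
  Fintype.sum_equiv (MonoidHom.ofInjective hπ).symm.toEquiv _ _ fun _ => rfl

omit hcent in
theorem card_range : (Nat.card π.range : ℂ) = 162 := by
  rw [← Nat.card_congr (MonoidHom.ofInjective hπ).toEquiv, card_N0]; norm_num

theorem ind_gram [Fintype π.range] (i j : Ix) : classInner (ind hπ i) (ind hπ j) = (G0 i j : ℂ) := by
  show classInner (Cfsg.indFun π.range (psi hπ i)) (Cfsg.indFun π.range (psi hπ j)) = _
  rw [frobenius_reciprocity _ _ (indFun_isClassFunction _ _), classInner, card_range hπ]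
  have e : ∀ x : π.range, psi hπ i x * conj (Cfsg.indFun π.range (psi hπ j) (x : Y)) =
      (fun a => ev (emul (F i a) (econj (F j a)))) ((MonoidHom.ofInjective hπ).symm x) := by
    intro x
    obtain ⟨b, hb⟩ : ∃ b, (MonoidHom.ofInjective hπ).symm x = b := ⟨_, rfl⟩
    have hx : (x : Y) = π b := by
      rw [← hb]; exact (congrArg Subtype.val ((MonoidHom.ofInjective hπ).apply_symm_apply x)).symm
    show ev (F i ((MonoidHom.ofInjective hπ).symm x)) * conj (ind hπ j (x : Y)) =
      ev (emul (F i ((MonoidHom.ofInjective hπ).symm x)) (econj (F j ((MonoidHom.ofInjective hπ).symm x))))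
    rw [hb, hx, ev_emul, ev_econj]
    by_cases h : b * b = 1
    · simp [F_regular i b h, ev_zero]
    · rw [ind_eq hπ hcent j h]
  rw [Finset.sum_congr rfl fun x _ => e x,
    sum_range hπ (fun a => ev (emul (F i a) (econj (F j a)))), ← ev_sum, gram_sum]
  simp [ev]

omit hcent in
theorem ind_triv [Fintype π.range] (i : Ix) : classInner (ind hπ i) (1 : Y → ℂ) = (T0 i : ℂ) := by
  rw [ind, frobenius_reciprocity _ _ (IsCharacter.isClassFunction isCharacter_one), classInner,
    card_range hπ]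
  simp only [Pi.one_apply, map_one, mul_one]
  rw [show ∑ x : π.range, psi hπ i x = ∑ a : N0, ev (F i a) from sum_range hπ (fun a => ev (F i a)), ← ev_sum, triv_sum]
  simp [ev]

/-- No two conjugates of the involution multiply into the support of `D`. -/
theorem no_pairs {g : Y} (hg : ind hπ .dd g ≠ 0) :
    Nat.card {p : Y × Y // IsConj (π N0.n) p.1 ∧ IsConj (π N0.n) p.2 ∧ p.1 * p.2 = g} = 0 := by
  rw [Nat.card_eq_zero]
  refine Or.inl ⟨?_⟩
  rintro ⟨⟨p₁, p₂⟩, h₁, h₂, rfl⟩
  obtain ⟨x, a, ha, hF⟩ := ind_ne_zero hπ hg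
  have ha1 : a * a ≠ 1 := fun h => hF (F_regular _ a h)
  have hinv : ∀ p : Y, IsConj (π N0.n) p → ∀ x : Y,
      x⁻¹ * p * x * (x⁻¹ * p * x) = 1 ∧ x⁻¹ * p * x ≠ 1 := by
    intro p hp x
    obtain ⟨y, rfl⟩ := isConj_iff.1 hp
    constructor
    · calc x⁻¹ * (y * π N0.n * y⁻¹) * x * (x⁻¹ * (y * π N0.n * y⁻¹) * x)
          = x⁻¹ * y * (π N0.n * π N0.n) * y⁻¹ * x := by group
        _ = 1 := by rw [← map_mul, (show N0.n * N0.n = 1 by decide), map_one]; group
    · intro h
      have h' : π N0.n = 1 := by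
        calc π N0.n = (x⁻¹ * y)⁻¹ * (x⁻¹ * (y * π N0.n * y⁻¹) * x) * (x⁻¹ * y) := by group
          _ = 1 := by rw [h]; group
      exact (show (N0.n : N0) ≠ 1 by decide) ((map_eq_one hπ).1 h')
  set q₁ := x⁻¹ * p₁ * x with hq₁
  set q₂ := x⁻¹ * p₂ * x with hq₂
  obtain ⟨e₁, n₁⟩ := hinv p₁ h₁ x
  obtain ⟨e₂, n₂⟩ := hinv p₂ h₂ x
  rw [← hq₁] at e₁ n₁
  rw [← hq₂] at e₂ n₂
  have hqa : q₁ * q₂ = π a := by rw [← ha, hq₁, hq₂]; group
  have key : ∀ r s : Y, r * r = 1 → s * s = 1 → r * (r * s) * r⁻¹ = (r * s)⁻¹ := by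
    intro r s hr hs
    rw [mul_inv_rev, ← mul_assoc, hr, one_mul, inv_eq_of_mul_eq_one_right hr,
      inv_eq_of_mul_eq_one_right hs]
  have hcj : q₁ * π a * q₁⁻¹ = π a⁻¹ := by rw [map_inv, ← hqa]; exact key _ _ e₁ e₂
  obtain ⟨c, hc⟩ := exists_of_mem (fusion hπ hcent ha1 hcj)
  have hc2 : c * c = 1 := (map_eq_one hπ).1 (by rw [map_mul, hc, e₁])
  have hd : π (c * a) = q₂ := by rw [map_mul, hc, ← hqa, ← mul_assoc, e₁, one_mul]
  have hd2 : c * a * (c * a) = 1 := (map_eq_one hπ).1 (by rw [map_mul, hd, e₂])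
  have hcs := (invol_cases c hc2).resolve_left fun h => n₁ (by rw [← hc, h, map_one])
  have hds := (invol_cases _ hd2).resolve_left fun h => n₂ (by rw [← hd, h, map_one])
  exact hF (by
    have := F_D_pairs c hcs hc2 (c * a) hds hd2
    rwa [← mul_assoc, hc2, one_mul] at this)

theorem class_rel [Fintype (IrrCharacter Y)] (m : IrrCharacter Y → ℤ)
    (hm : ∀ χ : IrrCharacter Y, classInner (ind hπ .dd) (χ : Y → ℂ) = m χ) :
    ∑ χ : IrrCharacter Y, (m χ : ℂ) *
      ((χ : Y → ℂ) (π N0.n) * (χ : Y → ℂ) (π N0.n) / (χ : Y → ℂ) 1) = 0 := by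
  set v := π N0.n
  have h1 : ∑ g, ind hπ .dd g * ∑ χ : IrrCharacter Y,
      (χ : Y → ℂ) v * (χ : Y → ℂ) v * conj ((χ : Y → ℂ) g) / (χ : Y → ℂ) 1 = 0 := by
    refine Finset.sum_eq_zero fun g _ => ?_
    by_cases hg : ind hπ .dd g = 0
    · rw [hg, zero_mul]
    have h0 := class_mult_formula v v g
    rw [no_pairs hπ hcent hg, Nat.cast_zero, eq_comm, mul_eq_zero] at h0
    have hc : (Nat.card {x : Y // IsConj v x} : ℂ) ≠ 0 := by
      have : Nonempty {x : Y // IsConj v x} := ⟨⟨v, IsConj.refl v⟩⟩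
      exact Nat.cast_ne_zero.2 Nat.card_pos.ne'
    exact mul_eq_zero_of_right _ (h0.resolve_left
      (div_ne_zero (mul_ne_zero hc hc) (Nat.cast_ne_zero.2 Nat.card_pos.ne')))
  simp only [Finset.mul_sum] at h1
  rw [Finset.sum_comm] at h1
  have h2 : ∀ χ : IrrCharacter Y, ∑ g, ind hπ .dd g * ((χ : Y → ℂ) v * (χ : Y → ℂ) v *
      conj ((χ : Y → ℂ) g) / (χ : Y → ℂ) 1) =
      (Nat.card Y : ℂ) * ((m χ : ℂ) * ((χ : Y → ℂ) v * (χ : Y → ℂ) v / (χ : Y → ℂ) 1)) := by
    intro χ
    rw [← hm χ, ← mul_assoc, card_mul_classInner, Finset.sum_mul]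
    exact Finset.sum_congr rfl fun g _ => by ring
  rw [Finset.sum_congr rfl fun χ _ => h2 χ, ← Finset.mul_sum] at h1
  exact (mul_eq_zero.1 h1).resolve_left (Nat.cast_ne_zero.2 Nat.card_pos.ne')

/-- A proper normal subgroup containing the Sylow group. -/
theorem exists_normal :
    ∃ N : Subgroup Y, N.Normal ∧ N ≠ ⊤ ∧ sylP.map π ≤ N := by
  classical
  have := Fintype.ofFinite (IrrCharacter Y)
  have := Fintype.ofFinite π.range
  choose m hme hmi _ using fun i =>
    IsGeneralizedCharacter.exists_coeffs (θ := ind hπ i)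
      (IsGeneralizedCharacter.indFun (gch_psi hπ i))
  choose d hdp hd using fun χ : IrrCharacter Y => IsIrrCharacter.exists_degree χ.2
  let o : IrrCharacter Y := ⟨1, isIrrCharacter_one⟩
  have hsum : ∀ i g, ind hπ i g = ∑ χ, (m i χ : ℂ) * (χ : Y → ℂ) g := fun i g => by
    conv_lhs => rw [hme i]
    simp [Finset.sum_apply]
  have hdo : d o = 1 := by
    have := hd o
    simp only [o, Pi.one_apply] at this
    exact_mod_cast this.symm
  let D : Dec (IrrCharacter Y) :=
    { m := m
      o := o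
      d := d
      v := fun χ => (χ : Y → ℂ) (π N0.n)
      d_pos := hdp
      d_o := hdo
      v_o := rfl
      gram := fun i j => by
        have h := ind_gram hπ hcent i j
        rw [hme j, classInner_sum_right] at h
        simp only [classInner_smul_right, hmi, map_intCast] at h
        have h' : ((∑ χ, m i χ * m j χ : ℤ) : ℂ) = ((G0 i j : ℤ) : ℂ) := by
          push_cast; rw [← h]; exact Finset.sum_congr rfl fun χ _ => mul_comm _ _
        exact_mod_cast h'
      triv := fun i => by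
        have h := ind_triv hπ i
        rw [show (1 : Y → ℂ) = (o : Y → ℂ) from rfl, hmi] at h
        exact_mod_cast h
      deg := fun i => by
        rw [← ind_regular hπ (i := i) (g := 1) (one_mul 1), hsum i 1]
        exact Finset.sum_congr rfl fun χ _ => by rw [hd χ]
      val := fun i => by
        rw [← ind_regular hπ (i := i) (g := π N0.n)
          (by rw [← map_mul, (show N0.n * N0.n = 1 by decide), map_one]), hsum i]
      cls := by
        rw [← class_rel hπ hcent (m .dd) (hmi .dd)]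
        exact Finset.sum_congr rfl fun χ _ => by rw [hd χ] }
  obtain ⟨a, hao, ha⟩ := D.conclusion
  obtain ⟨n, ρ, hρ⟩ := IsIrrCharacter.isCharacter a.2
  have hker : ∀ g, g ∈ MonoidHom.ker ρ ↔ (a : Y → ℂ) g = (a : Y → ℂ) 1 := fun g => by
    rw [← hρ, MonoidHom.mem_ker, Representation.char_one, character_eq_finrank_iff]
    rfl
  refine ⟨MonoidHom.ker ρ, inferInstance, fun htop => hao ?_, ?_⟩
  · have hc : ∀ g, (a : Y → ℂ) g = (a : Y → ℂ) 1 := fun g =>
      (hker g).1 (htop ▸ Subgroup.mem_top g)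
    have h0 := classInner_irr_of_ne a.2 o.2 (fun h => hao (Subtype.ext h))
    exfalso
    rw [classInner] at h0
    simp only [hc, o, Pi.one_apply, map_one, mul_one, Finset.sum_const, Finset.card_univ,
      nsmul_eq_mul, ← Nat.card_eq_fintype_card] at h0
    rw [inv_mul_cancel_left₀ (Nat.cast_ne_zero.2 Nat.card_pos.ne')] at h0
    exact IsIrrCharacter.apply_one_ne_zero a.2 h0
  · have heu : N0.e ∈ (MonoidHom.ker ρ).comap π ∧ N0.u ∈ (MonoidHom.ker ρ).comap π := by
      rcases ha with ha | ha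
      · have hn : N0.n ∈ (MonoidHom.ker ρ).comap π :=
          Subgroup.mem_comap.2 ((hker _).2 (ha.trans (hd a).symm))
        have key : ∀ g : N0, N0.n * g * N0.n⁻¹ = g⁻¹ → g * g * g = 1 →
            g ∈ (MonoidHom.ker ρ).comap π := by
          intro g h1 h3
          have hgg : g = g⁻¹ * g⁻¹ := by
            calc g = g * g * g * (g⁻¹ * g⁻¹) := by group
              _ = _ := by rw [h3, one_mul]
          rw [hgg]
          nth_rewrite 1 [← h1]
          rw [mul_assoc, mul_assoc, ← mul_assoc g]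
          exact mul_mem hn (Subgroup.Normal.conj_mem inferInstance _ (inv_mem hn) g)
        exact ⟨key _ conj_e.1 (by decide), key _ conj_e.2 (by decide)⟩
      · obtain ⟨l, hl⟩ := exists_hom_of_degree_one (IsIrrCharacter.isCharacter a.2)
          (by rw [hd a]; exact_mod_cast ha)
        have key : ∀ g : N0, N0.n * g * N0.n⁻¹ = g⁻¹ → g * g * g = 1 →
            g ∈ (MonoidHom.ker ρ).comap π := by
          intro g h1 h3
          refine Subgroup.mem_comap.2 ((hker _).2 ?_)
          rw [← hl, map_one]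
          have e1 : l (π g) * l (π g) = 1 := by
            have e : l (π (N0.n * g * N0.n⁻¹)) = l (π g) := by
              rw [map_mul, map_mul, map_mul, map_mul, mul_right_comm, ← map_mul, ← map_mul π,
                mul_inv_cancel, map_one, map_one, one_mul]
            rw [h1] at e
            nth_rewrite 1 [← e]
            rw [← map_mul, ← map_mul, inv_mul_cancel, map_one, map_one]
          have e3 : l (π g) * l (π g) * l (π g) = 1 := by
            rw [← map_mul, ← map_mul, ← map_mul, ← map_mul, h3, map_one, map_one]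
          rwa [e1, one_mul] at e3
        exact ⟨key _ conj_e.1 (by decide), key _ conj_e.2 (by decide)⟩
    set K := (MonoidHom.ker ρ).comap π
    have hcm : ∀ g h : N0, h ∈ K → g * h * g⁻¹ * h⁻¹ ∈ K := fun g h hh =>
      mul_mem (Subgroup.Normal.conj_mem inferInstance h hh g) (inv_mem hh)
    have h1 := hcm N0.e N0.u heu.2
    rw [comm_eu.1] at h1
    have h2 : N0.z ∈ K := by
      have := mul_mem heu.1 (Subgroup.Normal.conj_mem inferInstance _ (inv_mem heu.1) N0.w)
      rwa [← mul_assoc, ← mul_assoc, comm_eu.2] at this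
    have h3 : N0.w ∈ K := by simpa using mul_mem h2 h1
    rintro y ⟨g, hg, rfl⟩
    show g ∈ K
    rw [syl_gen g hg, (coord_pow g.a).1, (coord_pow g.b).2.1, (coord_pow g.c).2.2.1,
      (coord_pow g.i).2.2.2]
    exact mul_mem (mul_mem (mul_mem (pow_mem h2 _) (pow_mem h3 _)) (pow_mem heu.2 _))
      (pow_mem heu.1 _)

omit hcent [Fintype Y] in
theorem syl_iff {a : N0} : π a ∈ sylP.map π ↔ a.s = false :=
  ⟨fun ⟨b, hb, e⟩ => (hπ e) ▸ hb, fun h => ⟨a, h, rfl⟩⟩

omit hcent [Fintype Y] in
theorem card_syl_map : Nat.card (sylP.map π) = 81 := by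
  rw [← Nat.card_congr (sylP.equivMapOfInjective π hπ).toEquiv, card_syl]

omit [Fintype Y] in
theorem normalizer_le : Subgroup.normalizer ((sylP.map π : Subgroup Y) : Set Y) ≤ π.range := by
  intro y hy
  obtain ⟨b, -, hb⟩ := (Subgroup.mem_normalizer_iff.1 hy (π N0.z)).1 ((syl_iff hπ).2 rfl)
  exact fusion hπ hcent (show N0.z * N0.z ≠ 1 by decide) hb.symm

/-- The image of the Sylow group is a Sylow group. -/
theorem exists_sylow : ∃ S : Sylow 3 Y, (S : Subgroup Y) = sylP.map π := by
  classical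
  have : Fact (Nat.Prime 3) := ⟨Nat.prime_three⟩
  have hP : IsPGroup 3 (sylP.map π) := IsPGroup.of_card (n := 4) (by rw [card_syl_map hπ]; norm_num)
  obtain ⟨S, hS⟩ := hP.exists_le_sylow
  have : Nontrivial (S : Subgroup Y) := ⟨⟨π N0.z, hS ((syl_iff hπ).2 rfl)⟩, 1, fun h =>
    (show N0.z ≠ 1 by decide) ((map_eq_one hπ).1 (congrArg Subtype.val h))⟩
  have : Nontrivial (Subgroup.center (S : Subgroup Y)) := IsPGroup.center_nontrivial S.2
  obtain ⟨⟨c, hc⟩, hc1⟩ := exists_ne (1 : Subgroup.center (S : Subgroup Y))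
  have hcc : ∀ x ∈ (S : Subgroup Y), x * (c : Y) = c * x := fun x hx =>
    congrArg Subtype.val (Subgroup.mem_center_iff.1 hc ⟨x, hx⟩)
  obtain ⟨d, hd⟩ := exists_of_mem (cent_all hcent (g := N0.z) rfl (by decide)
    (Subgroup.mem_centralizer_singleton_iff.2 (hcc _ (hS ((syl_iff hπ).2 rfl))).symm))
  obtain ⟨k, hk⟩ := (IsPGroup.iff_orderOf.1 S.2) c
  have hd1 : d ≠ 1 := fun h => hc1 (Subtype.ext (Subtype.ext (by
    show (c : Y) = 1
    rw [← hd, h, map_one])))
  have hds : d.s = false := by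
    let χ : N0 →* ℤˣ :=
      { toFun := fun x => if x.s then -1 else 1
        map_one' := rfl
        map_mul' := fun x y => (show ∀ s t : Bool, (if xor s t then (-1 : ℤˣ) else 1) =
          (if s then -1 else 1) * (if t then -1 else 1) by decide) x.s y.s }
    have h1 : d ^ 3 ^ k = 1 := (map_eq_one hπ).1 (by
      rw [map_pow, hd, ← hk]; exact_mod_cast congrArg Subtype.val (pow_orderOf_eq_one c))
    have h2 := congrArg χ h1
    rw [map_pow, map_one] at h2
    cases h : d.s with
    | false => rfl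
    | true =>
      have h3 : χ d = -1 := by show (if d.s then (-1 : ℤˣ) else 1) = -1; rw [h]; rfl
      rw [h3, Odd.neg_one_pow (Odd.pow (by decide))] at h2
      exact absurd h2 (by decide)
  have hSM : (S : Subgroup Y) ≤ π.range := fun x hx =>
    cent_all hcent hds hd1 (Subgroup.mem_centralizer_singleton_iff.2 (by rw [hd]; exact hcc x hx))
  refine ⟨S, (Subgroup.eq_of_le_of_card_ge hS ?_).symm⟩
  rw [card_syl_map hπ]
  have h1 := Subgroup.card_dvd_of_le hSM
  rw [← Nat.card_congr (MonoidHom.ofInjective hπ).toEquiv, card_N0] at h1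
  obtain ⟨j, hj⟩ := IsPGroup.iff_card.1 S.2
  rw [hj] at h1 ⊢
  have h2 : 3 ^ j ∣ 81 := by
    refine (Nat.Coprime.pow_left j (by norm_num : Nat.Coprime 3 2)).dvd_of_dvd_mul_left ?_
    exact h1
  exact Nat.le_of_dvd (by norm_num) h2

/-- The exceptional step: a group containing `N0` with the centralizers of its elements of order
three is equal to it. -/
theorem exceptional' : π.range = ⊤ := by
  classical
  have : Fact (Nat.Prime 3) := ⟨Nat.prime_three⟩
  obtain ⟨N, hN, hNtop, hPN⟩ := exists_normal hπ hcent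
  obtain ⟨S, hS⟩ := exists_sylow hπ hcent
  by_cases hn : π N0.n ∈ N
  · exfalso
    have hMN : π.range ≤ N := by
      rintro y ⟨g, rfl⟩
      cases hg : g.s with
      | false => exact hPN ((syl_iff hπ).2 hg)
      | true =>
        have h1 : (g * N0.n).s = false := by simp [N0.mul_def, hg, N0.n]
        have e : g = g * N0.n * N0.n := by
          rw [mul_assoc, (show N0.n * N0.n = 1 by decide), mul_one]
        rw [e, map_mul]
        exact mul_mem (hPN ((syl_iff hπ).2 h1)) hn
    obtain ⟨SN, hSN⟩ : ∃ SN : Sylow 3 N, (SN : Subgroup N).map N.subtype = sylP.map π :=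
      ⟨S.subtype (hS.le.trans hPN), by
        rw [Sylow.coe_subtype, hS, Subgroup.map_subgroupOf_eq_of_le hPN]⟩
    have h := Sylow.normalizer_sup_eq_top SN
    rw [hSN, eq_top_iff] at h
    exact hNtop (eq_top_iff.2 (h.trans
      (sup_le ((normalizer_le hπ hcent).trans hMN) le_rfl)))
  · have hmem : ∀ y ∈ π.range, y ∈ N → y ∈ sylP.map π := by
      rintro y ⟨g, rfl⟩ hy
      cases hg : g.s with
      | false => exact (syl_iff hπ).2 hg
      | true =>
        refine absurd ?_ hn
        have h1 : (N0.n * g).s = false := by simp [N0.mul_def, hg, N0.n]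
        have e : N0.n = N0.n * g * g⁻¹ := by group
        rw [e, map_mul, map_inv]
        exact mul_mem (hPN ((syl_iff hπ).2 h1)) (inv_mem hy)
    set PN := (sylP.map π).subgroupOf N with hPNdef
    have hcardPN : Nat.card PN = 81 := by
      rw [Nat.card_congr (Subgroup.subgroupOfEquivOfLe hPN).toEquiv, card_syl_map hπ]
    have hpg : IsPGroup 3 PN := IsPGroup.of_card (n := 4) (by rw [hcardPN]; norm_num)
    have : Group.IsNilpotent PN := hpg.isNilpotent
    let SN : Sylow 3 N := S.subtype (hS.le.trans hPN)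
    have hSN : (SN : Subgroup N) = PN := by rw [Sylow.coe_subtype, hS]
    have hndvd : ¬ 3 ∣ PN.index := hSN ▸ SN.not_dvd_index
    obtain ⟨K, hK, hKc⟩ := Transfer.exists_normal_complement_of_no_fusion PN
      (by
        rw [hcardPN, show 81 = 3 ^ 4 by norm_num]
        exact Nat.Coprime.pow_left 4 ((Nat.Prime.coprime_iff_not_dvd Nat.prime_three).2 hndvd))
      (fun x hx g hg => by
        by_cases h1 : x = 1
        · exact ⟨1, one_mem _, by simp [h1]⟩
        obtain ⟨a, ha, hax⟩ := hx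
        obtain ⟨b, -, hb⟩ := hg
        refine ⟨g, hmem _ (fusion hπ hcent (a := a) (b := b) (syl_regular a ha fun e => h1
          (Subtype.ext (by rw [e, map_one] at hax; exact hax.symm))) ?_) g.2, rfl⟩
        rw [hb]
        simp only [Subgroup.coe_subtype, Subgroup.coe_mul, Subgroup.coe_inv]
        rw [show (x : Y) = π a from hax.symm])
    have hKcard : Nat.Coprime 3 (Nat.card K) := by
      rw [Nat.Prime.coprime_iff_not_dvd Nat.prime_three, ← hKc.index_eq_card]
      exact hndvd
    let A : Subgroup N0 :=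
      { carrier := {x | x.s = false ∧ x.i = 0 ∧ x.c = 0}
        one_mem' := ⟨rfl, rfl, rfl⟩
        mul_mem' := fun {x y} ⟨h1, h2, h3⟩ ⟨h4, h5, h6⟩ => by
          refine ⟨?_, ?_, ?_⟩ <;> simp [N0.mul_def, h1, h2, h3, h4, h5, h6]
        inv_mem' := fun {x} ⟨h1, h2, h3⟩ => by
          refine ⟨h1, ?_, ?_⟩
          · show -(N0.sg x.s * x.i) = 0
            simp [h2]
          · show -(N0.sg x.s * x.c) = 0
            simp [h3] }
    set AN := (A.map π).subgroupOf N
    have hA : ∀ x ∈ A, x.s = false ∧ x * x * x = 1 := fun x hx => ⟨hx.1, by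
      obtain ⟨xa, xb, xc, xi, xs⟩ := x
      obtain ⟨rfl, rfl, rfl⟩ := hx
      exact plane_cube xa xb⟩
    have hAN : A.map π ≤ N := fun y ⟨x, hx, e⟩ => e ▸ hPN ((syl_iff hπ).2 hx.1)
    have : IsMulCommutative AN := ⟨⟨fun p q => by
      obtain ⟨x, hx, ex⟩ := p.2
      obtain ⟨x', hx', ex'⟩ := q.2
      apply Subtype.ext; apply Subtype.ext
      show N.subtype p.1 * N.subtype q.1 = N.subtype q.1 * N.subtype p.1
      rw [← ex, ← ex', ← map_mul, ← map_mul]
      congr 1
      obtain ⟨a, b, c, i, t⟩ := x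
      obtain ⟨a', b', c', i', t'⟩ := x'
      obtain ⟨rfl, rfl, rfl⟩ := hx
      obtain ⟨rfl, rfl, rfl⟩ := hx'
      ext <;> simp [N0.mul_def, N0.sg, add_comm]⟩⟩
    have hcardA : Nat.card AN = 9 := by
      rw [Nat.card_congr (Subgroup.subgroupOfEquivOfLe hAN).toEquiv,
        ← Nat.card_congr (A.equivMapOfInjective π hπ).toEquiv]
      have e : A ≃ (ZMod 3) × (ZMod 3) :=
        { toFun := fun x => (x.1.a, x.1.b)
          invFun := fun p => ⟨⟨p.1, p.2, 0, 0, false⟩, rfl, rfl, rfl⟩
          left_inv := fun ⟨⟨a, b, c, i, t⟩, h1, h2, h3⟩ => by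
            simp only at h1 h2 h3; subst h1 h2 h3; rfl
          right_inv := fun _ => rfl }
      rw [Nat.card_congr e]; simp
    have hcyc : ¬ IsCyclic AN := by
      intro h
      obtain ⟨g, hg⟩ := IsCyclic.exists_ofOrder_eq_natCard (α := AN)
      obtain ⟨x, hx, ex⟩ := g.2
      have h3 : g ^ 3 = 1 := by
        apply Subtype.ext; apply Subtype.ext
        show N.subtype g.1 ^ 3 = 1
        rw [← ex, ← map_pow, pow_succ, pow_two, (hA x hx).2, map_one]
      have := orderOf_dvd_of_pow_eq_one h3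
      rw [hg, hcardA] at this
      norm_num at this
    have hK1 : K = ⊥ := le_bot_iff.1 (Coprime.le_of_noncyclic hcyc
      (by rw [Subgroup.normalizer_eq_top K]; exact le_top)
      (by
        rw [hcardA, show 9 = 3 ^ 2 by norm_num]
        exact Nat.Coprime.pow_left 2 hKcard)
      fun g hg hg1 y hy => by
        obtain ⟨x, hx, ex⟩ := hg
        have hx1 : x ≠ 1 := fun e => hg1 (Subtype.ext (by rw [e, map_one] at ex; exact ex.symm))
        have hyM : (y : Y) ∈ π.range := cent_all hcent (hA x hx).1 hx1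
          (Subgroup.mem_centralizer_singleton_iff.2 (by
            rw [ex]; exact congrArg Subtype.val (Subgroup.mem_centralizer_singleton_iff.1 hy.2)))
        have hyP : y ∈ PN := hmem _ hyM y.2
        exact hKc.disjoint.le_bot ⟨hy.1, hyP⟩)
    have hPNtop : PN = ⊤ := by
      rw [hK1] at hKc
      exact Subgroup.isComplement'_bot_left.1 hKc
    have hNP : N = sylP.map π :=
      le_antisymm (fun y hy => (Subgroup.mem_subgroupOf.1 (hPNtop ▸ Subgroup.mem_top (⟨y, hy⟩ : N)))) hPN
    refine eq_top_iff.2 fun y _ => normalizer_le hπ hcent ?_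
    rw [← hNP, Subgroup.normalizer_eq_top]
    trivial

end Cfsg.Agent.PSLFourThree.Exc

namespace Cfsg.Agent.PSLFourThree.Exc

/-- The exceptional step: a group containing `N0` together with the centralizers of its elements
of order three is equal to it. -/
theorem exceptional (Y : Type*) [Group Y] [Finite Y] (π : N0 →* Y) (hπ : Function.Injective π)
    (hcent : ∀ g ∈ reps, Subgroup.centralizer ({π g} : Set Y) ≤ π.range) : π.range = ⊤ := by
  have := Fintype.ofFinite Y
  exact exceptional' hπ hcent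

end Cfsg.Agent.PSLFourThree.Exc
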