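import Cfsg.Agent.Lib.PSLFourThree.ExtendGlue

/-!
# Piece E of S3373: the parabolic extends to `PSL(4,3)`

* `extend`
-/

set_option autoImplicit false

namespace Cfsg.Agent.PSLFourThree

open Matrix ExtendPsl

universe u

variable {G : Type*} [Group G] {φ : Par →* G}

/-- A homomorphism with the right root values agrees with the embedding. -/
theorem agree_on_par (Ψ : S4 →* G) (hΨ : ∀ t : ZMod 3, Ψ (t01 t) = F01 φ t ∧ Ψ (t12 t) = F12 φ t ∧
      Ψ (t21 t) = F21 φ t ∧ Ψ (t23 t) = F23 φ t ∧ Ψ (t32 t) = F32 φ t)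
    {g : S4} (hg : g ∈ parLift) (h00 : g.1 0 0 = 1) : Ψ g = φS φ g := by
  have hsec : Ψ.comp secHom = phi123 φ := by
    refine MonoidHom.eq_of_eqOn_dense CurtisTitsA.closure_adjTvSet ?_
    rintro _ ⟨i, j, h, s, hadj, rfl⟩
    have key : ∀ (i j : Fin 3) (h : i ≠ j) (s : ZMod 3),
        (j.val = i.val + 1 ∨ i.val = j.val + 1) →
        (secHom (Matrix.SpecialLinearGroup.transvection h s) = t12 s ∨
          secHom (Matrix.SpecialLinearGroup.transvection h s) = t21 s ∨
          secHom (Matrix.SpecialLinearGroup.transvection h s) = t23 s ∨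
          secHom (Matrix.SpecialLinearGroup.transvection h s) = t32 s) := by decide +kernel
    obtain ⟨-, e1, e2, e3, e4⟩ := hΨ s
    show Ψ (secHom _) = φS φ (secHom _)
    rcases key i j h s hadj with k | k | k | k
    · rw [k, e1]; rfl
    · rw [k, e2]; rfl
    · rw [k, e3]; rfl
    · rw [k, e4]; rfl
  let P : S4 → Prop := fun a => a ∈ parLift ∧ Ψ a = φS φ a
  have hmul : ∀ {a b : S4}, P a → P b → P (a * b) := fun ha hb =>
    ⟨parLift.mul_mem ha.1 hb.1, by rw [map_mul, ha.2, hb.2, φS_mul φ ha.1 hb.1]⟩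
  have hinv : ∀ {a : S4}, P a → P a⁻¹ := fun ha =>
    ⟨parLift.inv_mem ha.1, by rw [map_inv, ha.2, φS_inv φ ha.1]⟩
  have p01 : ∀ t, P (t01 t) := fun t => ⟨t01_mem t, (hΨ t).1⟩
  have p02 : ∀ t, P (t02 t) := fun t => by
    have key : ∀ t, t02 t = t01 t * t12 1 * (t01 t)⁻¹ * (t12 1)⁻¹ := by decide +kernel
    rw [key]
    exact hmul (hmul (hmul (p01 t) ⟨t12_mem 1, (hΨ 1).2.1⟩) (hinv (p01 t)))
      (hinv ⟨t12_mem 1, (hΨ 1).2.1⟩)
  have p03 : ∀ t, P (x (i := 0) (j := 3) (by decide) t) := fun t => by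
    have key : ∀ t, x (i := 0) (j := 3) (by decide) t =
        t02 t * t23 1 * (t02 t)⁻¹ * (t23 1)⁻¹ := by decide +kernel
    rw [key]
    exact hmul (hmul (hmul (p02 t) ⟨t23_mem 1, (hΨ 1).2.2.2.1⟩) (hinv (p02 t)))
      (hinv ⟨t23_mem 1, (hΨ 1).2.2.2.1⟩)
  obtain ⟨g1, g2, g3⟩ := hg
  have hdet : (g.1.submatrix Fin.succ Fin.succ).det = 1 := by
    have := det_block (g := g) ⟨g1, g2, g3⟩
    rwa [h00, one_mul] at this
  let A : S3 := ⟨g.1.submatrix Fin.succ Fin.succ, hdet⟩
  let b : Fin 3 → ZMod 3 := ![g.1 0 1, g.1 0 2, g.1 0 3]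
  have e : g = secHom A * radMat b := by
    apply Subtype.ext
    rw [Matrix.SpecialLinearGroup.coe_mul, show (secHom A).1 = secMat A from rfl]
    ext i j
    fin_cases i <;> fin_cases j <;>
      simp [secMat, radMat, A, b, Matrix.mul_apply, Fin.sum_univ_four, h00, g1, g2, g3]
  have hA : P (secHom A) := ⟨secHom_mem A, DFunLike.congr_fun hsec A⟩
  have hb : P (radMat b) := by
    rw [radMat_eq]
    exact hmul (hmul (p01 _) (p02 _)) (p03 _)
  rw [e]
  exact (hmul hA hb).2

/-- The scalar `-1`. -/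
def negOneS : S4 := ⟨-1, by decide +kernel⟩

theorem pr_negOneS : pr negOneS = 1 := by
  rw [← map_one pr, pr_eq_iff]
  exact Or.inr (by show (1 : Matrix (Fin 4) (Fin 4) (ZMod 3)) = - -1; simp)

theorem negOneS_mem : negOneS ∈ parLift := ⟨rfl, rfl, rfl⟩

/-- Piece E. -/
theorem extend : Extend.{u} := by
  intro G _ _ φ hinj hz hyp
  have E : PEmb φ := ⟨hinj, hz⟩
  obtain ⟨g, hg⟩ := exists_conj_x13 (φ := φ) hyp
  obtain ⟨n, hn, h01, h02, h12⟩ := E.exists_weyl hg
  have W : Weyl φ n := ⟨E, ⟨g, hg⟩, hn, h01, h02, h12⟩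
  obtain ⟨Ψ, hΨ⟩ := W.exists_psi
  have hag : ∀ a : S4, a ∈ parLift → a.1 0 0 = 1 → Ψ a = φS φ a := fun a ha h0 =>
    agree_on_par Ψ hΨ ha h0
  -- the scalar is killed
  have hneg : Ψ negOneS = 1 := by
    set c := Ψ negOneS
    have hcen : ∀ a : S4, negOneS * a = a * negOneS := fun a => by
      apply Subtype.ext
      show -1 * a.1 = a.1 * -1
      simp
    have hcom : ∀ a : S4, a ∈ parLift → a.1 0 0 = 1 → Commute c (φS φ a) := fun a ha h0 => by
      rw [← hag a ha h0]
      exact (show Commute negOneS a from hcen a).map Ψ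
    obtain ⟨X, hX⟩ := eq_jS_of_commute E (c := c)
      (by rw [← φS_zEl φ]; exact hcom _ (qS_mem _ _ _ _ _) rfl)
      (hcom _ (colS_mem _) rfl) (hcom _ (t02_mem 1) (by decide +kernel))
      (hcom _ (t12_mem 1) (by decide +kernel))
    have h2 : c * c = 1 := by
      rw [← map_mul, show negOneS * negOneS = 1 from Subtype.ext (by
        show (-1 : Matrix (Fin 4) (Fin 4) (ZMod 3)) * -1 = 1
        simp), map_one]
    rw [hX, ← φS_mul φ (jS_mem X) (jS_mem X), jS_mul, ← φS_one φ] at h2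
    have e : jE (X + X) = jE 0 := by
      show pr (jS (X + X)) = pr (jS 0)
      rw [E.φS_inj (jS_mem _) parLift.one_mem h2, jS_zero]
    have key : ∀ X : M2, X + X = 0 → X = 0 := by decide +kernel
    rw [hX, key X (jE_inj e), jS_zero, φS_one]
  have hall : ∀ a : S4, a ∈ parLift → Ψ a = φS φ a := by
    intro a ha
    have hcases : a.1 0 0 = 1 ∨ a.1 0 0 = -1 := by
      have h := a00_ne ha
      revert h; generalize a.1 0 0 = d; revert d; decide
    rcases hcases with h0 | h0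
    · exact hag a ha h0
    · have h1 : (negOneS * a).1 0 0 = 1 := by
        show (-1 * a.1 : Matrix (Fin 4) (Fin 4) (ZMod 3)) 0 0 = 1
        simp [h0]
      have := hag _ (parLift.mul_mem negOneS_mem ha) h1
      rw [map_mul, hneg, one_mul] at this
      rw [this]
      exact φS_congr φ (by rw [map_mul, pr_negOneS, one_mul])
  have hker : Subgroup.center S4 ≤ Ψ.ker := by
    intro s hs
    obtain ⟨r, hr, hs'⟩ := Matrix.SpecialLinearGroup.mem_center_iff.1 hs
    have key : ∀ r : ZMod 3, r ^ Fintype.card (Fin 4) = 1 → r = 1 ∨ r = -1 := by decide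
    rcases key r hr with rfl | rfl
    · rw [show s = 1 from Subtype.ext (by
        rw [← hs', map_one, Matrix.SpecialLinearGroup.coe_one])]
      exact one_mem _
    · rw [show s = negOneS from Subtype.ext (by
        rw [← hs', map_neg, map_one]; rfl)]
      exact hneg
  let ψ : L4 →* G := QuotientGroup.lift (Subgroup.center S4) Ψ hker
  have hψ : ∀ a : S4, ψ (pr a) = Ψ a := fun a => rfl
  have hψz : ψ zEl = φ zPar := by
    rw [zEl_qS, hψ, hall _ (qS_mem _ _ _ _ _), φS_zEl]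
  refine ⟨ψ, ?_, ?_⟩
  · have : IsSimpleGroup L4 := Linear.isSimpleGroup_psl (by simp)
    rcases Subgroup.Normal.eq_bot_or_eq_top (H := ψ.ker) inferInstance with h | h
    · exact (MonoidHom.ker_eq_bot_iff ψ).1 h
    · exfalso
      have : zEl ∈ ψ.ker := h ▸ Subgroup.mem_top _
      rw [MonoidHom.mem_ker, hψz, ← map_one φ] at this
      rw [map_one, ← φS_zEl φ] at this
      exact ne_one_of E (qS_mem 0 0 1 0 0) (by decide +kernel) (by decide +kernel) this
  · intro x hx
    rw [hψz] at hx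
    obtain ⟨a, ha, -, -, rfl⟩ := E.of_commute (Subgroup.mem_centralizer_singleton_iff.1 hx)
    exact ⟨pr a, (hψ a).trans (hall a ha)⟩

end Cfsg.Agent.PSLFourThree
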