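import Cfsg.Agent.Lib.PSLFourThree.Defs
import Cfsg.Prelude.Def_Solvable

/-!
# The pieces of S3373 (see notes/S3373_proof.md)

* `ClosingBig`: an embedded `PSL(4,3)` containing the centralizer of a root element is everything
* `ClosingPar`: the same for the parabolic, when no root element is fused into `radB` outside `Z`
* `Extend`: otherwise the parabolic extends to `PSL(4,3)`
* `ParShape`: the parabolic as a maximal subgroup
-/

set_option autoImplicit false

namespace Cfsg.Agent.PSLFourThree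

universe u

/-- Piece B. -/
def ClosingBig : Prop :=
  ∀ (G : Type u) [Group G] [Finite G] (φ : L4 →* G), Function.Injective φ →
    Subgroup.centralizer ({φ zEl} : Set G) ≤ φ.range → φ.range = ⊤

/-- Piece D. -/
def ClosingPar : Prop :=
  ∀ (G : Type u) [Group G] [Finite G] (φ : Par →* G), Function.Injective φ →
    Subgroup.centralizer ({φ zPar} : Set G) ≤ φ.range →
    (∀ g : G, g * φ zPar * g⁻¹ ∈ parB.map φ → g * φ zPar * g⁻¹ ∈ parZ.map φ) → φ.range = ⊤

/-- Piece E. -/
def Extend : Prop :=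
  ∀ (G : Type u) [Group G] [Finite G] (φ : Par →* G), Function.Injective φ →
    Subgroup.centralizer ({φ zPar} : Set G) ≤ φ.range →
    (∃ g : G, g * φ zPar * g⁻¹ ∈ parB.map φ ∧ g * φ zPar * g⁻¹ ∉ parZ.map φ) →
    ∃ ψ : L4 →* G, Function.Injective ψ ∧ Subgroup.centralizer ({ψ zEl} : Set G) ≤ ψ.range

/-- Piece F. -/
def ParShape : Prop :=
  IsCoatom Par ∧ Nat.card (Cfsg.pCore 3 Par) = 27 ∧
    Nonempty (Par ⧸ Cfsg.pCore 3 Par ≃* Matrix.SpecialLinearGroup (Fin 3) (ZMod 3))

end Cfsg.Agent.PSLFourThree
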