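import Cfsg.Agent.Lib.PSLFourThree.CenterZ
import Cfsg.Agent.Lib.PSLFourThree.Targets

/-!
# Piece E of S3373: the embedded parabolic, elements of the centralizer of `z`

* `φS`: the embedding on lifts of the parabolic
* `PEmb`: the hypotheses
* `PEmb.inQ_of_inverted`: elements of order three inverted by an involution lie in `O_3`
* `comm_inQ`: commutators in `O_3` are powers of `z`
-/

set_option autoImplicit false

namespace Cfsg.Agent.PSLFourThree.ExtendPsl

open Matrix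

variable {G : Type*} [Group G]

open Classical in
/-- The embedding of the parabolic on matrices. -/
noncomputable def φS (φ : Par →* G) (a : S4) : G := if h : pr a ∈ Par then φ ⟨pr a, h⟩ else 1

/-- Translations of the last column. -/
def colS (v : Fin 3 → ZMod 3) : S4 :=
  ⟨!![1, 0, 0, v 0; 0, 1, 0, v 1; 0, 0, 1, v 2; 0, 0, 0, 1], by revert v; decide +kernel⟩

theorem qS_det : ∀ p q r s u : ZMod 3,
    (!![1, p, q, r; 0, 1, 0, s; 0, 0, 1, u; 0, 0, 0, 1] : Matrix (Fin 4) (Fin 4) (ZMod 3)).det = 1 := by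
  decide +kernel

/-- The normal subgroup of order 243 of the centralizer of `z`. -/
def qS (p q r s u : ZMod 3) : S4 :=
  ⟨!![1, p, q, r; 0, 1, 0, s; 0, 0, 1, u; 0, 0, 0, 1], qS_det p q r s u⟩

theorem qS_mem (p q r s u : ZMod 3) : qS p q r s u ∈ parLift := ⟨rfl, rfl, rfl⟩

theorem colS_mem (v : Fin 3 → ZMod 3) : colS v ∈ parLift := ⟨rfl, rfl, rfl⟩

theorem qS_mul (p q r s u p' q' r' s' u' : ZMod 3) :
    qS p q r s u * qS p' q' r' s' u' =
      qS (p + p') (q + q') (r + r' + (p * s' + q * u')) (s + s') (u + u') := by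
  apply Subtype.ext
  rw [Matrix.SpecialLinearGroup.coe_mul]
  ext i j
  fin_cases i <;> fin_cases j <;> simp [qS, Matrix.mul_apply, Fin.sum_univ_four] <;> ring

theorem colS_add (v w : Fin 3 → ZMod 3) : colS (v + w) = colS v * colS w := by
  revert v w; decide +kernel

theorem colS_zero : colS 0 = 1 := by decide +kernel

theorem colS_eq_qS (v : Fin 3 → ZMod 3) : colS v = qS 0 0 (v 0) (v 1) (v 2) := rfl

theorem qS_zero : qS 0 0 0 0 0 = 1 := by decide +kernel

theorem zEl_qS : zEl = pr (qS 0 0 1 0 0) := by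
  refine congrArg pr ?_
  decide +kernel

theorem qS_comm (p q r s u p' q' r' s' u' : ZMod 3) :
    qS p q r s u * qS p' q' r' s' u' =
      qS 0 0 (p * s' + q * u' - p' * s - q' * u) 0 0 *
        (qS p' q' r' s' u' * qS p q r s u) := by
  rw [qS_mul, qS_mul, qS_mul]
  congr 1 <;> ring

theorem qS_cube (p q r s u : ZMod 3) : qS p q r s u ^ 3 = 1 := by
  rw [pow_succ, pow_two, qS_mul, qS_mul, ← qS_zero]
  have h3 : ∀ a : ZMod 3, a + a + a = 0 := by decide
  congr 1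
  · exact h3 p
  · exact h3 q
  · linear_combination h3 r + (h3 (p * s + q * u))
  · exact h3 s
  · exact h3 u

theorem qS_center_pow : ∀ d : ZMod 3, qS 0 0 d 0 0 = qS 0 0 1 0 0 ^ d.val := by decide +kernel

theorem mem_par_iff {a : S4} : pr a ∈ Par ↔ a ∈ parLift := by
  refine ⟨fun h => ?_, fun h => ⟨a, h, rfl⟩⟩
  obtain ⟨b, ⟨h1, h2, h3⟩, e⟩ := h
  show _ ∧ _
  rcases pr_eq_iff.1 e with e | e <;> rw [e] <;> simp [h1, h2, h3]

section

variable (φ : Par →* G)

theorem φS_of_mem {a : S4} (h : pr a ∈ Par) : φS φ a = φ ⟨pr a, h⟩ := dif_pos h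

theorem φS_congr {a b : S4} (h : pr a = pr b) : φS φ a = φS φ b := by
  by_cases ha : pr a ∈ Par
  · rw [φS_of_mem φ ha, φS_of_mem φ (h ▸ ha)]
    exact congrArg φ (Subtype.ext h)
  · rw [φS, φS, dif_neg ha, dif_neg (h ▸ ha)]

theorem φS_mul {a b : S4} (ha : a ∈ parLift) (hb : b ∈ parLift) :
    φS φ (a * b) = φS φ a * φS φ b := by
  rw [φS_of_mem φ (mem_par_iff.2 (parLift.mul_mem ha hb)), φS_of_mem φ (mem_par_iff.2 ha),
    φS_of_mem φ (mem_par_iff.2 hb), ← map_mul]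
  exact congrArg φ (Subtype.ext (map_mul pr a b))

theorem φS_one : φS φ 1 = 1 := by
  rw [φS_of_mem φ (mem_par_iff.2 parLift.one_mem), ← map_one φ]
  exact congrArg φ (Subtype.ext (map_one pr))

theorem φS_inv {a : S4} (ha : a ∈ parLift) : φS φ a⁻¹ = (φS φ a)⁻¹ :=
  eq_inv_of_mul_eq_one_left (by rw [← φS_mul φ (parLift.inv_mem ha) ha, inv_mul_cancel, φS_one])

theorem φS_pow {a : S4} (ha : a ∈ parLift) (n : ℕ) : φS φ (a ^ n) = φS φ a ^ n := by
  induction n with
  | zero => rw [pow_zero, pow_zero, φS_one]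
  | succ n ih => rw [pow_succ, pow_succ, φS_mul φ (parLift.pow_mem ha n) ha, ih]

/-- Conjugation inside the parabolic. -/
theorem φS_conj {a b c : S4} (ha : a ∈ parLift) (hb : b ∈ parLift) (hc : c ∈ parLift)
    (h : a * b = c * a ∨ (a * b).1 = -(c * a).1) : φS φ a * φS φ b * (φS φ a)⁻¹ = φS φ c := by
  rw [mul_inv_eq_iff_eq_mul, ← φS_mul φ ha hb, ← φS_mul φ hc ha]
  refine φS_congr φ (pr_eq_iff.2 ?_)
  rcases h with h | h
  · exact Or.inl (by rw [h])
  · exact Or.inr (by rw [h]; simp)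

theorem φS_commute {a b : S4} (ha : a ∈ parLift) (hb : b ∈ parLift)
    (h : a * b = b * a ∨ (a * b).1 = -(b * a).1) : Commute (φS φ a) (φS φ b) :=
  mul_inv_eq_iff_eq_mul.1 (φS_conj φ ha hb hb h)

theorem φS_zEl : φS φ (qS 0 0 1 0 0) = φ zPar := by
  rw [φS_of_mem φ (mem_par_iff.2 (qS_mem _ _ _ _ _))]
  exact congrArg φ (Subtype.ext zEl_qS.symm)

/-- The image of the last column group as a function. -/
noncomputable def eB (v : Fin 3 → ZMod 3) : G := φS φ (colS v)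

theorem eB_add (v w : Fin 3 → ZMod 3) : eB φ (v + w) = eB φ v * eB φ w := by
  rw [eB, colS_add, φS_mul φ (colS_mem v) (colS_mem w)]; rfl

theorem eB_zero : eB φ 0 = 1 := by rw [eB, colS_zero, φS_one]

/-- The hypotheses of piece E. -/
structure PEmb : Prop where
  inj : Function.Injective φ
  hz : Subgroup.centralizer ({φ zPar} : Set G) ≤ φ.range

/-- Membership in the normal subgroup of order 243 of the centralizer of `z`. -/
def InQ (x : G) : Prop := ∃ p q r s u, x = φS φ (qS p q r s u)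

/-- Conjugates of `z`. -/
def IsRoot (x : G) : Prop := ∃ g : G, g * φ zPar * g⁻¹ = x

end

variable {φ : Par →* G}

theorem IsRoot.conj {x : G} (h : IsRoot φ x) (g : G) : IsRoot φ (g * x * g⁻¹) := by
  obtain ⟨k, rfl⟩ := h
  exact ⟨g * k, by group⟩

theorem IsRoot.of_conj {g x y : G} (h : IsRoot φ y) (e : g * x * g⁻¹ = y) : IsRoot φ x := by
  have := h.conj g⁻¹
  rw [← e] at this
  rwa [show g⁻¹ * (g * x * g⁻¹) * g⁻¹⁻¹ = x by group] at this

theorem PEmb.φS_inj (E : PEmb φ) {a b : S4} (ha : a ∈ parLift) (hb : b ∈ parLift)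
    (h : φS φ a = φS φ b) : pr a = pr b := by
  rw [φS_of_mem φ (mem_par_iff.2 ha), φS_of_mem φ (mem_par_iff.2 hb)] at h
  exact congrArg Subtype.val (E.inj h)

theorem PEmb.eB_inj (E : PEmb φ) : Function.Injective (eB φ) := by
  intro v w h
  rcases pr_eq_iff.1 (E.φS_inj (colS_mem v) (colS_mem w) h) with e | e
  · funext i
    have := congrFun (congrFun e i.castSucc) 3
    fin_cases i <;> simpa [colS] using this.symm
  · exfalso
    have := congrFun (congrFun e 0) 0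
    simp [colS] at this
    exact absurd this (by decide)

theorem PEmb.of_commute (E : PEmb φ) {g : G} (h : Commute g (φ zPar)) :
    ∃ a : S4, a ∈ parLift ∧ CZ a.1 ∧ Commute (pr a) zEl ∧ g = φS φ a := by
  obtain ⟨⟨v, hv⟩, rfl⟩ := E.hz (Subgroup.mem_centralizer_singleton_iff.2 h)
  obtain ⟨a, rfl⟩ := pr_surjective v
  have hc : Commute (pr a) zEl := by
    have := E.inj (show φ (⟨pr a, hv⟩ * zPar) = φ (zPar * ⟨pr a, hv⟩) by
      rw [map_mul, map_mul]; exact h.eq)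
    exact congrArg Subtype.val this
  exact ⟨a, mem_par_iff.1 hv, cz_of_commute hc, hc, (φS_of_mem φ hv).symm⟩

theorem midM_congr {a b : S4} (h : pr a = pr b) : midM a.1 = midM b.1 := by
  rcases pr_eq_iff.1 h with e | e
  · rw [e]
  · rw [e, midM_neg]

theorem midM_one : midM (1 : S4).1 = 1 := by decide +kernel

theorem exists_qS_of_midM {a : S4} (ha : CZ a.1) (hm : midM a.1 = 1) :
    ∃ p q r s u, pr a = pr (qS p q r s u) := by
  have hc := corner_sq ha
  obtain ⟨g1, g2, g3, g4, g5, g6⟩ := ha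
  set c := a.1 0 0 with hcdef
  have m : ∀ i j, midM a.1 i j = (1 : M2) i j := fun i j => by rw [hm]
  have m00 : c * a.1 1 1 = 1 := by simpa [midM] using m 0 0
  have m01 : c * a.1 1 2 = 0 := by simpa [midM] using m 0 1
  have m10 : c * a.1 2 1 = 0 := by simpa [midM] using m 1 0
  have m11 : c * a.1 2 2 = 1 := by simpa [midM] using m 1 1
  have cc : ∀ x, c * (c * x) = x := fun x => by rw [← mul_assoc, hc, one_mul]
  have d1 : a.1 1 1 = c := by rw [← cc (a.1 1 1), m00, mul_one]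
  have d2 : a.1 2 2 = c := by rw [← cc (a.1 2 2), m11, mul_one]
  have z1 : a.1 1 2 = 0 := by rw [← cc (a.1 1 2), m01, mul_zero]
  have z2 : a.1 2 1 = 0 := by rw [← cc (a.1 2 1), m10, mul_zero]
  refine ⟨c * a.1 0 1, c * a.1 0 2, c * a.1 0 3, c * a.1 1 3, c * a.1 2 3, pr_eq_iff.2 ?_⟩
  have hcc : c = 1 ∨ c = -1 := by revert hc; generalize c = d; revert d; decide
  rcases hcc with hc1 | hc1
  · left
    ext i j
    fin_cases i <;> fin_cases j <;>
      simp [qS, g1, g2, g3, g4, g5, d1, d2, z1, z2, hc1, ← g6, hcdef.symm]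
  · right
    ext i j
    fin_cases i <;> fin_cases j <;>
      simp [qS, g1, g2, g3, g4, g5, d1, d2, z1, z2, hc1, ← g6, hcdef.symm]

theorem inQ_of_midM {a : S4} (ha : CZ a.1) (hm : midM a.1 = 1) : InQ φ (φS φ a) := by
  obtain ⟨p, q, r, s, u, h⟩ := exists_qS_of_midM ha hm
  exact ⟨p, q, r, s, u, φS_congr φ h⟩

theorem InQ.commute_z {x : G} (h : InQ φ x) : Commute x (φ zPar) := by
  obtain ⟨p, q, r, s, u, rfl⟩ := h
  rw [← φS_zEl φ]
  refine φS_commute φ (qS_mem _ _ _ _ _) (qS_mem _ _ _ _ _) (Or.inl ?_)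
  rw [qS_mul, qS_mul]
  congr 1 <;> ring

theorem InQ.cube {x : G} (h : InQ φ x) : x ^ 3 = 1 := by
  obtain ⟨p, q, r, s, u, rfl⟩ := h
  rw [← φS_pow φ (qS_mem _ _ _ _ _), qS_cube, φS_one]

theorem InQ.mul {x y : G} (hx : InQ φ x) (hy : InQ φ y) : InQ φ (x * y) := by
  obtain ⟨p, q, r, s, u, rfl⟩ := hx
  obtain ⟨p', q', r', s', u', rfl⟩ := hy
  exact ⟨_, _, _, _, _, by rw [← φS_mul φ (qS_mem _ _ _ _ _) (qS_mem _ _ _ _ _), qS_mul]⟩

theorem InQ.inv {x : G} (hx : InQ φ x) : InQ φ x⁻¹ := by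
  have e : x⁻¹ = x * x := by
    have h := hx.cube
    rw [pow_succ, pow_two] at h
    exact (eq_inv_of_mul_eq_one_left h).symm
  rw [e]
  exact hx.mul hx

theorem inQ_z : InQ φ (φ zPar) := ⟨0, 0, 1, 0, 0, (φS_zEl φ).symm⟩

/-- Commutators in the normal subgroup are powers of `z`. -/
theorem comm_inQ {x y : G} (hx : InQ φ x) (hy : InQ φ y) :
    ∃ n : ℕ, n < 3 ∧ x * y * x⁻¹ * y⁻¹ = φ zPar ^ n := by
  obtain ⟨p, q, r, s, u, rfl⟩ := hx
  obtain ⟨p', q', r', s', u', rfl⟩ := hy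
  set d := p * s' + q * u' - p' * s - q' * u
  refine ⟨d.val, ZMod.val_lt d, ?_⟩
  rw [← φS_zEl φ, ← φS_pow φ (qS_mem _ _ _ _ _), ← qS_center_pow,
    mul_inv_eq_iff_eq_mul, mul_inv_eq_iff_eq_mul, mul_assoc,
    ← φS_mul φ (qS_mem _ _ _ _ _) (qS_mem _ _ _ _ _),
    ← φS_mul φ (qS_mem _ _ _ _ _) (qS_mem _ _ _ _ _),
    ← φS_mul φ (qS_mem _ _ _ _ _) (parLift.mul_mem (qS_mem _ _ _ _ _) (qS_mem _ _ _ _ _))]
  exact congrArg (φS φ) (qS_comm p q r s u p' q' r' s' u')

theorem InQ.conj (E : PEmb φ) {x c : G} (hx : InQ φ x) (hc : Commute c (φ zPar)) :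
    InQ φ (c * x * c⁻¹) := by
  obtain ⟨p, q, r, s, u, rfl⟩ := hx
  obtain ⟨a, ha, hca, hcom, rfl⟩ := E.of_commute hc
  have hci : CZ (a⁻¹ : S4).1 := cz_of_commute (by rw [map_inv]; exact hcom.inv_left)
  have hq : ∀ p q r s u, CZ (qS p q r s u).1 := fun p q r s u => ⟨rfl, rfl, rfl, rfl, rfl, rfl⟩
  have haq : CZ (a * qS p q r s u).1 := cz_of_commute (by
    rw [map_mul]
    refine hcom.mul_left ?_
    rw [zEl_qS]
    show pr _ * pr _ = pr _ * pr _
    rw [← map_mul, ← map_mul, qS_mul, qS_mul]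
    congr 2 <;> ring)
  have hm : midM (a * qS p q r s u * a⁻¹).1 = 1 := by
    rw [Matrix.SpecialLinearGroup.coe_mul, midM_mul haq hci, Matrix.SpecialLinearGroup.coe_mul,
      midM_mul hca (hq p q r s u), show midM (qS p q r s u).1 = 1 by
        ext i j; fin_cases i <;> fin_cases j <;> simp [midM, qS],
      mul_one, ← midM_mul hca hci, ← Matrix.SpecialLinearGroup.coe_mul, mul_inv_cancel, midM_one]
  rw [← φS_inv φ ha, ← φS_mul φ ha (qS_mem _ _ _ _ _),
    ← φS_mul φ (parLift.mul_mem ha (qS_mem _ _ _ _ _)) (parLift.inv_mem ha)]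
  refine inQ_of_midM (cz_of_commute ?_) hm
  have h2 : Commute (pr (qS p q r s u)) zEl := by
    rw [zEl_qS]
    show pr _ * pr _ = pr _ * pr _
    rw [← map_mul, ← map_mul, qS_mul, qS_mul]
    congr 2 <;> ring
  rw [map_mul, map_mul, map_inv]
  exact (hcom.mul_left h2).mul_left hcom.inv_left

theorem m2_sq_cube : ∀ M : M2, M * M = 1 → M * M * M = 1 → M = 1 := by
  intro M h2 h3
  rwa [h2, one_mul] at h3

/-- Elements of order three inverted by an involution of the centralizer. -/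
theorem PEmb.inQ_of_inverted (E : PEmb φ) {k y : G} (hk : Commute k (φ zPar)) (hk2 : k * k = 1)
    (hk1 : k ≠ 1) (hy : Commute y (φ zPar)) (hy3 : y ^ 3 = 1) (hinv : k * y * k⁻¹ = y⁻¹) :
    InQ φ y := by
  obtain ⟨κ, hκm, hκ, -, rfl⟩ := E.of_commute hk
  obtain ⟨η, hηm, hη, -, rfl⟩ := E.of_commute hy
  rw [← φS_mul φ hκm hκm, ← φS_one φ] at hk2
  have e2 := E.φS_inj (parLift.mul_mem hκm hκm) parLift.one_mem hk2
  have hK : midM κ.1 * midM κ.1 = 1 := by
    rw [← midM_mul hκ hκ, ← Matrix.SpecialLinearGroup.coe_mul, midM_congr e2, midM_one]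
  have hK' : midM κ.1 = 1 ∨ midM κ.1 = -1 := by
    rcases sl_two_involution ⟨midM κ.1, midM_det hκ⟩ (Subtype.ext hK) with e | e
    · exact Or.inl (congrArg Subtype.val e)
    · exact Or.inr (congrArg Subtype.val e)
  have hKneg : midM κ.1 = -1 := hK'.resolve_left fun h1 => hk1 (by
    have h3 : φS φ κ ^ 3 = 1 := (inQ_of_midM (φ := φ) hκ h1).cube
    rw [φS_one] at hk2
    rw [φS_mul φ hκm hκm] at hk2
    exact eq_one_of_square_of_cube hk2 h3)
  have hy' : φS φ κ * φS φ η * φS φ κ * φS φ η = 1 := by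
    rw [φS_one] at hk2
    rw [φS_mul φ hκm hκm] at hk2
    have hki : (φS φ κ)⁻¹ = φS φ κ := inv_eq_of_mul_eq_one_right hk2
    rw [hki] at hinv
    rw [hinv, inv_mul_cancel]
  rw [← φS_mul φ hκm hηm, ← φS_mul φ (parLift.mul_mem hκm hηm) hκm,
    ← φS_mul φ (parLift.mul_mem (parLift.mul_mem hκm hηm) hκm) hηm, ← φS_one φ] at hy'
  have e4 := midM_congr (E.φS_inj (parLift.mul_mem (parLift.mul_mem (parLift.mul_mem hκm hηm) hκm) hηm)
    parLift.one_mem hy')
  rw [← φS_pow φ hηm, ← φS_one φ] at hy3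
  have e3 := midM_congr (E.φS_inj (parLift.pow_mem hηm 3) parLift.one_mem hy3)
  have czmul : ∀ {a b : S4}, CZ a.1 → CZ b.1 → CZ (a * b).1 := by
    intro a b ha hb
    obtain ⟨a1, a2, a3, a4, a5, a6⟩ := ha
    obtain ⟨b1, b2, b3, b4, b5, b6⟩ := hb
    refine ⟨?_, ?_, ?_, ?_, ?_, ?_⟩ <;>
      simp [Matrix.mul_apply, Fin.sum_univ_four, a1, a2, a3, a4, a5, b1, b2, b3, b4, b5, a6, b6]
  rw [midM_one] at e3 e4
  rw [Matrix.SpecialLinearGroup.coe_mul, midM_mul (czmul (czmul hκ hη) hκ) hη,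
    Matrix.SpecialLinearGroup.coe_mul, midM_mul (czmul hκ hη) hκ,
    Matrix.SpecialLinearGroup.coe_mul, midM_mul hκ hη, hKneg] at e4
  rw [pow_succ, pow_two, Matrix.SpecialLinearGroup.coe_mul, midM_mul (czmul hη hη) hη,
    Matrix.SpecialLinearGroup.coe_mul, midM_mul hη hη] at e3
  refine inQ_of_midM hη (m2_sq_cube _ ?_ e3)
  simpa using e4

/-- The last column group. -/
theorem radB_eq {w : L4} (hw : w ∈ radB) : ∃ v, w = pr (colS v) := by
  induction hw using Subgroup.closure_induction with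
  | mem y hy =>
    rcases hy with rfl | rfl | rfl
    · exact ⟨![0, 1, 0], congrArg pr (by decide +kernel)⟩
    · exact ⟨![0, 0, 1], congrArg pr (by decide +kernel)⟩
    · exact ⟨![1, 0, 0], congrArg pr (by decide +kernel)⟩
  | one => exact ⟨0, by rw [colS_zero, map_one]⟩
  | mul a b _ _ ha hb =>
    obtain ⟨va, rfl⟩ := ha
    obtain ⟨vb, rfl⟩ := hb
    exact ⟨va + vb, by rw [colS_add, map_mul]⟩
  | inv a _ ha =>
    obtain ⟨va, rfl⟩ := ha
    exact ⟨-va, inv_eq_of_mul_eq_one_right (by rw [← map_mul, ← colS_add, add_neg_cancel, colS_zero, map_one])⟩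

end Cfsg.Agent.PSLFourThree.ExtendPsl
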