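import Cfsg.Agent.Lib.PSLFourThree.Targets
import Cfsg.Agent.Lib.GLOrder.Basic
import Cfsg.Agent.Lib.Linear.SLn

/-!
# The point parabolic of `PSL(4,3)` (piece F of S3373)

Main results: `parShape`, `card_par`, `pCore_par`, `parQuotient`.
-/

set_option autoImplicit false

namespace Cfsg.Agent.PSLFourThree

open Matrix

/-- `SL(3,3)`. -/
abbrev S3 := Matrix.SpecialLinearGroup (Fin 3) (ZMod 3)

theorem sq_one {a : ZMod 3} (h : a ≠ 0) : a * a = 1 := by
  revert h; revert a; decide

theorem mem_parLift {g : S4} : g ∈ parLift ↔ g.1 1 0 = 0 ∧ g.1 2 0 = 0 ∧ g.1 3 0 = 0 := Iff.rfl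

theorem det_block {g : S4} (hg : g ∈ parLift) :
    g.1 0 0 * (g.1.submatrix Fin.succ Fin.succ).det = 1 := by
  obtain ⟨h1, h2, h3⟩ := mem_parLift.1 hg
  have h := g.2
  rw [Matrix.det_succ_column_zero, Fin.sum_univ_four] at h
  rw [h1, h2, h3] at h
  simpa [Fin.succAbove_zero] using h

theorem a00_ne {g : S4} (hg : g ∈ parLift) : g.1 0 0 ≠ 0 := left_ne_zero_of_mul_eq_one (det_block hg)

theorem det_levi {g : S4} (hg : g ∈ parLift) :
    (g.1 0 0 • g.1.submatrix Fin.succ Fin.succ).det = 1 := by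
  rw [Matrix.det_smul, Fintype.card_fin, pow_succ, pow_two, sq_one (a00_ne hg), one_mul, det_block hg]

/-- The Levi quotient of the preimage of the parabolic. -/
def leviLift : parLift →* S3 :=
  MonoidHom.mk' (fun g => ⟨g.1.1 0 0 • g.1.1.submatrix Fin.succ Fin.succ, det_levi g.2⟩) fun g h => by
    apply Subtype.ext
    obtain ⟨h1, h2, h3⟩ := mem_parLift.1 h.2
    obtain ⟨g1, g2, g3⟩ := mem_parLift.1 g.2
    show (g.1.1 * h.1.1) 0 0 • (g.1.1 * h.1.1).submatrix Fin.succ Fin.succ =
      (g.1.1 0 0 • g.1.1.submatrix Fin.succ Fin.succ) * (h.1.1 0 0 • h.1.1.submatrix Fin.succ Fin.succ)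
    rw [Matrix.smul_mul, Matrix.mul_smul, smul_smul,
      show (g.1.1 * h.1.1) 0 0 = g.1.1 0 0 * h.1.1 0 0 by simp [Matrix.mul_apply, Fin.sum_univ_four, h1, h2, h3]]
    congr 1
    ext i j
    fin_cases i <;> simp [Matrix.mul_apply, Fin.sum_univ_four, Fin.sum_univ_three, g1, g2, g3]

/-- The section of the Levi quotient. -/
def secMat (A : S3) : Matrix (Fin 4) (Fin 4) (ZMod 3) :=
  !![1, 0, 0, 0; 0, A.1 0 0, A.1 0 1, A.1 0 2; 0, A.1 1 0, A.1 1 1, A.1 1 2; 0, A.1 2 0, A.1 2 1, A.1 2 2]

theorem secMat_sub (A : S3) : (secMat A).submatrix Fin.succ Fin.succ = A.1 := by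
  ext i j; fin_cases i <;> fin_cases j <;> rfl

theorem leviLift_surjective : Function.Surjective leviLift := by
  intro A
  have hd : (secMat A).det = 1 := by
    rw [Matrix.det_succ_column_zero, Fin.sum_univ_four]
    have h : (secMat A).submatrix (Fin.succAbove 0) Fin.succ = A.1 := by
      rw [show Fin.succAbove (0 : Fin 4) = Fin.succ from funext Fin.succAbove_zero_apply, secMat_sub]
    rw [h, show secMat A 0 0 = 1 from rfl, show secMat A 1 0 = 0 from rfl, show secMat A 2 0 = 0 from rfl,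
      show secMat A 3 0 = 0 from rfl]
    simp
  refine ⟨⟨⟨secMat A, hd⟩, rfl, rfl, rfl⟩, Subtype.ext ?_⟩
  show secMat A 0 0 • (secMat A).submatrix Fin.succ Fin.succ = A.1
  rw [secMat_sub, show secMat A 0 0 = 1 from rfl, one_smul]

theorem scalar_mem_parLift {g : S4} (hg : g ∈ Subgroup.center S4) : g ∈ parLift := by
  obtain ⟨r, -, hr⟩ := Matrix.SpecialLinearGroup.mem_center_iff.1 hg
  simp [mem_parLift, ← hr]

theorem leviLift_center (g : parLift) (hg : (g : S4) ∈ Subgroup.center S4) : leviLift g = 1 := by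
  obtain ⟨r, -, hr⟩ := Matrix.SpecialLinearGroup.mem_center_iff.1 hg
  have hr0 : r ≠ 0 := by
    have := a00_ne g.2
    rwa [← hr, Matrix.scalar_apply, Matrix.diagonal_apply_eq] at this
  apply Subtype.ext
  show g.1.1 0 0 • g.1.1.submatrix Fin.succ Fin.succ = 1
  rw [← hr]
  ext i j
  by_cases h : i = j
  · subst h; simp [sq_one hr0]
  · simp [h]

/-- `pr` on the preimage of the parabolic. -/
def prPar : parLift →* Par := pr.subgroupMap parLift

theorem prPar_surjective : Function.Surjective prPar := pr.subgroupMap_surjective parLift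

theorem ker_prPar : prPar.ker ≤ leviLift.ker := fun g hg =>
  leviLift_center g ((QuotientGroup.eq_one_iff (g : S4)).1 (congrArg Subtype.val hg))

/-- The Levi quotient of the parabolic. -/
noncomputable def levi : Par →* S3 := prPar.liftOfSurjective prPar_surjective ⟨leviLift, ker_prPar⟩

theorem levi_prPar (g : parLift) : levi (prPar g) = leviLift g :=
  MonoidHom.liftOfRightInverse_comp_apply prPar _ _ ⟨leviLift, ker_prPar⟩ g

theorem levi_surjective : Function.Surjective levi := fun A => by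
  obtain ⟨g, rfl⟩ := leviLift_surjective A
  exact ⟨_, levi_prPar g⟩

/-- A translation of the radical. -/
def radMat (b : Fin 3 → ZMod 3) : S4 :=
  ⟨!![1, b 0, b 1, b 2; 0, 1, 0, 0; 0, 0, 1, 0; 0, 0, 0, 1], by revert b; decide +kernel⟩

theorem radMat_mem (b : Fin 3 → ZMod 3) : radMat b ∈ parLift := ⟨rfl, rfl, rfl⟩

theorem radMat_eq (b : Fin 3 → ZMod 3) :
    radMat b = x (i := 0) (j := 1) (by decide) (b 0) * x (i := 0) (j := 2) (by decide) (b 1) *
      x (i := 0) (j := 3) (by decide) (b 2) := by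
  revert b; decide +kernel

theorem x_pow {i j : Fin 4} (h : i ≠ j) (a : ZMod 3) : x h a = x h 1 ^ a.val := by
  revert a; revert h; revert i j; decide +kernel

theorem radMat_mem_radA (b : Fin 3 → ZMod 3) : pr (radMat b) ∈ radA := by
  have h1 : pr (x (i := 0) (j := 1) (by decide) 1) ∈ radA := Subgroup.subset_closure (by left; rfl)
  have h2 : pr (x (i := 0) (j := 2) (by decide) 1) ∈ radA := Subgroup.subset_closure (by right; left; rfl)
  have h3 : pr (x (i := 0) (j := 3) (by decide) 1) ∈ radA := Subgroup.subset_closure (by right; right; rfl)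
  rw [radMat_eq, x_pow _ (b 0), x_pow _ (b 1), x_pow _ (b 2), map_mul, map_mul, map_pow, map_pow, map_pow]
  exact mul_mem (mul_mem (pow_mem h1 _) (pow_mem h2 _)) (pow_mem h3 _)

/-- The kernel of the Levi quotient is the radical. -/
theorem ker_levi_eq : levi.ker = Set.range fun b : Fin 3 → ZMod 3 => prPar ⟨radMat b, radMat_mem b⟩ := by
  ext y
  rw [SetLike.mem_coe, MonoidHom.mem_ker, Set.mem_range]
  constructor
  · intro hy
    obtain ⟨g, rfl⟩ := prPar_surjective y
    rw [levi_prPar] at hy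
    have ha := a00_ne g.2
    obtain ⟨g1, g2, g3⟩ := mem_parLift.1 g.2
    have hA : ∀ i j : Fin 3, g.1.1 i.succ j.succ = g.1.1 0 0 * (1 : Matrix (Fin 3) (Fin 3) (ZMod 3)) i j := by
      intro i j
      have h := congrFun (congrFun (congrArg Subtype.val hy) i) j
      change g.1.1 0 0 * g.1.1 i.succ j.succ = (1 : Matrix (Fin 3) (Fin 3) (ZMod 3)) i j at h
      rw [← h, ← mul_assoc, sq_one ha, one_mul]
    refine ⟨fun k => g.1.1 0 0 * g.1.1 0 k.succ, Subtype.ext ((QuotientGroup.eq (s := Subgroup.center S4)).2 ?_)⟩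
    have hg : g.1 = radMat (fun k => g.1.1 0 0 * g.1.1 0 k.succ) * ⟨g.1.1 0 0 • 1, by
        rw [Matrix.det_smul, Matrix.det_one, mul_one, Fintype.card_fin, pow_succ, pow_succ, pow_two, sq_one ha,
          one_mul, sq_one ha]⟩ := by
      apply Subtype.ext
      show g.1.1 = (radMat fun k => g.1.1 0 0 * g.1.1 0 k.succ).1 * (g.1.1 0 0 • 1)
      rw [Matrix.mul_smul, mul_one]
      ext i j
      fin_cases i <;> fin_cases j <;>
        first
          | (simp [radMat, g1, g2, g3]; done)
          | (simp [radMat, ← mul_assoc, sq_one ha]; done)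
          | (have h := hA 0 0; simpa [radMat] using h)
          | (have h := hA 0 1; simpa [radMat] using h)
          | (have h := hA 0 2; simpa [radMat] using h)
          | (have h := hA 1 0; simpa [radMat] using h)
          | (have h := hA 1 1; simpa [radMat] using h)
          | (have h := hA 1 2; simpa [radMat] using h)
          | (have h := hA 2 0; simpa [radMat] using h)
          | (have h := hA 2 1; simpa [radMat] using h)
          | (have h := hA 2 2; simpa [radMat] using h)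
    show (radMat _)⁻¹ * g.1 ∈ Subgroup.center S4
    rw [inv_mul_eq_iff_eq_mul.2 hg]
    refine Matrix.SpecialLinearGroup.mem_center_iff.2 ⟨g.1.1 0 0, ?_, ?_⟩
    · rw [Fintype.card_fin, pow_succ, pow_succ, pow_two, sq_one ha, one_mul, sq_one ha]
    · show Matrix.scalar (Fin 4) _ = g.1.1 0 0 • (1 : Matrix (Fin 4) (Fin 4) (ZMod 3))
      rw [Matrix.smul_one_eq_diagonal, Matrix.scalar_apply]
  · rintro ⟨b, rfl⟩
    rw [levi_prPar]
    revert b
    decide +kernel

theorem ker_levi_le : levi.ker ≤ parA := fun y hy => by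
  rw [← SetLike.mem_coe, ker_levi_eq] at hy
  obtain ⟨b, rfl⟩ := hy
  exact radMat_mem_radA b

theorem parA_le_ker : parA ≤ levi.ker := by
  intro y hy
  have key : radA ≤ levi.ker.map Par.subtype := by
    refine (Subgroup.closure_le _).2 ?_
    have h : ∀ b, pr (radMat b) ∈ levi.ker.map Par.subtype := fun b =>
      ⟨prPar ⟨radMat b, radMat_mem b⟩, by rw [ker_levi_eq]; exact ⟨b, rfl⟩, rfl⟩
    rintro g (rfl | rfl | rfl)
    · rw [show x (i := 0) (j := 1) (by decide) (1 : ZMod 3) = radMat ![1, 0, 0] from by decide +kernel]; exact h _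
    · rw [show x (i := 0) (j := 2) (by decide) (1 : ZMod 3) = radMat ![0, 1, 0] from by decide +kernel]; exact h _
    · rw [show zEl = pr (radMat ![0, 0, 1]) from congrArg pr (by decide +kernel)]; exact h _
  obtain ⟨y', hy', e⟩ := key hy
  rwa [← Subtype.ext e]

theorem ker_levi : levi.ker = parA := le_antisymm ker_levi_le parA_le_ker

theorem card_ker_levi : Nat.card levi.ker = 27 := by
  have hinj : Function.Injective fun b : Fin 3 → ZMod 3 => prPar ⟨radMat b, radMat_mem b⟩ := by
    intro b b' h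
    have h' := (QuotientGroup.eq (s := Subgroup.center S4)).1 (congrArg Subtype.val h)
    obtain ⟨r, -, hr⟩ := Matrix.SpecialLinearGroup.mem_center_iff.1 h'
    have e : ((radMat b)⁻¹ * radMat b').1 = Matrix.scalar (Fin 4) r := hr.symm
    have e2 : (radMat b).1 * Matrix.scalar (Fin 4) r = (radMat b').1 := by
      rw [← e, ← Matrix.SpecialLinearGroup.coe_mul, mul_inv_cancel_left]
    have e3 : r = 1 := by
      have := congrFun (congrFun e2 1) 1
      simpa [radMat] using this
    rw [e3, map_one, mul_one] at e2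
    funext k
    fin_cases k
    · simpa [radMat] using congrFun (congrFun e2 0) 1
    · simpa [radMat] using congrFun (congrFun e2 0) 2
    · simpa [radMat] using congrFun (congrFun e2 0) 3
  rw [← SetLike.coe_sort_coe, ker_levi_eq, Nat.card_range_of_injective hinj, Nat.card_fun, Nat.card_zmod,
    Nat.card_eq_fintype_card, Fintype.card_fin]
  norm_num

instance parA_normal : parA.Normal := ker_levi ▸ inferInstance

theorem card_S3 : Nat.card S3 = 5616 := by
  rw [GLOrder.card_SL, Nat.card_zmod]; decide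

theorem card_par : Nat.card Par = 151632 := by
  rw [← Subgroup.card_mul_index levi.ker, Subgroup.index_ker, MonoidHom.range_eq_top.2 levi_surjective,
    Subgroup.card_top, card_ker_levi, card_S3]

theorem isSimpleGroup_S3 : IsSimpleGroup S3 := by
  haveI := Cfsg.Agent.Linear.isSimpleGroup_psl (F := ZMod 3) (ι := Fin 3) (by rw [Fintype.card_fin])
  have hc : Subgroup.center S3 = ⊥ := by
    rw [Subgroup.eq_bot_iff_forall]
    intro g hg
    obtain ⟨r, hr, hrg⟩ := Matrix.SpecialLinearGroup.mem_center_iff.1 hg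
    have : r = 1 := (by decide : ∀ r : ZMod 3, r ^ 3 = 1 → r = 1) r (by rwa [Fintype.card_fin] at hr)
    exact Subtype.ext (by rw [← hrg, this, map_one]; rfl)
  have e : Matrix.ProjectiveSpecialLinearGroup (Fin 3) (ZMod 3) ≃* S3 :=
    (QuotientGroup.quotientMulEquivOfEq hc).trans QuotientGroup.quotientBot
  exact e.symm.isSimpleGroup

theorem pCore_par : Cfsg.pCore 3 Par = parA := by
  haveI : Fact (Nat.Prime 3) := ⟨Nat.prime_three⟩
  rw [← ker_levi]
  refine le_antisymm (sSup_le ?_) (le_sSup ⟨inferInstance, IsPGroup.of_card (n := 3) card_ker_levi⟩)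
  rintro N ⟨hN, hP⟩
  haveI := isSimpleGroup_S3
  have hNm : (N.map levi).Normal := hN.map levi levi_surjective
  rcases hNm.eq_bot_or_eq_top with h | h
  · rwa [Subgroup.map_eq_bot_iff] at h
  · exfalso
    obtain ⟨k, hk⟩ := IsPGroup.iff_card.1 (hP.map levi)
    rw [h, Subgroup.card_top, card_S3] at hk
    have h2 : 2 ∣ 3 ^ k := hk ▸ by norm_num
    exact absurd (Nat.Prime.dvd_of_dvd_pow Nat.prime_two h2) (by norm_num)

/-- The quotient of the parabolic by its radical. -/
noncomputable def parQuotient : Par ⧸ parA ≃* S3 :=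
  (QuotientGroup.quotientMulEquivOfEq ker_levi.symm).trans
    (QuotientGroup.quotientKerEquivOfSurjective levi levi_surjective)

theorem exists_move : ∀ a b c d : ZMod 3, (b ≠ 0 ∨ c ≠ 0 ∨ d ≠ 0) → ∃ α β γ δ ε : ZMod 3,
    a + α * (b + δ * c + ε * d) = 0 ∧ c + β * (b + δ * c + ε * d) = 0 ∧ d + γ * (b + δ * c + ε * d) = 0 := by
  decide +kernel

theorem coatom_par : IsCoatom Par := by
  have hpr : ∀ g : S4, pr g ∈ Par → g ∈ parLift := by
    rintro g ⟨h, hh, e⟩
    have hc : h⁻¹ * g ∈ Subgroup.center S4 := (QuotientGroup.eq (s := Subgroup.center S4)).1 e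
    have := mul_mem hh (scalar_mem_parLift hc)
    rwa [mul_inv_cancel_left] at this
  have key : ∀ g : S4, g ∉ parLift → ∃ t ∈ parLift, (t * g).1 0 0 = 0 ∧ (t * g).1 1 0 ≠ 0 ∧
      (t * g).1 2 0 = 0 ∧ (t * g).1 3 0 = 0 := by
    intro g hg
    have hne : g.1 1 0 ≠ 0 ∨ g.1 2 0 ≠ 0 ∨ g.1 3 0 ≠ 0 := by
      by_contra hc
      push Not at hc
      exact hg ⟨hc.1, hc.2.1, hc.2.2⟩
    obtain ⟨α, β, γ, δ, ε, h0, h2, h3⟩ := exists_move (g.1 0 0) _ _ _ hne
    refine ⟨x (i := 0) (j := 1) (by decide) α * x (i := 2) (j := 1) (by decide) β *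
      x (i := 3) (j := 1) (by decide) γ * x (i := 1) (j := 2) (by decide) δ *
      x (i := 1) (j := 3) (by decide) ε, ?_, ?_⟩
    · refine mul_mem (mul_mem (mul_mem (mul_mem ?_ ?_) ?_) ?_) ?_ <;>
        (show _ ∧ _; simp [Matrix.SpecialLinearGroup.transvection, Matrix.transvection])
    · have hcol : ∀ i : Fin 4, ((x (i := 0) (j := 1) (by decide) α * x (i := 2) (j := 1) (by decide) β *
          x (i := 3) (j := 1) (by decide) γ * x (i := 1) (j := 2) (by decide) δ *
          x (i := 1) (j := 3) (by decide) ε) * g).1 i 0 =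
          ![g.1 0 0 + α * (g.1 1 0 + δ * g.1 2 0 + ε * g.1 3 0), g.1 1 0 + δ * g.1 2 0 + ε * g.1 3 0,
            g.1 2 0 + β * (g.1 1 0 + δ * g.1 2 0 + ε * g.1 3 0),
            g.1 3 0 + γ * (g.1 1 0 + δ * g.1 2 0 + ε * g.1 3 0)] i := by
        intro i
        rw [Matrix.SpecialLinearGroup.coe_mul, Matrix.mul_apply, Matrix.SpecialLinearGroup.coe_mul,
          Matrix.SpecialLinearGroup.coe_mul, Matrix.SpecialLinearGroup.coe_mul, Matrix.SpecialLinearGroup.coe_mul]
        fin_cases i <;>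
          simp [Matrix.SpecialLinearGroup.transvection, Matrix.transvection, Matrix.mul_apply, Fin.sum_univ_four,
            Matrix.one_apply, Matrix.single_apply] <;> ring
      rw [hcol, hcol, hcol, hcol]
      refine ⟨h0, fun hs => ?_, h2, h3⟩
      have hs' : g.1 1 0 + δ * g.1 2 0 + ε * g.1 3 0 = 0 := hs
      rw [hs', mul_zero, add_zero] at h2 h3
      rw [h2, h3, mul_zero, mul_zero, add_zero, add_zero] at hs'
      rcases hne with h | h | h
      · exact h hs'
      · exact h h2
      · exact h h3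
  refine ⟨fun h => ?_, fun H hH => ?_⟩
  · have h1 : pr (x (i := 1) (j := 0) (by decide) (1 : ZMod 3)) ∈ Par := h ▸ Subgroup.mem_top _
    have h2 := (hpr _ h1).1
    simp [Matrix.SpecialLinearGroup.transvection, Matrix.transvection] at h2
  obtain ⟨y, hyH, hyP⟩ := SetLike.exists_of_lt hH
  obtain ⟨g0, rfl⟩ := QuotientGroup.mk_surjective y
  have hg0 : g0 ∉ parLift := fun h => hyP ⟨g0, h, rfl⟩
  obtain ⟨t0, ht0, a0, a1, a2, a3⟩ := key g0 hg0
  rw [eq_top_iff]
  rintro y -
  obtain ⟨g, rfl⟩ := QuotientGroup.mk_surjective y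
  by_cases hg : g ∈ parLift
  · exact hH.le ⟨g, hg, rfl⟩
  obtain ⟨t, ht, b0, b1, b2, b3⟩ := key g hg
  set u := t0 * g0 with hu
  have h' : u⁻¹ * (t * g) ∈ parLift := by
    have hcol : (fun i => (t * g).1 i 0) = fun i => ((t * g).1 1 0 * u.1 1 0) * u.1 i 0 := by
      funext i
      fin_cases i
      · show (t * g).1 0 0 = _ * u.1 0 0; rw [b0, a0, mul_zero]
      · show (t * g).1 1 0 = _ * u.1 1 0; rw [mul_assoc, sq_one a1, mul_one]
      · show (t * g).1 2 0 = _ * u.1 2 0; rw [b2, a2, mul_zero]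
      · show (t * g).1 3 0 = _ * u.1 3 0; rw [b3, a3, mul_zero]
    set c := (t * g).1 1 0 * u.1 1 0
    have e : ∀ i, (u⁻¹ * (t * g)).1 i 0 = c * (u⁻¹ * u).1 i 0 := fun i => by
      have hmul : ∀ (v w : S4), (v * w).1 i 0 = ∑ j, v.1 i j * w.1 j 0 := fun v w => Matrix.mul_apply
      rw [hmul u⁻¹ (t * g), hmul u⁻¹ u, Finset.mul_sum]
      refine Finset.sum_congr rfl fun j _ => ?_
      rw [congrFun hcol j]; ring
    simp [mem_parLift, e]
  have hmem : ∀ s ∈ parLift, pr s ∈ H := fun s hs => hH.le ⟨s, hs, rfl⟩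
  have e : g = t⁻¹ * (t0 * g0) * (u⁻¹ * (t * g)) := by rw [hu]; group
  show pr g ∈ H
  rw [e, map_mul, map_mul, map_mul]
  exact mul_mem (mul_mem (hmem _ (inv_mem ht)) (mul_mem (hmem _ ht0) hyH)) (hmem _ h')

theorem parShape : ParShape :=
  ⟨coatom_par, by rw [pCore_par, ← ker_levi]; exact card_ker_levi,
    ⟨(QuotientGroup.quotientMulEquivOfEq pCore_par).trans parQuotient⟩⟩

end Cfsg.Agent.PSLFourThree
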