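import Cfsg.Agent.Lib.PSLFourThree.ExtendNormal
import Cfsg.Agent.Lib.PSLFourThree.ParShape
import Cfsg.Agent.Lib.CurtisTitsA.Glue

/-!
# Piece E of S3373: the two blocks of the Steinberg presentation

* `Weyl`: the lift of the reflection with its action on the four-group
* `Weyl.exists_phi012`: the upper block, by equivariance
* `Weyl.commute10_32`: the outer root groups commute
* `Weyl.exists_psi`: the homomorphism on `SL(4,3)`
-/

set_option autoImplicit false

namespace Cfsg.Agent.PSLFourThree.ExtendPsl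

open Matrix
open scoped commutatorElement

variable {G : Type*} [Group G]

/-- A lift of the reflection exchanging the first two basis lines. -/
structure Weyl (φ : Par →* G) (n : G) : Prop where
  emb : PEmb φ
  root : IsRoot φ (eB φ ![0, 1, 0])
  act : Act φ n sW
  h01 : n * φS φ k01S * n⁻¹ = φS φ k01S
  h02 : n * φS φ k02S * n⁻¹ = φS φ k12S
  h12 : n * φS φ k12S * n⁻¹ = φS φ k02S

section

variable (φ : Par →* G) (n : G)

/-- Root values. -/
noncomputable def F01 (t : ZMod 3) : G := φS φ (t01 t)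
/-- Root values. -/
noncomputable def F02 (t : ZMod 3) : G := φS φ (t02 t)
/-- Root values. -/
noncomputable def F12 (t : ZMod 3) : G := φS φ (t12 t)
/-- Root values. -/
noncomputable def F21 (t : ZMod 3) : G := φS φ (t21 t)
/-- Root values. -/
noncomputable def F23 (t : ZMod 3) : G := φS φ (t23 t)
/-- Root values. -/
noncomputable def F32 (t : ZMod 3) : G := φS φ (t32 t)
/-- Root values. -/
noncomputable def F10 (t : ZMod 3) : G := n * F01 φ (-t) * n⁻¹
/-- Root values. -/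
noncomputable def F20 (t : ZMod 3) : G := n * F21 φ (-t) * n⁻¹

/-- The values of the upper block. -/
noncomputable def val3 (i j : Fin 3) : ZMod 3 → G :=
  ![![fun _ => 1, F01 φ, F02 φ], ![F10 φ n, fun _ => 1, F12 φ],
    ![F20 φ n, F21 φ, fun _ => 1]] i j

/-- Conjugation as an endomorphism. -/
def cj (g : G) : G →* G := (MulAut.conj g).toMonoidHom

theorem cj_apply (g x : G) : cj g x = g * x * g⁻¹ := rfl

end

variable {φ : Par →* G} {n : G}

theorem cj_injective (g : G) : Function.Injective (cj g) := (MulAut.conj g).injective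

theorem isRoot_t02 {t : ZMod 3} (ht : t ≠ 0) : IsRoot φ (F02 φ t) := by
  have h1 : IsRoot φ (F02 φ 1) := by
    refine ⟨φS φ wS, ?_⟩
    rw [← φS_zEl φ]
    exact φS_conj φ wS_mem (qS_mem _ _ _ _ _) (t02_mem 1) (Or.inl (by decide +kernel))
  have ht' : t = 1 ∨ t = -1 := by revert ht; revert t; decide
  rcases ht' with rfl | rfl
  · exact h1
  · have := h1.conj (φS φ k01S)
    rwa [show φS φ k01S * F02 φ 1 * (φS φ k01S)⁻¹ = F02 φ (-1) from
      φS_conj φ k01S_mem (t02_mem _) (t02_mem _) (Or.inl (by decide +kernel))] at this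

theorem Weyl.isRoot_t12 (W : Weyl φ n) {t : ZMod 3} (ht : t ≠ 0) : IsRoot φ (F12 φ t) := by
  have h1 : IsRoot φ (F12 φ 1) := by
    have := W.root.conj (φS φ wS)
    rwa [show φS φ wS * eB φ ![0, 1, 0] * (φS φ wS)⁻¹ = F12 φ 1 from
      φS_conj φ wS_mem (colS_mem _) (t12_mem _) (Or.inl (by decide +kernel))] at this
  have ht' : t = 1 ∨ t = -1 := by revert ht; revert t; decide
  rcases ht' with rfl | rfl
  · exact h1
  · have := h1.conj (φS φ k02S)
    rwa [show φS φ k02S * F12 φ 1 * (φS φ k02S)⁻¹ = F12 φ (-1) from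
      φS_conj φ k02S_mem (t12_mem _) (t12_mem _) (Or.inl (by decide +kernel))] at this

/-- The action of a root element of the upper block. -/
def T3 (i j : Fin 3) (t : ZMod 3) : M3 := 1 + Matrix.single i j t

theorem act_F01 (t : ZMod 3) : Act φ (F01 φ t) (T3 0 1 t) := by
  have key : ∀ t, (t01 t).1 3 1 = 0 ∧ (t01 t).1 3 2 = 0 ∧ (t01 t).1 3 3 * (t01 t).1 3 3 = 1 ∧
      (t01 t).1 3 3 • (t01 t).1.submatrix Fin.castSucc Fin.castSucc = T3 0 1 t := by decide +kernel
  obtain ⟨a, b, c, d⟩ := key t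
  exact d ▸ act_flag (φ := φ) (t01_mem t) a b c

theorem act_F02 (t : ZMod 3) : Act φ (F02 φ t) (T3 0 2 t) := by
  have key : ∀ t, (t02 t).1 3 1 = 0 ∧ (t02 t).1 3 2 = 0 ∧ (t02 t).1 3 3 * (t02 t).1 3 3 = 1 ∧
      (t02 t).1 3 3 • (t02 t).1.submatrix Fin.castSucc Fin.castSucc = T3 0 2 t := by decide +kernel
  obtain ⟨a, b, c, d⟩ := key t
  exact d ▸ act_flag (φ := φ) (t02_mem t) a b c

theorem act_F12 (t : ZMod 3) : Act φ (F12 φ t) (T3 1 2 t) := by
  have key : ∀ t, (t12 t).1 3 1 = 0 ∧ (t12 t).1 3 2 = 0 ∧ (t12 t).1 3 3 * (t12 t).1 3 3 = 1 ∧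
      (t12 t).1 3 3 • (t12 t).1.submatrix Fin.castSucc Fin.castSucc = T3 1 2 t := by decide +kernel
  obtain ⟨a, b, c, d⟩ := key t
  exact d ▸ act_flag (φ := φ) (t12_mem t) a b c

theorem sW_mul : sW * sW' = 1 := by decide +kernel

/-- Comparing the image under `n` of a root element with a root element. -/
theorem Weyl.twist (W : Weyl φ n) {x y k k' : G} {A B K : M3} (hx : Act φ x A) (hy : Act φ y B)
    (hAB : sW * A * sW' = B) {B' : M3} (hB : B * B' = 1) (hk : n * k * n⁻¹ = k')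
    (hK : Act φ k' K) (hxk : Commute x k) (hyk : Commute y k') :
    ∃ b, K *ᵥ b = b ∧ n * x * n⁻¹ = eB φ b * y := by
  have h := ((W.act.mul hx).mul (W.act.inv sW_mul)).mul (hy.inv hB)
  rw [hAB, hB] at h
  obtain ⟨b, hb⟩ := eq_eB_of_act_one W.emb h
  have hv : n * x * n⁻¹ = eB φ b * y := by rw [← hb, inv_mul_cancel_right]
  refine ⟨b, W.emb.eB_inj ?_, hv⟩
  have e1 : k' * (n * x * n⁻¹) * k'⁻¹ = n * x * n⁻¹ := by
    rw [← hk]
    calc n * k * n⁻¹ * (n * x * n⁻¹) * (n * k * n⁻¹)⁻¹ = n * (k * x * k⁻¹) * n⁻¹ := by group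
      _ = _ := by rw [← hxk.eq, mul_inv_cancel_right]
  rw [← hK, ← mul_left_inj y]
  calc k' * eB φ b * k'⁻¹ * y = k' * eB φ b * k'⁻¹ * (k' * y * k'⁻¹) := by
        rw [← hyk.eq, mul_inv_cancel_right]
    _ = k' * (eB φ b * y) * k'⁻¹ := by group
    _ = _ := by rw [← hv, e1]

/-- `n` carries the root group `02` to `12`. -/
theorem Weyl.conj02 (W : Weyl φ n) (t : ZMod 3) : n * F02 φ t * n⁻¹ = F12 φ t := by
  have key : ∀ t, sW * T3 0 2 t * sW' = T3 1 2 t ∧ T3 1 2 t * T3 1 2 (-t) = 1 ∧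
      k02S * t02 t = t02 t * k02S ∧ k12S * t12 t = t12 t * k12S := by decide +kernel
  obtain ⟨a1, a2, a3, a4⟩ := key t
  obtain ⟨b, hb, e⟩ := W.twist (act_F02 t) (act_F12 t) a1 a2 W.h02 act_K12
    (φS_commute φ k02S_mem (t02_mem t) (Or.inl a3)).symm
    (φS_commute φ k12S_mem (t12_mem t) (Or.inl a4)).symm
  by_cases hb0 : b 0 = 0
  · have key2 : ∀ b : Fin 3 → ZMod 3, K12 *ᵥ b = b → b 0 = 0 → b = 0 := by decide +kernel
    rw [key2 b hb hb0, eB_zero, one_mul] at e
    exact e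
  · exfalso
    by_cases ht : t = 0
    · subst ht
      have h2 : F02 φ 0 = 1 ∧ F12 φ 0 = 1 := by
        constructor <;>
        · show φS φ _ = 1
          rw [← φS_one φ]
          exact congrArg _ (by decide +kernel)
      rw [h2.1, h2.2, mul_one, mul_one, mul_inv_cancel, ← eB_zero φ] at e
      exact hb0 (congrFun (W.emb.eB_inj e) 0).symm
    · have hroot := (isRoot_t02 (φ := φ) ht).conj n
      rw [e] at hroot
      have key3 : ∀ b : Fin 3 → ZMod 3, K12 *ᵥ b = b → b = ![b 0, 0, 0] := by decide +kernel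
      rw [key3 b hb, F12, eB, ← φS_mul φ (colS_mem _) (t12_mem t), colS_eq_qS] at hroot
      exact W.emb.not_root' hb0 ht hroot

/-- `n` carries the root group `12` to `02`. -/
theorem Weyl.conj12 (W : Weyl φ n) (t : ZMod 3) : n * F12 φ t * n⁻¹ = F02 φ (-t) := by
  have key : ∀ t, sW * T3 1 2 t * sW' = T3 0 2 (-t) ∧ T3 0 2 (-t) * T3 0 2 t = 1 ∧
      k12S * t12 t = t12 t * k12S ∧ k02S * t02 (-t) = t02 (-t) * k02S := by decide +kernel
  obtain ⟨a1, a2, a3, a4⟩ := key t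
  obtain ⟨b, hb, e⟩ := W.twist (act_F12 t) (act_F02 (-t)) a1 a2 W.h12 act_K02
    (φS_commute φ k12S_mem (t12_mem t) (Or.inl a3)).symm
    (φS_commute φ k02S_mem (t02_mem (-t)) (Or.inl a4)).symm
  have key2 : ∀ b : Fin 3 → ZMod 3, K02 *ᵥ b = b → b = ![0, b 1, 0] := by decide +kernel
  have hb' := key2 b hb
  by_cases hb1 : b 1 = 0
  · rw [hb', hb1, show (![0, 0, 0] : Fin 3 → ZMod 3) = 0 by decide, eB_zero, one_mul] at e
    exact e
  · exfalso
    by_cases ht : t = 0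
    · subst ht
      have h2 : F02 φ (-0) = 1 ∧ F12 φ 0 = 1 := by
        constructor <;>
        · show φS φ _ = 1
          rw [← φS_one φ]
          exact congrArg _ (by decide +kernel)
      rw [h2.1, h2.2, mul_one, mul_one, mul_inv_cancel, ← eB_zero φ] at e
      exact hb1 (congrFun (W.emb.eB_inj e) 1).symm
    · have hroot := (W.isRoot_t12 ht).conj n
      have k3 : ∀ s t : ZMod 3, colS ![0, s, 0] * t02 t = qS 0 t 0 s 0 := by decide +kernel
      rw [e, hb', F02, eB, ← φS_mul φ (colS_mem _) (t02_mem _), k3] at hroot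
      exact W.emb.not_root (neg_ne_zero.2 ht) hb1 hroot

theorem Weyl.conj23 (W : Weyl φ n) (t : ZMod 3) : n * F23 φ t * n⁻¹ = F23 φ t := by
  have key : ∀ t, t23 t = colS ![0, 0, t] ∧ sW *ᵥ ![0, 0, t] = ![0, 0, t] := by decide +kernel
  rw [F23, (key t).1]
  exact (W.act _).trans (by rw [(key t).2]; rfl)

/-- The braid relation. -/
theorem Weyl.braid (W : Weyl φ n) :
    n⁻¹ * φS φ mS * n = φS φ mS * n⁻¹ * φS φ mS * φS φ k12S := by
  have hm1 : φS φ mS * φS φ k01S * (φS φ mS)⁻¹ = φS φ k02S :=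
    φS_conj φ mS_mem k01S_mem k02S_mem (Or.inl (by decide +kernel))
  have hm2 : φS φ mS * φS φ k02S * (φS φ mS)⁻¹ = φS φ k01S :=
    φS_conj φ mS_mem k02S_mem k01S_mem (Or.inl (by decide +kernel))
  have hm3 : φS φ mS * φS φ k12S * (φS φ mS)⁻¹ = φS φ k12S :=
    φS_conj φ mS_mem k12S_mem k12S_mem (Or.inl (by decide +kernel))
  have hd1 : φS φ k12S * φS φ k01S * (φS φ k12S)⁻¹ = φS φ k01S :=
    φS_conj φ k12S_mem k01S_mem k01S_mem (Or.inl (by decide +kernel))
  have hd2 : φS φ k12S * φS φ k02S * (φS φ k12S)⁻¹ = φS φ k02S :=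
    φS_conj φ k12S_mem k02S_mem k02S_mem (Or.inl (by decide +kernel))
  have hi : ∀ {a b : G}, n * a * n⁻¹ = b → n⁻¹ * b * n = a := fun h => by rw [← h]; group
  have hA1 : Act φ (n⁻¹ * φS φ mS * n) (sW' * mW * sW) :=
    ((W.act.inv sW_mul).mul act_mS).mul W.act
  have hA2 := ((act_mS (φ := φ)).mul (W.act.inv sW_mul)).mul act_mS |>.mul (act_K12 (φ := φ))
  rw [show mW * sW' * mW * K12 = sW' * mW * sW by decide +kernel] at hA2
  refine W.emb.weyl_unique hA1 hA2 ?_ ?_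
  · calc n⁻¹ * φS φ mS * n * φS φ k01S * (n⁻¹ * φS φ mS * n)⁻¹
        = n⁻¹ * (φS φ mS * (n * φS φ k01S * n⁻¹) * (φS φ mS)⁻¹) * n := by group
      _ = φS φ k12S := by rw [W.h01, hm1, hi W.h12]
      _ = φS φ mS * (n⁻¹ * (φS φ mS * (φS φ k12S * φS φ k01S * (φS φ k12S)⁻¹) * (φS φ mS)⁻¹) * n) *
            (φS φ mS)⁻¹ := by rw [hd1, hm1, hi W.h12, hm3]
      _ = _ := by group
  · calc n⁻¹ * φS φ mS * n * φS φ k02S * (n⁻¹ * φS φ mS * n)⁻¹
        = n⁻¹ * (φS φ mS * (n * φS φ k02S * n⁻¹) * (φS φ mS)⁻¹) * n := by group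
      _ = φS φ k02S := by rw [W.h02, hm3, hi W.h02]
      _ = φS φ mS * (n⁻¹ * (φS φ mS * (φS φ k12S * φS φ k02S * (φS φ k12S)⁻¹) * (φS φ mS)⁻¹) * n) *
            (φS φ mS)⁻¹ := by rw [hd2, hm2, hi W.h01, hm1]
      _ = _ := by group

theorem Weyl.cjm_20 (W : Weyl φ n) (t : ZMod 3) : cj (φS φ mS) (F20 φ n t) = F10 φ n (-t) := by
  have key : ∀ t, k12S * t21 t = t21 t * k12S ∧ mS * t21 t = t12 t * mS ∧
      mS * t02 t = t01 (-t) * mS := by decide +kernel
  have e1 : φS φ k12S * F21 φ (-t) * (φS φ k12S)⁻¹ = F21 φ (-t) :=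
    φS_conj φ k12S_mem (t21_mem _) (t21_mem _) (Or.inl (key _).1)
  have e2 : φS φ mS * F21 φ (-t) * (φS φ mS)⁻¹ = F12 φ (-t) :=
    φS_conj φ mS_mem (t21_mem _) (t12_mem _) (Or.inl (key _).2.1)
  have e3 : n⁻¹ * F12 φ (-t) * n = F02 φ (-t) := by rw [← W.conj02]; group
  have e4 : φS φ mS * F02 φ (-t) * (φS φ mS)⁻¹ = F01 φ t :=
    φS_conj φ mS_mem (t02_mem _) (t01_mem _) (Or.inl (by simpa using (key (-t)).2.2))
  calc cj (φS φ mS) (F20 φ n t)
      = n * ((n⁻¹ * φS φ mS * n) * F21 φ (-t) * (n⁻¹ * φS φ mS * n)⁻¹) * n⁻¹ := by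
        rw [cj_apply, F20]; group
    _ = n * (φS φ mS * (n⁻¹ * (φS φ mS * (φS φ k12S * F21 φ (-t) * (φS φ k12S)⁻¹) *
          (φS φ mS)⁻¹) * n) * (φS φ mS)⁻¹) * n⁻¹ := by rw [W.braid]; group
    _ = F10 φ n (-t) := by rw [e1, e2, e3, e4, F10, neg_neg]

theorem mS_sq : φS φ mS * φS φ mS = 1 := by
  rw [← φS_mul φ mS_mem mS_mem, show mS * mS = 1 by decide +kernel, φS_one]

theorem Weyl.cjm_10 (W : Weyl φ n) (t : ZMod 3) : cj (φS φ mS) (F10 φ n t) = F20 φ n (-t) := by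
  have h := W.cjm_20 (-t)
  rw [neg_neg] at h
  rw [← h, cj_apply, cj_apply]
  calc φS φ mS * (φS φ mS * F20 φ n (-t) * (φS φ mS)⁻¹) * (φS φ mS)⁻¹
      = (φS φ mS * φS φ mS) * F20 φ n (-t) * (φS φ mS * φS φ mS)⁻¹ := by group
    _ = _ := by rw [mS_sq]; group

theorem cjm_21 (t : ZMod 3) : cj (φS φ mS) (F21 φ t) = F12 φ t := by
  have key : ∀ t, mS * t21 t = t12 t * mS := by decide +kernel
  exact φS_conj φ mS_mem (t21_mem _) (t12_mem _) (Or.inl (key t))

theorem cjm_12 (t : ZMod 3) : cj (φS φ mS) (F12 φ t) = F21 φ t := by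
  have key : ∀ t, mS * t12 t = t21 t * mS := by decide +kernel
  exact φS_conj φ mS_mem (t12_mem _) (t21_mem _) (Or.inl (key t))

theorem cjm_01 (t : ZMod 3) : cj (φS φ mS) (F01 φ t) = F02 φ (-t) := by
  have key : ∀ t, mS * t01 t = t02 (-t) * mS := by decide +kernel
  exact φS_conj φ mS_mem (t01_mem _) (t02_mem _) (Or.inl (key t))

theorem par_rels (t u : ZMod 3) :
    F01 φ (t + u) = F01 φ t * F01 φ u ∧ F02 φ (t + u) = F02 φ t * F02 φ u ∧
    F12 φ (t + u) = F12 φ t * F12 φ u ∧ F21 φ (t + u) = F21 φ t * F21 φ u ∧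
    Commute (F01 φ t) (F02 φ u) ∧ Commute (F01 φ t) (F21 φ u) ∧ Commute (F02 φ t) (F12 φ u) ∧
    ⁅F01 φ t, F12 φ u⁆ = F02 φ (t * u) ∧ ⁅F02 φ t, F21 φ u⁆ = F01 φ (t * u) := by
  have key : ∀ t u, t01 (t + u) = t01 t * t01 u ∧ t02 (t + u) = t02 t * t02 u ∧
      t12 (t + u) = t12 t * t12 u ∧ t21 (t + u) = t21 t * t21 u ∧
      t01 t * t02 u = t02 u * t01 t ∧ t01 t * t21 u = t21 u * t01 t ∧
      t02 t * t12 u = t12 u * t02 t ∧
      t01 t * t12 u = t02 (t * u) * t12 u * t01 t ∧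
      t02 t * t21 u = t01 (t * u) * t21 u * t02 t := by decide +kernel
  obtain ⟨a1, a2, a3, a4, a5, a6, a7, a8, a9⟩ := key t u
  refine ⟨?_, ?_, ?_, ?_, φS_commute φ (t01_mem _) (t02_mem _) (Or.inl a5),
    φS_commute φ (t01_mem _) (t21_mem _) (Or.inl a6),
    φS_commute φ (t02_mem _) (t12_mem _) (Or.inl a7), ?_, ?_⟩
  · show φS φ _ = _
    rw [a1, φS_mul φ (t01_mem _) (t01_mem _)]; rfl
  · show φS φ _ = _
    rw [a2, φS_mul φ (t02_mem _) (t02_mem _)]; rfl
  · show φS φ _ = _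
    rw [a3, φS_mul φ (t12_mem _) (t12_mem _)]; rfl
  · show φS φ _ = _
    rw [a4, φS_mul φ (t21_mem _) (t21_mem _)]; rfl
  · rw [commutatorElement_def, mul_inv_eq_iff_eq_mul, mul_inv_eq_iff_eq_mul, F01, F12, F02,
      ← φS_mul φ (t01_mem _) (t12_mem _), ← φS_mul φ (t02_mem _) (t12_mem _),
      ← φS_mul φ (parLift.mul_mem (t02_mem _) (t12_mem _)) (t01_mem _), a8]
  · rw [commutatorElement_def, mul_inv_eq_iff_eq_mul, mul_inv_eq_iff_eq_mul, F01, F21, F02,
      ← φS_mul φ (t02_mem _) (t21_mem _), ← φS_mul φ (t01_mem _) (t21_mem _),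
      ← φS_mul φ (parLift.mul_mem (t01_mem _) (t21_mem _)) (t02_mem _), a9]

theorem val3_add (i j : Fin 3) (_h : i ≠ j) (t u : ZMod 3) :
    val3 φ n i j (t + u) = val3 φ n i j t * val3 φ n i j u := by
  obtain ⟨a1, a2, a3, a4, -⟩ := par_rels (φ := φ) t u
  obtain ⟨b1, -, -, b4, -⟩ := par_rels (φ := φ) (-t) (-u)
  fin_cases i <;> fin_cases j <;> first
    | exact absurd rfl _h
    | exact a1
    | exact a2
    | exact a3
    | exact a4
    | (show F10 φ n (t + u) = F10 φ n t * F10 φ n u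
       simp only [F10, neg_add, b1]; group)
    | (show F20 φ n (t + u) = F20 φ n t * F20 φ n u
       simp only [F20, neg_add, b4]; group)

theorem Weyl.comm_rels (W : Weyl φ n) (t u : ZMod 3) :
    Commute (F10 φ n t) (F12 φ u) ∧ Commute (F10 φ n t) (F20 φ n u) ∧
      Commute (F20 φ n t) (F21 φ u) := by
  have h1 : ∀ t u, Commute (F10 φ n t) (F12 φ u) := fun t u => by
    have := ((par_rels (φ := φ) (-t) u).2.2.2.2.1).map (cj n)
    rwa [cj_apply, cj_apply, W.conj02] at this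
  refine ⟨h1 t u, ?_, ?_⟩
  · exact ((par_rels (φ := φ) (-t) (-u)).2.2.2.2.2.1).map (cj n)
  · refine cj_injective (φS φ mS) ?_
    rw [map_mul, map_mul, W.cjm_20, cjm_21]
    exact (h1 (-t) u).eq

theorem Weyl.chain_rels (W : Weyl φ n) (t u : ZMod 3) :
    ⁅F10 φ n t, F02 φ u⁆ = F12 φ (t * u) ∧ ⁅F12 φ t, F20 φ n u⁆ = F10 φ n (t * u) ∧
    ⁅F20 φ n t, F01 φ u⁆ = F21 φ (t * u) ∧ ⁅F21 φ t, F10 φ n u⁆ = F20 φ n (t * u) := by
  have h1 : ∀ t u, ⁅F10 φ n t, F02 φ u⁆ = F12 φ (t * u) := fun t u => by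
    have h := congrArg (cj n) (par_rels (φ := φ) (-t) (-u)).2.2.2.2.2.2.2.1
    rw [map_commutatorElement, cj_apply, cj_apply, cj_apply, W.conj12, W.conj02, neg_neg] at h
    rw [show t * u = -t * -u by ring]
    exact h
  have h2 : ∀ t u, ⁅F12 φ t, F20 φ n u⁆ = F10 φ n (t * u) := fun t u => by
    have h := congrArg (cj n) (par_rels (φ := φ) t (-u)).2.2.2.2.2.2.2.2
    rw [map_commutatorElement, cj_apply, cj_apply, cj_apply, W.conj02] at h
    rw [F20, F10, show -(t * u) = t * -u by ring]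
    exact h
  refine ⟨h1 t u, h2 t u, ?_, ?_⟩
  · refine cj_injective (φS φ mS) ?_
    rw [map_commutatorElement, W.cjm_20, cjm_01, cjm_21, h1, neg_mul_neg]
  · refine cj_injective (φS φ mS) ?_
    rw [map_commutatorElement, cjm_21, W.cjm_10, W.cjm_20, h2, mul_neg]

theorem Weyl.val3_commute (W : Weyl φ n) {i j k l : Fin 3} (hij : i ≠ j) (hkl : k ≠ l)
    (h₁ : i ≠ l) (h₂ : j ≠ k) (t u : ZMod 3) : Commute (val3 φ n i j t) (val3 φ n k l u) := by
  have hs : ∀ (i j : Fin 3) (_ : i ≠ j), Commute (val3 φ n i j t) (val3 φ n i j u) :=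
    fun i j h => by
      show _ * _ = _ * _
      rw [← val3_add i j h, ← val3_add i j h, add_comm]
  fin_cases i <;> fin_cases j <;> fin_cases k <;> fin_cases l <;> first
    | exact absurd rfl hij
    | exact absurd rfl hkl
    | exact absurd rfl h₁
    | exact absurd rfl h₂
    | exact hs _ _ hij
    | exact (par_rels t u).2.2.2.2.1
    | exact (par_rels u t).2.2.2.2.1.symm
    | exact (par_rels t u).2.2.2.2.2.1
    | exact (par_rels u t).2.2.2.2.2.1.symm
    | exact (par_rels t u).2.2.2.2.2.2.1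
    | exact (par_rels u t).2.2.2.2.2.2.1.symm
    | exact (W.comm_rels t u).1
    | exact (W.comm_rels u t).1.symm
    | exact (W.comm_rels t u).2.1
    | exact (W.comm_rels u t).2.1.symm
    | exact (W.comm_rels t u).2.2
    | exact (W.comm_rels u t).2.2.symm

theorem Weyl.val3_chain (W : Weyl φ n) {i j l : Fin 3} (hij : i ≠ j) (hjl : j ≠ l) (hil : i ≠ l)
    (t u : ZMod 3) : ⁅val3 φ n i j t, val3 φ n j l u⁆ = val3 φ n i l (t * u) := by
  fin_cases i <;> fin_cases j <;> fin_cases l <;> first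
    | exact absurd rfl hij
    | exact absurd rfl hjl
    | exact absurd rfl hil
    | exact (par_rels t u).2.2.2.2.2.2.2.1
    | exact (par_rels t u).2.2.2.2.2.2.2.2
    | exact (W.chain_rels t u).1
    | exact (W.chain_rels t u).2.1
    | exact (W.chain_rels t u).2.2.1
    | exact (W.chain_rels t u).2.2.2

/-- The upper block. -/
theorem Weyl.exists_phi012 (W : Weyl φ n) :
    ∃ Φ : S3 →* G, ∀ (i j : Fin 3) (h : i ≠ j) (t : ZMod 3),
      Φ (Matrix.SpecialLinearGroup.transvection h t) = val3 φ n i j t := by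
  obtain ⟨e, he⟩ := S2401.result (K := ZMod 3) 3 le_rfl
  let f : {ij : Fin 3 × Fin 3 // ij.1 ≠ ij.2} × ZMod 3 → G := fun x => val3 φ n x.1.1.1 x.1.1.2 x.2
  have hrel : ∀ g ∈ ({g : FreeGroup ({ij : Fin 3 × Fin 3 // ij.1 ≠ ij.2} × ZMod 3) | ∃ (a : {ij : Fin 3 × Fin 3 // ij.1 ≠ ij.2}) (t u : ZMod 3),
            g = FreeGroup.of (a, t) * FreeGroup.of (a, u) * (FreeGroup.of (a, t + u))⁻¹} ∪
          {g | ∃ (a b : {ij : Fin 3 × Fin 3 // ij.1 ≠ ij.2}) (t u : ZMod 3), a.1.1 ≠ b.1.2 ∧ a.1.2 ≠ b.1.1 ∧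
            g = FreeGroup.of (a, t) * FreeGroup.of (b, u) * (FreeGroup.of (a, t))⁻¹ * (FreeGroup.of (b, u))⁻¹} ∪
          {g | ∃ (a b : {ij : Fin 3 × Fin 3 // ij.1 ≠ ij.2}) (h : a.1.1 ≠ b.1.2) (t u : ZMod 3), a.1.2 = b.1.1 ∧
            g = FreeGroup.of (a, t) * FreeGroup.of (b, u) * (FreeGroup.of (a, t))⁻¹ * (FreeGroup.of (b, u))⁻¹ *
              (FreeGroup.of (⟨(a.1.1, b.1.2), h⟩, t * u))⁻¹}), FreeGroup.lift f g = 1 := by
    rintro g ((⟨a, t, u, rfl⟩ | ⟨a, b, t, u, h₁, h₂, rfl⟩) | ⟨a, b, h, t, u, h₁, rfl⟩)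
    · simp only [map_mul, map_inv, FreeGroup.lift_apply_of, f, mul_inv_eq_one]
      exact (val3_add _ _ a.2 t u).symm
    · simp only [map_mul, map_inv, FreeGroup.lift_apply_of, f]
      rw [← commutatorElement_def, commutatorElement_eq_one_iff_commute]
      exact W.val3_commute a.2 b.2 h₁ h₂ t u
    · obtain ⟨⟨i, k⟩, hik⟩ := a
      obtain ⟨⟨k', j⟩, hkj⟩ := b
      dsimp only at h₁ h hik hkj
      subst h₁
      simp only [map_mul, map_inv, FreeGroup.lift_apply_of, f]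
      rw [mul_inv_eq_one, ← commutatorElement_def]
      exact W.val3_chain hik hkj h t u
  refine ⟨(PresentedGroup.toGroup hrel).comp e.symm.toMonoidHom, fun i j h t => ?_⟩
  have h' : e.symm (Matrix.SpecialLinearGroup.transvection h t) =
      PresentedGroup.of (⟨(i, j), h⟩, t) := by
    rw [MulEquiv.symm_apply_eq]
    exact Subtype.ext (he ⟨(i, j), h⟩ t).symm
  rw [MonoidHom.comp_apply, MulEquiv.coe_toMonoidHom, h']
  exact PresentedGroup.toGroup.of hrel

theorem secMat_det (A : S3) : (secMat A).det = 1 := by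
  rw [Matrix.det_succ_column_zero, Fin.sum_univ_four]
  have h : (secMat A).submatrix (Fin.succAbove 0) Fin.succ = A.1 := by
    rw [show Fin.succAbove (0 : Fin 4) = Fin.succ from funext Fin.succAbove_zero_apply, secMat_sub]
  rw [h, show secMat A 0 0 = 1 from rfl, show secMat A 1 0 = 0 from rfl,
    show secMat A 2 0 = 0 from rfl, show secMat A 3 0 = 0 from rfl]
  simp

theorem secMat_mul (A B : S3) : secMat (A * B) = secMat A * secMat B := by
  ext i j
  fin_cases i <;> fin_cases j <;>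
    simp [secMat, Matrix.mul_apply, Fin.sum_univ_four, Fin.sum_univ_three]

/-- The lower block inside the parabolic. -/
def secHom : S3 →* S4 where
  toFun A := ⟨secMat A, secMat_det A⟩
  map_one' := Subtype.ext (by
    show secMat 1 = 1
    ext i j
    fin_cases i <;> fin_cases j <;> simp [secMat])
  map_mul' A B := Subtype.ext (secMat_mul A B)

theorem secHom_mem (A : S3) : secHom A ∈ parLift := ⟨rfl, rfl, rfl⟩

/-- The embedding restricted to the lower block. -/
noncomputable def phi123 (φ : Par →* G) : S3 →* G where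
  toFun A := φS φ (secHom A)
  map_one' := by rw [map_one, φS_one]
  map_mul' A B := by rw [map_mul, φS_mul φ (secHom_mem A) (secHom_mem B)]

theorem eq_jS_of_commute (E : PEmb φ) {c : G} (h03 : Commute c (φ zPar))
    (h13 : Commute c (eB φ ![0, 1, 0])) (h02 : Commute c (F02 φ 1)) (h12 : Commute c (F12 φ 1)) :
    ∃ X : M2, c = φS φ (jS X) := by
  obtain ⟨a, ha, hca, -, rfl⟩ := E.of_commute h03
  have lift : ∀ b : S4, b ∈ parLift → b.1.trace ≠ 0 → Commute (φS φ a) (φS φ b) →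
      a.1 * b.1 = b.1 * a.1 := fun b hb htr hcom => by
    refine commute_lift ?_ htr
    have e := hcom.eq
    rw [← φS_mul φ ha hb, ← φS_mul φ hb ha] at e
    have := E.φS_inj (parLift.mul_mem ha hb) (parLift.mul_mem hb ha) e
    rwa [map_mul, map_mul] at this
  have e1 := lift _ (colS_mem ![0, 1, 0]) (by decide +kernel) h13
  have e2 := lift _ (t02_mem 1) (by decide +kernel) h02
  have e3 := lift _ (t12_mem 1) (by decide +kernel) h12
  have f11 := congrFun (congrFun e1 1) 3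
  have f01 := congrFun (congrFun e1 0) 3
  have f21 := congrFun (congrFun e1 2) 3
  have f22 := congrFun (congrFun e2 0) 2
  have f23 := congrFun (congrFun e2 0) 3
  have f12 := congrFun (congrFun e3 1) 2
  simp [colS, x, Matrix.SpecialLinearGroup.transvection, Matrix.transvection, Matrix.mul_apply,
    Matrix.single_apply, Fin.sum_univ_four] at f11 f01 f21 f22 f23 f12
  have hsq := corner_sq hca
  obtain ⟨g1, g2, g3, g4, g5, g6⟩ := hca
  have d1 : a.1 1 1 = a.1 3 3 := by linear_combination f11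
  have d2 : a.1 2 2 = a.1 3 3 := by rw [← g6]; linear_combination -f22
  set c := a.1 3 3 with hc
  refine ⟨!![c * a.1 0 2, c * a.1 0 3; c * a.1 1 2, c * a.1 1 3], φS_congr φ (pr_eq_iff.2 ?_)⟩
  rw [g6] at hsq
  have hcc : c = 1 ∨ c = -1 := by revert hsq; generalize c = d; revert d; decide
  rcases hcc with hc1 | hc1
  · left
    ext i j
    fin_cases i <;> fin_cases j <;>
      simp [jS, blk, g1, g2, g3, g4, g5, g6, d1, d2, f21, f01, f23, hc1, hc.symm]
  · right
    ext i j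
    fin_cases i <;> fin_cases j <;>
      simp [jS, blk, g1, g2, g3, g4, g5, g6, d1, d2, f21, f01, f23, hc1, hc.symm]

theorem jS_mem (X : M2) : jS X ∈ parLift := ⟨rfl, rfl, rfl⟩

theorem eB_x03 : eB φ ![1, 0, 0] = φ zPar := φS_zEl φ

/-- The outer root groups commute. -/
theorem Weyl.commute10_32 (W : Weyl φ n) (t u : ZMod 3) : Commute (F10 φ n t) (F32 φ u) := by
  set a := F10 φ n t with ha
  set b := F32 φ u with hb
  have hka : Commute a (φS φ k01S) := by
    have key : ∀ t, t01 t * k01S = k01S * t01 t := by decide +kernel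
    have := (φS_commute φ (t01_mem (-t)) k01S_mem (Or.inl (key _))).map (cj n)
    rwa [cj_apply, cj_apply, W.h01] at this
  have hkb : Commute b (φS φ k01S) := by
    have key : ∀ u, t32 u * k01S = k01S * t32 u := by decide +kernel
    exact φS_commute φ (t32_mem u) k01S_mem (Or.inl (key u))
  have haT : Act φ a (sW * T3 0 1 (-t) * sW') := (W.act.mul (act_F01 (-t))).mul (W.act.inv sW_mul)
  have a03 : cj a (eB φ ![1, 0, 0]) = eB φ ![1, t, 0] := by
    have key : ∀ t, (sW * T3 0 1 (-t) * sW') *ᵥ ![1, 0, 0] = ![1, t, 0] := by decide +kernel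
    rw [cj_apply, haT, key]
  have a13 : cj a (eB φ ![0, 1, 0]) = eB φ ![0, 1, 0] := by
    have key : ∀ t, (sW * T3 0 1 (-t) * sW') *ᵥ ![0, 1, 0] = ![0, 1, 0] := by decide +kernel
    rw [cj_apply, haT, key]
  have a12 : ∀ v, cj a (F12 φ v) = F12 φ v := fun v => by
    rw [cj_apply, (W.comm_rels t v).1.eq, mul_inv_cancel_right]
  have a02 : ∀ v, cj a (F02 φ v) = F12 φ (t * v) * F02 φ v := fun v => by
    rw [← (W.chain_rels t v).1, cj_apply, commutatorElement_def, ha]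
    group
  have b12 : ∀ v, cj b (F12 φ v) = F12 φ v := fun v => by
    have key : ∀ u v, t32 u * t12 v = t12 v * t32 u := by decide +kernel
    exact φS_conj φ (t32_mem u) (t12_mem v) (t12_mem v) (Or.inl (key u v))
  have b02 : ∀ v, cj b (F02 φ v) = F02 φ v := fun v => by
    have key : ∀ u v, t32 u * t02 v = t02 v * t32 u := by decide +kernel
    exact φS_conj φ (t32_mem u) (t02_mem v) (t02_mem v) (Or.inl (key u v))
  have bcol : ∀ v w, cj b (eB φ ![v, w, 0]) =
      eB φ ![v, w, 0] * (F02 φ (-u * v) * F12 φ (-u * w)) := fun v w => by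
    have key : ∀ u v w, t32 u * colS ![v, w, 0] =
        colS ![v, w, 0] * (t02 (-u * v) * t12 (-u * w)) * t32 u := by decide +kernel
    rw [eB, F02, F12, ← φS_mul φ (t02_mem _) (t12_mem _),
      ← φS_mul φ (colS_mem _) (parLift.mul_mem (t02_mem _) (t12_mem _))]
    exact φS_conj φ (t32_mem u) (colS_mem _)
      (parLift.mul_mem (colS_mem _) (parLift.mul_mem (t02_mem _) (t12_mem _))) (Or.inl (key u v w))
  have F00 : F02 φ 0 = 1 ∧ F12 φ 0 = 1 := by
    constructor <;>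
    · show φS φ _ = 1
      rw [← φS_one φ]
      exact congrArg _ (by decide +kernel)
  set c := (b * a)⁻¹ * (a * b) with hc
  have hcomm : ∀ g, cj a (cj b g) = cj b (cj a g) → Commute c g := by
    intro g hg
    refine mul_inv_eq_iff_eq_mul.1 (cj_injective (b * a) ?_)
    simp only [cj_apply] at hg ⊢
    calc b * a * (c * g * c⁻¹) * (b * a)⁻¹ = a * (b * g * b⁻¹) * a⁻¹ := by rw [hc]; group
      _ = b * (a * g * a⁻¹) * b⁻¹ := hg
      _ = b * a * g * (b * a)⁻¹ := by group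
  have c02 : Commute c (F02 φ 1) := hcomm _ (by
    rw [b02, a02, map_mul, b12, b02])
  have c12 : Commute c (F12 φ 1) := hcomm _ (by rw [b12, a12, b12])
  have c13 : Commute c (eB φ ![0, 1, 0]) := hcomm _ (by
    rw [bcol, a13, bcol, map_mul, map_mul, a13, a12, mul_zero, F00.1, map_one])
  have c03 : Commute c (φ zPar) := by
    rw [← eB_x03]
    refine hcomm _ ?_
    rw [bcol, a03, bcol, map_mul, map_mul, a03, a02, a12, mul_one, mul_zero, F00.2, mul_one,
      show -u * t = t * -u by ring]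
    have h := (par_rels (φ := φ) (-u) (t * -u)).2.2.2.2.2.2.1
    rw [h.eq]
  obtain ⟨X, hX⟩ := eq_jS_of_commute W.emb c03 c13 c02 c12
  have hkc : Commute c (φS φ k01S) := by
    rw [hc]
    exact ((hkb.mul_left hka).inv_left).mul_left (hka.mul_left hkb)
  have key : ∀ X : M2, k01S * jS X = jS (-X) * k01S := by decide +kernel
  have e := φS_conj φ k01S_mem (jS_mem X) (jS_mem (-X)) (Or.inl (key X))
  rw [← hX, ← hkc.eq, mul_inv_cancel_right, hX] at e
  have e' : jE X = jE (-X) := W.emb.φS_inj (jS_mem X) (jS_mem (-X)) e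
  have key2 : ∀ X : M2, X = -X → X = 0 := by decide +kernel
  rw [key2 X (jE_inj e'), jS_zero, φS_one, hc, inv_mul_eq_one] at hX
  exact hX.symm

theorem Weyl.commute10_23 (W : Weyl φ n) (t u : ZMod 3) : Commute (F10 φ n t) (F23 φ u) := by
  have key : ∀ t u, t01 t * t23 u = t23 u * t01 t := by decide +kernel
  have := (φS_commute φ (t01_mem (-t)) (t23_mem u) (Or.inl (key _ u))).map (cj n)
  rw [cj_apply, cj_apply, show φS φ (t23 u) = F23 φ u from rfl, W.conj23] at this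
  exact this

/-- The homomorphism on the covering group. -/
theorem Weyl.exists_psi (W : Weyl φ n) :
    ∃ Ψ : S4 →* G, ∀ t : ZMod 3, Ψ (t01 t) = F01 φ t ∧ Ψ (t12 t) = F12 φ t ∧
      Ψ (t21 t) = F21 φ t ∧ Ψ (t23 t) = F23 φ t ∧ Ψ (t32 t) = F32 φ t := by
  obtain ⟨Φ, hΦ⟩ := W.exists_phi012
  let P : ℕ → ZMod 3 → G := fun k =>
    if k = 0 then F01 φ else if k = 1 then F12 φ else F23 φ
  let Q : ℕ → ZMod 3 → G := fun k =>
    if k = 0 then F10 φ n else if k = 1 then F21 φ else F32 φ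
  have key : ∀ t : ZMod 3, secHom (CurtisTitsA.x01 t) = t12 t ∧ secHom (CurtisTitsA.x10 t) = t21 t ∧
      secHom (CurtisTitsA.x12 t) = t23 t ∧ secHom (CurtisTitsA.x21 t) = t32 t := by decide +kernel
  have hP01 : ∀ t u, Commute (F01 φ t) (F23 φ u) ∧ Commute (F01 φ t) (F32 φ u) := fun t u => by
    have key : ∀ t u, t01 t * t23 u = t23 u * t01 t ∧ t01 t * t32 u = t32 u * t01 t := by
      decide +kernel
    exact ⟨φS_commute φ (t01_mem t) (t23_mem u) (Or.inl (key t u).1),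
      φS_commute φ (t01_mem t) (t32_mem u) (Or.inl (key t u).2)⟩
  obtain ⟨Ψ, hΨ⟩ := CurtisTitsA.exists_chain (N := 4) P Q
    (fun k hk => by
      have hk' : k < 2 := by omega
      interval_cases k
      · exact ⟨Φ, fun t => ⟨hΦ 0 1 (by decide) t, hΦ 1 0 (by decide) t, hΦ 1 2 (by decide) t,
          hΦ 2 1 (by decide) t⟩⟩
      · exact ⟨phi123 φ, fun t => ⟨congrArg (φS φ) (key t).1, congrArg (φS φ) (key t).2.1,
          congrArg (φS φ) (key t).2.2.1, congrArg (φS φ) (key t).2.2.2⟩⟩)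
    (fun k l hkl hl t u => by
      obtain ⟨rfl, rfl⟩ : k = 0 ∧ l = 2 := ⟨by omega, by omega⟩
      exact ⟨(hP01 t u).1, (hP01 t u).2, W.commute10_23 t u, W.commute10_32 t u⟩)
    (by norm_num)
  exact ⟨Ψ, fun t => ⟨(hΨ 0 1 (by decide) t).1 rfl, (hΨ 1 2 (by decide) t).1 rfl,
    (hΨ 2 1 (by decide) t).2 rfl, (hΨ 2 3 (by decide) t).1 rfl, (hΨ 3 2 (by decide) t).2 rfl⟩⟩

end Cfsg.Agent.PSLFourThree.ExtendPsl
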