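import Cfsg.Agent.Lib.PSLFourThree.ExtendBasic

/-!
# Piece E of S3373: the normalizer of the last column group

* `PEmb.not_root`: elements of rank two are not conjugate to `z`
* `PEmb.exists_swap`: an element normalising `radB` that moves `z` off itself
* `PEmb.exists_weyl`: the lift of the reflection exchanging the first two basis lines
* `PEmb.weyl_unique`: it is determined by its action
-/

set_option autoImplicit false

namespace Cfsg.Agent.PSLFourThree.ExtendPsl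

open Matrix

variable {G : Type*} [Group G]

/-- `3 × 3` matrices. -/
abbrev M3 := Matrix (Fin 3) (Fin 3) (ZMod 3)

/-- Root elements. -/
abbrev t01 (t : ZMod 3) : S4 := x (i := 0) (j := 1) (by decide) t
/-- Root elements. -/
abbrev t02 (t : ZMod 3) : S4 := x (i := 0) (j := 2) (by decide) t
/-- Root elements. -/
abbrev t12 (t : ZMod 3) : S4 := x (i := 1) (j := 2) (by decide) t
/-- Root elements. -/
abbrev t21 (t : ZMod 3) : S4 := x (i := 2) (j := 1) (by decide) t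
/-- Root elements. -/
abbrev t23 (t : ZMod 3) : S4 := x (i := 2) (j := 3) (by decide) t
/-- Root elements. -/
abbrev t32 (t : ZMod 3) : S4 := x (i := 3) (j := 2) (by decide) t

theorem t_mem : ∀ t, (t01 t).1 1 0 = 0 ∧ (t01 t).1 2 0 = 0 ∧ (t01 t).1 3 0 = 0 ∧
    (t02 t).1 1 0 = 0 ∧ (t02 t).1 2 0 = 0 ∧ (t02 t).1 3 0 = 0 ∧
    (t12 t).1 1 0 = 0 ∧ (t12 t).1 2 0 = 0 ∧ (t12 t).1 3 0 = 0 ∧
    (t21 t).1 1 0 = 0 ∧ (t21 t).1 2 0 = 0 ∧ (t21 t).1 3 0 = 0 ∧
    (t23 t).1 1 0 = 0 ∧ (t23 t).1 2 0 = 0 ∧ (t23 t).1 3 0 = 0 ∧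
    (t32 t).1 1 0 = 0 ∧ (t32 t).1 2 0 = 0 ∧ (t32 t).1 3 0 = 0 := by
  decide +kernel

theorem t01_mem (t : ZMod 3) : t01 t ∈ parLift := by
  obtain ⟨a, b, c, -⟩ := t_mem t; exact ⟨a, b, c⟩
theorem t02_mem (t : ZMod 3) : t02 t ∈ parLift := by
  obtain ⟨-, -, -, a, b, c, -⟩ := t_mem t; exact ⟨a, b, c⟩
theorem t12_mem (t : ZMod 3) : t12 t ∈ parLift := by
  obtain ⟨-, -, -, -, -, -, a, b, c, -⟩ := t_mem t; exact ⟨a, b, c⟩
theorem t21_mem (t : ZMod 3) : t21 t ∈ parLift := by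
  obtain ⟨-, -, -, -, -, -, -, -, -, a, b, c, -⟩ := t_mem t; exact ⟨a, b, c⟩
theorem t23_mem (t : ZMod 3) : t23 t ∈ parLift := by
  obtain ⟨-, -, -, -, -, -, -, -, -, -, -, -, a, b, c, -⟩ := t_mem t; exact ⟨a, b, c⟩
theorem t32_mem (t : ZMod 3) : t32 t ∈ parLift := by
  obtain ⟨-, -, -, -, -, -, -, -, -, -, -, -, -, -, -, a, b, c⟩ := t_mem t; exact ⟨a, b, c⟩

/-- A diagonal involution. -/
def k01S : S4 := ⟨!![-1, 0, 0, 0; 0, -1, 0, 0; 0, 0, 1, 0; 0, 0, 0, 1], by decide +kernel⟩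
/-- A diagonal involution. -/
def k02S : S4 := ⟨!![-1, 0, 0, 0; 0, 1, 0, 0; 0, 0, -1, 0; 0, 0, 0, 1], by decide +kernel⟩
/-- A diagonal involution. -/
def k12S : S4 := ⟨!![1, 0, 0, 0; 0, -1, 0, 0; 0, 0, -1, 0; 0, 0, 0, 1], by decide +kernel⟩
/-- The exchange of the middle lines. -/
def mS : S4 := ⟨!![-1, 0, 0, 0; 0, 0, 1, 0; 0, 1, 0, 0; 0, 0, 0, 1], by decide +kernel⟩
/-- The exchange of the last two lines. -/
def swS : S4 := ⟨!![-1, 0, 0, 0; 0, 1, 0, 0; 0, 0, 0, 1; 0, 0, 1, 0], by decide +kernel⟩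
/-- The exchange of the last two lines, carrying `E03` to `E02`. -/
def wS : S4 := ⟨!![1, 0, 0, 0; 0, 1, 0, 0; 0, 0, 0, 1; 0, 0, -1, 0], by decide +kernel⟩

theorem k01S_mem : k01S ∈ parLift := ⟨rfl, rfl, rfl⟩
theorem k02S_mem : k02S ∈ parLift := ⟨rfl, rfl, rfl⟩
theorem k12S_mem : k12S ∈ parLift := ⟨rfl, rfl, rfl⟩
theorem mS_mem : mS ∈ parLift := ⟨rfl, rfl, rfl⟩
theorem swS_mem : swS ∈ parLift := ⟨rfl, rfl, rfl⟩
theorem wS_mem : wS ∈ parLift := ⟨rfl, rfl, rfl⟩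

variable {φ : Par →* G}

theorem commute_pull {g j y z : G} (hj : g * z * g⁻¹ = j) (h : Commute y j) :
    Commute (g⁻¹ * y * g) z := by
  have e := h.eq
  rw [← hj] at e
  calc g⁻¹ * y * g * z = g⁻¹ * (y * (g * z * g⁻¹)) * g := by group
    _ = g⁻¹ * (g * z * g⁻¹ * y) * g := by rw [e]
    _ = z * (g⁻¹ * y * g) := by group

/-- Elements of order three inverted by an involution, seen from a conjugate of `z`. -/
theorem PEmb.inQ_pull (E : PEmb φ) {g j k y : G} (hj : g * φ zPar * g⁻¹ = j) (hk : Commute k j)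
    (hk2 : k * k = 1) (hk1 : k ≠ 1) (hy : Commute y j) (hy3 : y ^ 3 = 1)
    (hinv : k * y * k⁻¹ = y⁻¹) : InQ φ (g⁻¹ * y * g) := by
  refine E.inQ_of_inverted (commute_pull hj hk) ?_ ?_ (commute_pull hj hy) ?_ ?_
  · calc g⁻¹ * k * g * (g⁻¹ * k * g) = g⁻¹ * (k * k) * g := by group
      _ = 1 := by rw [hk2]; group
  · intro h
    exact hk1 (by
      calc k = g * (g⁻¹ * k * g) * g⁻¹ := by group
        _ = 1 := by rw [h]; group)
  · have := conj_pow (a := g⁻¹) (b := y) (i := 3)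
    rw [inv_inv] at this
    rw [this, hy3]; group
  · calc g⁻¹ * k * g * (g⁻¹ * y * g) * (g⁻¹ * k * g)⁻¹ = g⁻¹ * (k * y * k⁻¹) * g := by group
      _ = (g⁻¹ * y * g)⁻¹ := by rw [hinv]; group

theorem comm_pull {g j a b : G} (hj : g * φ zPar * g⁻¹ = j) (ha : InQ φ (g⁻¹ * a * g))
    (hb : InQ φ (g⁻¹ * b * g)) : ∃ n : ℕ, n < 3 ∧ a * b * a⁻¹ * b⁻¹ = j ^ n := by
  obtain ⟨n, hn, e⟩ := comm_inQ ha hb
  refine ⟨n, hn, ?_⟩
  rw [← hj, conj_pow, ← e]
  group

theorem ne_one_of (E : PEmb φ) {a : S4} (ha : a ∈ parLift) (h1 : a.1 ≠ 1) (h2 : a.1 ≠ -1) :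
    φS φ a ≠ 1 := by
  intro h
  rw [← φS_one φ] at h
  rcases pr_eq_iff.1 (E.φS_inj ha parLift.one_mem h) with e | e
  · exact h1 e.symm
  · rw [Matrix.SpecialLinearGroup.coe_one] at e
    exact h2 (by rw [e, neg_neg])

theorem k02_involution : φS φ k02S * φS φ k02S = 1 := by
  rw [← φS_mul φ k02S_mem k02S_mem, show k02S * k02S = 1 by decide +kernel, φS_one]

theorem k01_involution : φS φ k01S * φS φ k01S = 1 := by
  rw [← φS_mul φ k01S_mem k01S_mem, show k01S * k01S = 1 by decide +kernel, φS_one]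

theorem k12_involution : φS φ k12S * φS φ k12S = 1 := by
  rw [← φS_mul φ k12S_mem k12S_mem, show k12S * k12S = 1 by decide +kernel, φS_one]

theorem k02_ne_one (E : PEmb φ) : φS φ k02S ≠ 1 :=
  ne_one_of E k02S_mem (by decide +kernel) (by decide +kernel)

/-- Rank two elements of the middle radical are not conjugate to `z`. -/
theorem PEmb.not_root (E : PEmb φ) {v t : ZMod 3} (hv : v ≠ 0) (ht : t ≠ 0) :
    ¬ IsRoot φ (φS φ (qS 0 v 0 t 0)) := by
  rintro ⟨g, hg⟩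
  have key : ∀ v t : ZMod 3, v ≠ 0 → t ≠ 0 →
      k02S * qS 0 v 0 t 0 = qS 0 v 0 t 0 * k02S ∧
      k02S * t12 1 = t12 (-1) * k02S ∧
      k02S * qS v 0 0 0 t = qS (-v) 0 0 0 (-t) * k02S ∧
      t12 1 * qS 0 v 0 t 0 = qS 0 v 0 t 0 * t12 1 ∧
      qS v 0 0 0 t * qS 0 v 0 t 0 = qS 0 v 0 t 0 * qS v 0 0 0 t ∧
      t12 (-1) * t12 1 = 1 ∧ qS (-v) 0 0 0 (-t) * qS v 0 0 0 t = 1 ∧ t12 1 ^ 3 = 1 ∧
      ∀ n < 3, (qS 0 v 0 t 0 ^ n * qS v 0 0 0 t * t12 1).1 ≠ (t12 1 * qS v 0 0 0 t).1 ∧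
        (qS 0 v 0 t 0 ^ n * qS v 0 0 0 t * t12 1).1 ≠ -(t12 1 * qS v 0 0 0 t).1 := by
    decide +kernel
  obtain ⟨a1, a2, a3, a4, a5, a6, a7, a8, a9⟩ := key v t hv ht
  have hk := φS_commute φ k02S_mem (qS_mem 0 v 0 t 0) (Or.inl a1)
  have h1 : InQ φ (g⁻¹ * φS φ (t12 1) * g) := by
    refine E.inQ_pull hg hk k02_involution (k02_ne_one E)
      (φS_commute φ (t12_mem 1) (qS_mem 0 v 0 t 0) (Or.inl a4)) ?_ ?_
    · rw [← φS_pow φ (t12_mem 1), a8, φS_one]
    · rw [φS_conj φ k02S_mem (t12_mem 1) (t12_mem (-1)) (Or.inl a2), eq_inv_iff_mul_eq_one,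
        ← φS_mul φ (t12_mem (-1)) (t12_mem 1), a6, φS_one]
  have h2 : InQ φ (g⁻¹ * φS φ (qS v 0 0 0 t) * g) := by
    refine E.inQ_pull hg hk k02_involution (k02_ne_one E)
      (φS_commute φ (qS_mem v 0 0 0 t) (qS_mem 0 v 0 t 0) (Or.inl a5)) ?_ ?_
    · rw [← φS_pow φ (qS_mem v 0 0 0 t), qS_cube, φS_one]
    · rw [φS_conj φ k02S_mem (qS_mem _ _ _ _ _) (qS_mem (-v) 0 0 0 (-t)) (Or.inl a3),
        eq_inv_iff_mul_eq_one, ← φS_mul φ (qS_mem _ _ _ _ _) (qS_mem _ _ _ _ _), a7, φS_one]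
  obtain ⟨n, hn, e⟩ := comm_pull hg h1 h2
  rw [mul_inv_eq_iff_eq_mul, mul_inv_eq_iff_eq_mul, ← φS_pow φ (qS_mem _ _ _ _ _),
    ← φS_mul φ (t12_mem 1) (qS_mem _ _ _ _ _),
    ← φS_mul φ (parLift.pow_mem (qS_mem _ _ _ _ _) n) (qS_mem _ _ _ _ _),
    ← φS_mul φ (parLift.mul_mem (parLift.pow_mem (qS_mem _ _ _ _ _) n) (qS_mem _ _ _ _ _)) (t12_mem 1)] at e
  rcases pr_eq_iff.1 (E.φS_inj (parLift.mul_mem (t12_mem 1) (qS_mem _ _ _ _ _))
    (parLift.mul_mem (parLift.mul_mem (parLift.pow_mem (qS_mem _ _ _ _ _) n) (qS_mem _ _ _ _ _))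
      (t12_mem 1)) e) with e' | e'
  · exact (a9 n hn).1 e'
  · exact (a9 n hn).2 e'

theorem PEmb.not_root' (E : PEmb φ) {v t : ZMod 3} (hv : v ≠ 0) (ht : t ≠ 0) :
    ¬ IsRoot φ (φS φ (qS 0 0 v 0 0 * t12 t)) := by
  intro h
  have key : ∀ v t : ZMod 3, swS * qS 0 (-v) 0 t 0 = qS 0 0 v 0 0 * t12 t * swS := by decide +kernel
  refine E.not_root (v := -v) (neg_ne_zero.2 hv) ht (h.of_conj (g := φS φ swS) ?_)
  exact φS_conj φ swS_mem (qS_mem _ _ _ _ _) (parLift.mul_mem (qS_mem _ _ _ _ _) (t12_mem t))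
    (Or.inl (key v t))

section Act

variable (φ)

/-- The action on the last column group. -/
def Act (g : G) (W : M3) : Prop := ∀ v, g * eB φ v * g⁻¹ = eB φ (W *ᵥ v)

variable {φ}

theorem Act.mul {g k : G} {V W : M3} (hg : Act φ g V) (hk : Act φ k W) : Act φ (g * k) (V * W) := by
  intro v
  rw [← Matrix.mulVec_mulVec, ← hg, ← hk]
  group

theorem Act.inv {g : G} {W W' : M3} (hg : Act φ g W) (h : W * W' = 1) : Act φ g⁻¹ W' := by
  intro v
  have e := hg (W' *ᵥ v)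
  rw [Matrix.mulVec_mulVec, h, Matrix.one_mulVec] at e
  rw [← e]
  group

theorem Act.unique (E : PEmb φ) {g : G} {V W : M3} (hV : Act φ g V) (hW : Act φ g W) : V = W :=
  Matrix.ext_of_mulVec_single fun i => E.eB_inj ((hV _).symm.trans (hW _))

theorem act_eB (b : Fin 3 → ZMod 3) : Act φ (eB φ b) 1 := by
  intro v
  rw [Matrix.one_mulVec, mul_inv_eq_iff_eq_mul, ← eB_add, ← eB_add, add_comm]

theorem act_flag {a : S4} (ha : a ∈ parLift) (h0 : a.1 3 1 = 0) (h2 : a.1 3 2 = 0)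
    (hc : a.1 3 3 * a.1 3 3 = 1) :
    Act φ (φS φ a) (a.1 3 3 • a.1.submatrix Fin.castSucc Fin.castSucc) := by
  intro v
  refine φS_conj φ ha (colS_mem v) (colS_mem _) (Or.inl (Subtype.ext ?_))
  obtain ⟨g1, g2, g3⟩ := ha
  rw [Matrix.SpecialLinearGroup.coe_mul, Matrix.SpecialLinearGroup.coe_mul]
  ext i j
  fin_cases i <;> fin_cases j <;>
    simp [colS, Matrix.mul_apply, Matrix.mulVec, dotProduct, Fin.sum_univ_four, Fin.sum_univ_three,
      g1, g2, g3, h0, h2, smul_eq_mul]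
  · linear_combination -(a.1 0 0 * v 0 + a.1 0 1 * v 1 + a.1 0 2 * v 2) * hc
  · linear_combination -(a.1 1 1 * v 1 + a.1 1 2 * v 2) * hc
  · linear_combination -(a.1 2 1 * v 1 + a.1 2 2 * v 2) * hc

theorem act_det_of_commute (E : PEmb φ) {g : G} {W : M3} (hg : Commute g (φ zPar))
    (hW : Act φ g W) : W.det = 1 := by
  obtain ⟨a, ha, hca, -, rfl⟩ := E.of_commute hg
  have hsq := corner_sq hca
  have hcz := (cz_det hca).symm.trans a.2
  obtain ⟨g1, g2, g3, g4, g5, g6⟩ := hca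
  have h := Act.unique E hW (act_flag ha g4 g5 (by rw [← g6]; exact hsq))
  rw [h, Matrix.det_fin_three]
  simp [g1, g2, smul_eq_mul, ← g6]
  linear_combination (a.1 0 0 * a.1 0 0) * hcz + hsq

theorem exists_act (E : PEmb φ) {g : G} (h : ∀ v, ∃ w, g * eB φ v * g⁻¹ = eB φ w) :
    ∃ W : M3, Act φ g W ∧ W.det ≠ 0 := by
  choose f hf using h
  have hadd : ∀ v w, f (v + w) = f v + f w := fun v w => E.eB_inj (by
    rw [eB_add, ← hf, ← hf, ← hf, eB_add]; group)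
  let L := (AddMonoidHom.mk' f hadd).toZModLinearMap 3
  have hL : ∀ v, LinearMap.toMatrix' L *ᵥ v = f v := fun v => by
    rw [← Matrix.toLin'_apply, Matrix.toLin'_toMatrix']; rfl
  refine ⟨LinearMap.toMatrix' L, fun v => by rw [hL]; exact hf v, fun hd => ?_⟩
  obtain ⟨v, hv, hv0⟩ := Matrix.exists_mulVec_eq_zero_iff.2 hd
  rw [hL] at hv0
  have e := hf v
  rw [hv0, eB_zero, conj_eq_one_iff, ← eB_zero φ] at e
  exact hv (E.eB_inj e)

/-- The centralizer of the last column group is itself. -/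
theorem eq_eB_of_act_one (E : PEmb φ) {g : G} (hg : Act φ g 1) : ∃ b, g = eB φ b := by
  have hcom : ∀ v, Commute g (eB φ v) := fun v => by
    have := hg v
    rw [Matrix.one_mulVec] at this
    exact mul_inv_eq_iff_eq_mul.1 this
  have hz : Commute g (φ zPar) := by
    have := hcom ![1, 0, 0]
    rw [eB, colS_eq_qS] at this
    rw [← φS_zEl φ]
    simpa using this
  obtain ⟨a, ha, hca, -, rfl⟩ := E.of_commute hz
  have hsq := corner_sq hca
  have lift : ∀ v, a.1 * (colS v).1 = (colS v).1 * a.1 := fun v => by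
    refine commute_lift ?_ ?_
    · have e := (hcom v).eq
      rw [eB, ← φS_mul φ ha (colS_mem v), ← φS_mul φ (colS_mem v) ha] at e
      have := E.φS_inj (parLift.mul_mem ha (colS_mem v)) (parLift.mul_mem (colS_mem v) ha) e
      rwa [map_mul, map_mul] at this
    · simp [colS, Matrix.trace, Fin.sum_univ_four]; decide
  have e1 := lift ![0, 1, 0]
  have e2 := lift ![0, 0, 1]
  have f11 := congrFun (congrFun e1 1) 3
  have f21 := congrFun (congrFun e1 2) 3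
  have f01 := congrFun (congrFun e1 0) 3
  have f22 := congrFun (congrFun e2 2) 3
  have f12 := congrFun (congrFun e2 1) 3
  have f02 := congrFun (congrFun e2 0) 3
  simp [colS, Matrix.mul_apply, Fin.sum_univ_four] at f11 f21 f01 f22 f12 f02
  obtain ⟨g1, g2, g3, g4, g5, g6⟩ := hca
  have d1 : a.1 1 1 = a.1 3 3 := by linear_combination f11
  have d2 : a.1 2 2 = a.1 3 3 := by linear_combination f22
  set c := a.1 3 3 with hc
  refine ⟨![c * a.1 0 3, c * a.1 1 3, c * a.1 2 3], φS_congr φ (pr_eq_iff.2 ?_)⟩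
  rw [g6] at hsq
  have hcc : c = 1 ∨ c = -1 := by revert hsq; generalize c = d; revert d; decide
  rcases hcc with hc1 | hc1
  · left
    ext i j
    fin_cases i <;> fin_cases j <;>
      simp [colS, g1, g2, g3, g4, g5, g6, d1, d2, f21, f01, f12, f02, hc1, hc.symm]
  · right
    ext i j
    fin_cases i <;> fin_cases j <;>
      simp [colS, g1, g2, g3, g4, g5, g6, d1, d2, f21, f01, f12, f02, hc1, hc.symm]

end Act

theorem inQ_eB (v : Fin 3 → ZMod 3) : InQ φ (eB φ v) := ⟨0, 0, v 0, v 1, v 2, rfl⟩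

theorem InQ.pull_mul {g a b : G} (ha : InQ φ (g⁻¹ * a * g)) (hb : InQ φ (g⁻¹ * b * g)) :
    InQ φ (g⁻¹ * (a * b) * g) := by
  have := ha.mul hb
  rwa [show g⁻¹ * a * g * (g⁻¹ * b * g) = g⁻¹ * (a * b) * g by group] at this

/-- The centralizer of `z` moves an element of the last column group outside `Z` to `x13`. -/
theorem exists_to_x13 (v : Fin 3 → ZMod 3) (hv : v 1 ≠ 0 ∨ v 2 ≠ 0) :
    ∃ c : G, Commute c (φ zPar) ∧ c * eB φ v * c⁻¹ = eB φ ![0, 1, 0] := by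
  have key : ∀ v : Fin 3 → ZMod 3, (v 1 ≠ 0 ∨ v 2 ≠ 0) → ∃ w1 w2 a b c d : ZMod 3,
      a * d - b * c = 1 ∧ v 0 + w1 * v 1 + w2 * v 2 = 0 ∧ a * v 1 + b * v 2 = 1 ∧
      c * v 1 + d * v 2 = 0 := by decide +kernel
  obtain ⟨w1, w2, a, b, c, d, hdet, e0, e1, e2⟩ := key v hv
  let M : S4 := ⟨!![1, w1, w2, 0; 0, a, b, 0; 0, c, d, 0; 0, 0, 0, 1], by
    simp [Matrix.det_succ_row_zero, Fin.sum_univ_succ, Fin.succAbove]
    linear_combination hdet⟩
  have hM : M ∈ parLift := ⟨rfl, rfl, rfl⟩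
  have hA := act_flag (φ := φ) (a := M) hM rfl rfl (by simp [M])
  refine ⟨φS φ M, ?_, ?_⟩
  · rw [← φS_zEl φ]
    refine φS_commute φ hM (qS_mem _ _ _ _ _) (Or.inl (Subtype.ext ?_))
    rw [Matrix.SpecialLinearGroup.coe_mul, Matrix.SpecialLinearGroup.coe_mul]
    ext i j
    fin_cases i <;> fin_cases j <;> simp [M, qS, Matrix.mul_apply, Fin.sum_univ_four]
  · rw [hA v]
    congr 1
    funext i
    fin_cases i <;> simp [M, Matrix.mulVec, dotProduct, Fin.sum_univ_three, e0, e1, e2]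

/-- The hypothesis of piece E in normal form. -/
theorem exists_conj_x13 (hyp : ∃ g : G, g * φ zPar * g⁻¹ ∈ parB.map φ ∧
      g * φ zPar * g⁻¹ ∉ parZ.map φ) :
    ∃ g : G, g * φ zPar * g⁻¹ = eB φ ![0, 1, 0] := by
  obtain ⟨g, ⟨⟨w, hw⟩, hwB, he⟩, hZ⟩ := hyp
  obtain ⟨v, rfl⟩ := radB_eq (show w ∈ radB from hwB)
  have he' : eB φ v = g * φ zPar * g⁻¹ := (φS_of_mem φ hw).trans he
  have hv : v 1 ≠ 0 ∨ v 2 ≠ 0 := by
    by_contra hv
    push Not at hv
    refine hZ ⟨zPar ^ (v 0).val, Subgroup.pow_mem _ (Subgroup.mem_zpowers _) _, ?_⟩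
    rw [← he', eB, colS_eq_qS, hv.1, hv.2, qS_center_pow, φS_pow φ (qS_mem _ _ _ _ _), φS_zEl,
      map_pow]
  obtain ⟨c, -, hc⟩ := exists_to_x13 (φ := φ) v hv
  refine ⟨c * g, ?_⟩
  rw [← hc, he']
  group

section Swap

variable (E : PEmb φ) {g : G} (hg : g * φ zPar * g⁻¹ = eB φ ![0, 1, 0])
include E hg

theorem pull_z_x23_x12 : InQ φ (g⁻¹ * φ zPar * g) ∧ InQ φ (g⁻¹ * eB φ ![0, 0, 1] * g) := by
  have key : k02S * colS ![0, 1, 0] = colS ![0, 1, 0] * k02S ∧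
      k02S * colS ![1, 0, 0] = colS ![-1, 0, 0] * k02S ∧
      k02S * colS ![0, 0, 1] = colS ![0, 0, -1] * k02S := by decide +kernel
  have hk := φS_commute φ k02S_mem (colS_mem ![0, 1, 0]) (Or.inl key.1)
  have h : ∀ v : Fin 3 → ZMod 3, φS φ k02S * eB φ v * (φS φ k02S)⁻¹ = eB φ (-v) →
      InQ φ (g⁻¹ * eB φ v * g) := fun v hv => by
    refine E.inQ_pull hg hk k02_involution (k02_ne_one E) ?_ ((inQ_eB v).cube) (hv.trans ?_)
    · show eB φ v * eB φ ![0, 1, 0] = eB φ ![0, 1, 0] * eB φ v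
      rw [← eB_add, ← eB_add, add_comm]
    · rw [eq_inv_iff_mul_eq_one, ← eB_add, neg_add_cancel, eB_zero]
  refine ⟨?_, h _ ?_⟩
  · have := h ![1, 0, 0] (by
      rw [show (-![1, 0, 0] : Fin 3 → ZMod 3) = ![-1, 0, 0] by decide]
      exact φS_conj φ k02S_mem (colS_mem _) (colS_mem _) (Or.inl key.2.1))
    rwa [show eB φ ![1, 0, 0] = φ zPar from φS_zEl φ] at this
  · rw [show (-![0, 0, 1] : Fin 3 → ZMod 3) = ![0, 0, -1] by decide]
    exact φS_conj φ k02S_mem (colS_mem _) (colS_mem _) (Or.inl key.2.2)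

theorem pull_eB (v : Fin 3 → ZMod 3) : InQ φ (g⁻¹ * eB φ v * g) := by
  obtain ⟨h0, h2⟩ := pull_z_x23_x12 E hg
  have h1 : InQ φ (g⁻¹ * eB φ ![0, 1, 0] * g) := by
    rw [← hg, show g⁻¹ * (g * φ zPar * g⁻¹) * g = φ zPar by group]
    exact inQ_z
  rw [show φ zPar = eB φ ![1, 0, 0] from (φS_zEl φ).symm] at h0
  have hs : ∀ (n : ℕ) (w : Fin 3 → ZMod 3), InQ φ (g⁻¹ * eB φ w * g) →
      InQ φ (g⁻¹ * eB φ (n • w) * g) := fun n w hw => by
    induction n with
    | zero =>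
      rw [zero_smul, eB_zero, mul_one, inv_mul_cancel, ← φS_one φ, ← qS_zero]
      exact ⟨0, 0, 0, 0, 0, rfl⟩
    | succ n ih => rw [succ_nsmul, eB_add]; exact ih.pull_mul hw
  have hv : v = (v 0).val • ![1, 0, 0] + (v 1).val • ![0, 1, 0] + (v 2).val • ![0, 0, 1] := by
    revert v; decide +kernel
  rw [hv, eB_add, eB_add]
  exact ((hs _ _ h0).pull_mul (hs _ _ h1)).pull_mul (hs _ _ h2)

theorem not_inQ_x02 {q : ZMod 3} (hq : q ≠ 0) : ¬ InQ φ (g⁻¹ * φS φ (qS 0 q 0 0 0) * g) := by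
  intro h
  obtain ⟨n, hn, e⟩ := comm_pull hg h (pull_eB E hg ![0, 0, 1])
  have key : ∀ q : ZMod 3, q ≠ 0 → ∀ n < 3,
      (colS ![0, 1, 0] ^ n * colS ![0, 0, 1] * qS 0 q 0 0 0).1 ≠ (qS 0 q 0 0 0 * colS ![0, 0, 1]).1 ∧
      (colS ![0, 1, 0] ^ n * colS ![0, 0, 1] * qS 0 q 0 0 0).1 ≠
        -(qS 0 q 0 0 0 * colS ![0, 0, 1]).1 := by decide +kernel
  rw [mul_inv_eq_iff_eq_mul, mul_inv_eq_iff_eq_mul, eB, eB, ← φS_pow φ (colS_mem _),
    ← φS_mul φ (qS_mem _ _ _ _ _) (colS_mem _),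
    ← φS_mul φ (parLift.pow_mem (colS_mem _) n) (colS_mem _),
    ← φS_mul φ (parLift.mul_mem (parLift.pow_mem (colS_mem _) n) (colS_mem _)) (qS_mem _ _ _ _ _)] at e
  rcases pr_eq_iff.1 (E.φS_inj (parLift.mul_mem (qS_mem _ _ _ _ _) (colS_mem _))
    (parLift.mul_mem (parLift.mul_mem (parLift.pow_mem (colS_mem _) n) (colS_mem _))
      (qS_mem _ _ _ _ _)) e) with e' | e'
  · exact (key q hq n hn).1 e'
  · exact (key q hq n hn).2 e'

/-- The intersection with the conjugate is the last column group. -/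
theorem inter_eB {w : G} (hw : InQ φ w) (hw' : InQ φ (g⁻¹ * w * g)) : ∃ v, w = eB φ v := by
  obtain ⟨p, q, r, s, u, rfl⟩ := hw
  have hc : Commute (φS φ (qS p q r s u)) (eB φ ![0, 1, 0]) := by
    have := (hw'.commute_z).eq
    rw [← hg]
    calc φS φ (qS p q r s u) * (g * φ zPar * g⁻¹)
        = g * (g⁻¹ * φS φ (qS p q r s u) * g * φ zPar) * g⁻¹ := by group
      _ = g * (φ zPar * (g⁻¹ * φS φ (qS p q r s u) * g)) * g⁻¹ := by rw [this]
      _ = g * φ zPar * g⁻¹ * φS φ (qS p q r s u) := by group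
  have hp : p = 0 := by
    have e := hc.eq
    rw [eB, colS_eq_qS, ← φS_mul φ (qS_mem _ _ _ _ _) (qS_mem _ _ _ _ _),
      ← φS_mul φ (qS_mem _ _ _ _ _) (qS_mem _ _ _ _ _), qS_mul, qS_mul] at e
    rcases pr_eq_iff.1 (E.φS_inj (qS_mem _ _ _ _ _) (qS_mem _ _ _ _ _) e) with e' | e'
    · have := congrFun (congrFun e' 0) 3
      simp [qS] at this
      linear_combination this
    · exfalso
      have := congrFun (congrFun e' 0) 0
      simp [qS] at this
      exact absurd this (by decide)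
  subst hp
  by_cases hq : q = 0
  · subst hq; exact ⟨![r, s, u], rfl⟩
  · exfalso
    refine not_inQ_x02 E hg hq ?_
    have e : φS φ (qS 0 q 0 0 0) = φS φ (qS 0 q r s u) * eB φ ![-(r + q * -u), -s, -u] := by
      rw [eB, colS_eq_qS, ← φS_mul φ (qS_mem _ _ _ _ _) (qS_mem _ _ _ _ _), qS_mul]
      congr 2 <;> simp
    rw [e]
    exact hw'.pull_mul (pull_eB E hg _)

end Swap

/-- Reduction of a nonzero orthogonal pair. -/
def redS (p q : ZMod 3) : Matrix (Fin 4) (Fin 4) (ZMod 3) :=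
  if q = 0 then !![1, 0, 0, 0; 0, 0, -p, 0; 0, p, 0, 0; 0, 0, 0, 1]
  else !![1, 0, 0, 0; 0, q, 0, 0; 0, p, q, 0; 0, 0, 0, 1]

theorem redS_det : ∀ p q : ZMod 3, (p ≠ 0 ∨ q ≠ 0) → (redS p q).det = 1 := by decide +kernel

/-- The first row of `redS` against a column. -/
def redT (p q s u : ZMod 3) : ZMod 3 := if q = 0 then -p * u else q * s

/-- The conjugator to normal form. -/
def normMat (p q r s u : ZMod 3) : Matrix (Fin 4) (Fin 4) (ZMod 3) :=
  (qS (-r * redT p q s u) 0 0 0 (if s = 0 ∧ u = 0 then r else 0)).1 * redS p q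

theorem normMat_det (p q r s u : ZMod 3) (h : p ≠ 0 ∨ q ≠ 0) : (normMat p q r s u).det = 1 := by
  rw [normMat, Matrix.det_mul, redS_det p q h, (qS _ _ _ _ _).2, mul_one]

theorem normMat_conj : ∀ p q r s u : ZMod 3, (p ≠ 0 ∨ q ≠ 0) → p * s + q * u = 0 →
    normMat p q r s u * (qS p q r s u).1 =
      (qS 0 1 0 (redT p q s u) 0).1 * normMat p q r s u := by
  decide +kernel

theorem normMat_center : ∀ p q r s u : ZMod 3, (p ≠ 0 ∨ q ≠ 0) →
    normMat p q r s u * (qS 0 0 1 0 0).1 = (qS 0 0 1 0 0).1 * normMat p q r s u := by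
  decide +kernel

theorem normMat_col : ∀ p q r s u : ZMod 3,
    normMat p q r s u 1 0 = 0 ∧ normMat p q r s u 2 0 = 0 ∧ normMat p q r s u 3 0 = 0 := by
  decide +kernel

theorem redT_spec : ∀ p q s u : ZMod 3, (p ≠ 0 ∨ q ≠ 0) → p * s + q * u = 0 →
    ((s ≠ 0 ∨ u ≠ 0) → redT p q s u ≠ 0) ∧ (s = 0 ∧ u = 0 → redT p q s u = 0) := by
  decide +kernel

theorem fixed_pair : ∀ p q s u a b c d : ZMod 3, p = p * a + q * c → q = p * b + q * d →
    s = a * s + b * u → u = c * s + d * u → a * d - b * c = 1 →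
    (a ≠ 1 ∨ b ≠ 0 ∨ c ≠ 0 ∨ d ≠ 1) → p * s + q * u = 0 := by
  decide +kernel

/-- The pair `(z, g⁻¹ z g)` is orthogonal in the quotient. -/
theorem PEmb.partner (E : PEmb φ) {g : G} (hg : g * φ zPar * g⁻¹ = eB φ ![0, 1, 0]) :
    ∃ p q r s u, g⁻¹ * φ zPar * g = φS φ (qS p q r s u) ∧ p * s + q * u = 0 ∧
      (p ≠ 0 ∨ q ≠ 0 ∨ s ≠ 0 ∨ u ≠ 0) := by
  obtain ⟨p, q, r, s, u, hy⟩ := (pull_z_x23_x12 E hg).1
  refine ⟨p, q, r, s, u, hy, ?_, ?_⟩
  · have k1 : qS 0 1 0 0 0 * colS ![0, 1, 0] = colS ![0, 1, 0] * qS 0 1 0 0 0 := by decide +kernel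
    have k2 : qS 0 1 0 0 0 * qS 0 0 1 0 0 = qS 0 0 1 0 0 * qS 0 1 0 0 0 := by decide +kernel
    set w := g⁻¹ * φS φ (qS 0 1 0 0 0) * g with hw
    have hwz : Commute w (φ zPar) :=
      commute_pull hg (φS_commute φ (qS_mem _ _ _ _ _) (colS_mem _) (Or.inl k1))
    obtain ⟨a, ha, hca, -, hwa⟩ := E.of_commute hwz
    have hm : midM a.1 ≠ 1 := fun hm => not_inQ_x02 E hg (q := 1) one_ne_zero (by
      rw [← hw, hwa]; exact inQ_of_midM hca hm)
    have hcy : Commute (φS φ a) (φS φ (qS p q r s u)) := by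
      rw [← hy, ← hwa, hw]
      have := (φS_commute φ (qS_mem _ _ _ _ _) (qS_mem _ _ _ _ _) (Or.inl k2)).conj g⁻¹
      rw [φS_zEl, inv_inv] at this
      exact this
    have e := commute_lift (a := a) (b := qS p q r s u) (by
      have e := hcy.eq
      rw [← φS_mul φ ha (qS_mem _ _ _ _ _), ← φS_mul φ (qS_mem _ _ _ _ _) ha] at e
      have := E.φS_inj (parLift.mul_mem ha (qS_mem _ _ _ _ _))
        (parLift.mul_mem (qS_mem _ _ _ _ _) ha) e
      rwa [map_mul, map_mul] at this) (by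
      simp [qS, Matrix.trace, Fin.sum_univ_four]; decide)
    have hsq := corner_sq hca
    have hdet := midM_det hca
    obtain ⟨g1, g2, g3, g4, g5, g6⟩ := hca
    have f01 := congrFun (congrFun e 0) 1
    have f02 := congrFun (congrFun e 0) 2
    have f13 := congrFun (congrFun e 1) 3
    have f23 := congrFun (congrFun e 2) 3
    simp [qS, Matrix.mul_apply, Fin.sum_univ_four, g1, g2, g4, g5] at f01 f02 f13 f23
    simp [midM, Matrix.det_fin_two] at hdet
    refine fixed_pair p q s u (a.1 0 0 * a.1 1 1) (a.1 0 0 * a.1 1 2) (a.1 0 0 * a.1 2 1)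
      (a.1 0 0 * a.1 2 2) ?_ ?_ ?_ ?_ (by linear_combination hdet) ?_
    · linear_combination (a.1 0 0) * f01 - p * hsq
    · linear_combination (a.1 0 0) * f02 - q * hsq
    · rw [g6] at hsq ⊢
      linear_combination -(a.1 3 3) * f13 - s * hsq
    · rw [g6] at hsq ⊢
      linear_combination -(a.1 3 3) * f23 - u * hsq
    · by_contra hh
      push Not at hh
      obtain ⟨h1, h2, h3, h4⟩ := hh
      refine hm ?_
      ext i j
      fin_cases i <;> fin_cases j <;> simp [midM, h1, h2, h3, h4]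
  · by_contra h
    push Not at h
    obtain ⟨rfl, rfl, rfl, rfl⟩ := h
    have e : φ zPar = eB φ ![0, 1, 0] ^ r.val := by
      calc φ zPar = g * (g⁻¹ * φ zPar * g) * g⁻¹ := by group
        _ = _ := by
          rw [hy, qS_center_pow, φS_pow φ (qS_mem _ _ _ _ _), φS_zEl, ← conj_pow, hg]
    have hpow : ∀ n : ℕ, eB φ ![0, 1, 0] ^ n = eB φ ((n : ZMod 3) • ![0, 1, 0]) := fun n => by
      induction n with
      | zero => rw [pow_zero, Nat.cast_zero, zero_smul, eB_zero]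
      | succ n ih => rw [pow_succ, ih, Nat.cast_succ, add_smul, one_smul, eB_add]
    rw [hpow, ← φS_zEl φ] at e
    have := congrFun (E.eB_inj (show eB φ ![1, 0, 0] = _ from e)) 0
    simp at this

/-- An element normalising the last column group that moves `z` to `x13`. -/
theorem PEmb.exists_swap (E : PEmb φ) {g : G} (hg : g * φ zPar * g⁻¹ = eB φ ![0, 1, 0]) :
    ∃ n : G, (∀ v, ∃ w, n * eB φ v * n⁻¹ = eB φ w) ∧ n * φ zPar * n⁻¹ = eB φ ![0, 1, 0] := by
  obtain ⟨p, q, r, s, u, hy, horth, hne⟩ := E.partner hg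
  have adjust : ∀ c : G, Commute c (φ zPar) →
      g * c⁻¹ * φ zPar * (g * c⁻¹)⁻¹ = eB φ ![0, 1, 0] := fun c hc => by
    rw [← hg]
    calc g * c⁻¹ * φ zPar * (g * c⁻¹)⁻¹ = g * (c⁻¹ * φ zPar * c) * g⁻¹ := by group
      _ = g * φ zPar * g⁻¹ := by
        rw [mul_assoc c⁻¹, ← hc.eq, inv_mul_cancel_left]
  by_cases hpq : p = 0 ∧ q = 0
  · -- the partner lies in the last column group
    obtain ⟨rfl, rfl⟩ := hpq
    obtain ⟨c, hc, hcx⟩ := exists_to_x13 (φ := φ) ![r, s, u] (by simpa using hne)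
    set g' := g * c⁻¹
    have hg' := adjust c hc
    have hy' : g'⁻¹ * φ zPar * g' = eB φ ![0, 1, 0] := by
      rw [← hcx, show eB φ ![r, s, u] = φS φ (qS 0 0 r s u) from rfl, ← hy]
      simp only [g']; group
    have hc2 : Commute (g' * g') (φ zPar) := by
      refine mul_inv_eq_iff_eq_mul.1 ?_
      calc g' * g' * φ zPar * (g' * g')⁻¹ = g' * (g' * φ zPar * g'⁻¹) * g'⁻¹ := by group
        _ = g' * (g'⁻¹ * φ zPar * g') * g'⁻¹ := by rw [hg', hy']
        _ = φ zPar := by group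
    have hB : ∀ v, ∃ w, g'⁻¹ * eB φ v * g' = eB φ w := fun v => by
      refine inter_eB E hg' (pull_eB E hg' v) ?_
      have := (inQ_eB (φ := φ) v).conj E hc2.inv_left
      rwa [show (g' * g')⁻¹ * eB φ v * (g' * g')⁻¹⁻¹ = g'⁻¹ * (g'⁻¹ * eB φ v * g') * g' by
        simp [mul_assoc]] at this
    choose f hf using hB
    refine ⟨g', fun v => ?_, hg'⟩
    have finj : Function.Injective f := fun a b h => E.eB_inj (by
      have : g'⁻¹ * eB φ a * g' = g'⁻¹ * eB φ b * g' := by rw [hf, hf, h]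
      simpa using this)
    obtain ⟨w, rfl⟩ := Finite.surjective_of_injective finj v
    exact ⟨w, by rw [← hf]; group⟩
  · have hpq' : p ≠ 0 ∨ q ≠ 0 := by
      by_contra h
      push Not at h
      exact hpq h
    have hN := normMat_conj p q r s u hpq' horth
    have hNz := normMat_center p q r s u hpq'
    obtain ⟨n1, n2, n3⟩ := normMat_col p q r s u
    obtain ⟨hT, hT0⟩ := redT_spec p q s u hpq' horth
    let N : S4 := ⟨normMat p q r s u, normMat_det p q r s u hpq'⟩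
    have hNm : N ∈ parLift := ⟨n1, n2, n3⟩
    have hNc : Commute (φS φ N) (φ zPar) := by
      rw [← φS_zEl φ]
      exact φS_commute φ hNm (qS_mem _ _ _ _ _) (Or.inl (Subtype.ext hNz))
    have hNy : φS φ N * φS φ (qS p q r s u) * (φS φ N)⁻¹ = φS φ (qS 0 1 0 (redT p q s u) 0) :=
      φS_conj φ hNm (qS_mem _ _ _ _ _) (qS_mem _ _ _ _ _) (Or.inl (Subtype.ext hN))
    by_cases hsu : s = 0 ∧ u = 0
    swap
    · exfalso
      have ht := hT (by
        by_contra h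
        push Not at h
        exact hsu h)
      refine E.not_root one_ne_zero ht ⟨φS φ N * g⁻¹, ?_⟩
      rw [← hNy, ← hy]
      group
    rw [hT0 hsu] at hNy
    set g' := g * (φS φ N)⁻¹
    have hg' := adjust _ hNc
    have hy' : g'⁻¹ * φ zPar * g' = φS φ (qS 0 1 0 0 0) := by
      rw [← hNy, ← hy]; simp only [g']; group
    set h := φS φ wS with hh
    have hwz : h * φ zPar * h⁻¹ = φS φ (qS 0 1 0 0 0) := by
      rw [← φS_zEl φ]
      exact φS_conj φ wS_mem (qS_mem _ _ _ _ _) (qS_mem _ _ _ _ _) (Or.inl (by decide +kernel))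
    have hc0 : Commute (g' * h) (φ zPar) := by
      refine mul_inv_eq_iff_eq_mul.1 ?_
      calc g' * h * φ zPar * (g' * h)⁻¹ = g' * (h * φ zPar * h⁻¹) * g'⁻¹ := by group
        _ = φ zPar := by rw [hwz, ← hy']; group
    have hA : ∀ v, ∃ b : Fin 3 → ZMod 3,
        g'⁻¹ * eB φ v * g' = φS φ (qS (b 0) (b 1) (b 2) 0 0) := fun v => by
      obtain ⟨p₁, q₁, r₁, s₁, u₁, e₁⟩ := pull_eB E hg' v
      have h2 := (inQ_eB (φ := φ) v).conj E hc0.inv_left
      rw [show (g' * h)⁻¹ * eB φ v * (g' * h)⁻¹⁻¹ = h⁻¹ * (g'⁻¹ * eB φ v * g') * h by group, e₁]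
        at h2
      obtain ⟨p₂, q₂, r₂, s₂, u₂, e₂⟩ := h2
      have e3 : φS φ (qS p₁ q₁ r₁ s₁ u₁) * h = h * φS φ (qS p₂ q₂ r₂ s₂ u₂) := by
        rw [← e₂]; group
      rw [hh, ← φS_mul φ (qS_mem _ _ _ _ _) wS_mem, ← φS_mul φ wS_mem (qS_mem _ _ _ _ _)] at e3
      refine ⟨![p₁, q₁, r₁], ?_⟩
      rw [e₁]
      rcases pr_eq_iff.1 (E.φS_inj (parLift.mul_mem (qS_mem _ _ _ _ _) wS_mem)
        (parLift.mul_mem wS_mem (qS_mem _ _ _ _ _)) e3) with e' | e' <;>
        rw [Matrix.SpecialLinearGroup.coe_mul, Matrix.SpecialLinearGroup.coe_mul] at e'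
      · have a12 := congrFun (congrFun e' 1) 2
        have a22 := congrFun (congrFun e' 2) 2
        simp [qS, wS, Matrix.mul_apply, Fin.sum_univ_four] at a12 a22
        subst a12 a22
        rfl
      · exfalso
        have := congrFun (congrFun e' 0) 0
        simp [qS, wS, Matrix.mul_apply, Fin.sum_univ_four] at this
        exact absurd this (by decide)
    choose f hf using hA
    have finj : Function.Injective f := fun a b e => E.eB_inj (by
      have : g'⁻¹ * eB φ a * g' = g'⁻¹ * eB φ b * g' := by rw [hf, hf, e]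
      simpa using this)
    have key : ∀ p q r : ZMod 3, qS p q r 0 0 * wS = wS * qS p (-r) q 0 0 := by decide +kernel
    refine ⟨g' * h⁻¹ * g'⁻¹, fun v => ?_, ?_⟩
    · obtain ⟨w, hw⟩ := Finite.surjective_of_injective finj ![f v 0, -(f v 2), f v 1]
      refine ⟨w, ?_⟩
      have e : h⁻¹ * φS φ (qS (f v 0) (f v 1) (f v 2) 0 0) * h =
          φS φ (qS (f v 0) (-(f v 2)) (f v 1) 0 0) := by
        rw [mul_assoc, inv_mul_eq_iff_eq_mul, hh, ← φS_mul φ (qS_mem _ _ _ _ _) wS_mem,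
          ← φS_mul φ wS_mem (qS_mem _ _ _ _ _), key]
      calc g' * h⁻¹ * g'⁻¹ * eB φ v * (g' * h⁻¹ * g'⁻¹)⁻¹
          = g' * (h⁻¹ * (g'⁻¹ * eB φ v * g') * h) * g'⁻¹ := by group
        _ = g' * (g'⁻¹ * eB φ w * g') * g'⁻¹ := by
          rw [hf, e, hf w, hw]; rfl
        _ = eB φ w := by group
    · calc g' * h⁻¹ * g'⁻¹ * φ zPar * (g' * h⁻¹ * g'⁻¹)⁻¹
          = g' * (h⁻¹ * (g'⁻¹ * φ zPar * g') * h) * g'⁻¹ := by group
        _ = g' * (h⁻¹ * (h * φ zPar * h⁻¹) * h) * g'⁻¹ := by rw [hy', hwz]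
        _ = g' * φ zPar * g'⁻¹ := by group
        _ = _ := hg'

/-- The monomial matrix of the reflection. -/
def sW : M3 := !![0, -1, 0; 1, 0, 0; 0, 0, 1]
/-- Its inverse. -/
def sW' : M3 := !![0, 1, 0; -1, 0, 0; 0, 0, 1]
/-- Diagonal matrices of the four-group. -/
def K01 : M3 := !![-1, 0, 0; 0, -1, 0; 0, 0, 1]
/-- Diagonal matrices of the four-group. -/
def K02 : M3 := !![-1, 0, 0; 0, 1, 0; 0, 0, -1]
/-- Diagonal matrices of the four-group. -/
def K12 : M3 := !![1, 0, 0; 0, -1, 0; 0, 0, -1]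
/-- The exchange of the last two coordinates. -/
def mW : M3 := !![-1, 0, 0; 0, 0, 1; 0, 1, 0]

theorem act_K01 : Act φ (φS φ k01S) K01 := by
  have := act_flag (φ := φ) k01S_mem rfl rfl (by decide +kernel)
  rwa [show k01S.1 3 3 • k01S.1.submatrix Fin.castSucc Fin.castSucc = K01 by decide +kernel] at this

theorem act_K02 : Act φ (φS φ k02S) K02 := by
  have := act_flag (φ := φ) k02S_mem rfl rfl (by decide +kernel)
  rwa [show k02S.1 3 3 • k02S.1.submatrix Fin.castSucc Fin.castSucc = K02 by decide +kernel] at this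

theorem act_K12 : Act φ (φS φ k12S) K12 := by
  have := act_flag (φ := φ) k12S_mem rfl rfl (by decide +kernel)
  rwa [show k12S.1 3 3 • k12S.1.submatrix Fin.castSucc Fin.castSucc = K12 by decide +kernel] at this

theorem act_mS : Act φ (φS φ mS) mW := by
  have := act_flag (φ := φ) mS_mem rfl rfl (by decide +kernel)
  rwa [show mS.1 3 3 • mS.1.submatrix Fin.castSucc Fin.castSucc = mW by decide +kernel] at this

theorem PEmb.exists_act_sW (E : PEmb φ) {g : G} (hg : g * φ zPar * g⁻¹ = eB φ ![0, 1, 0]) :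
    ∃ n : G, Act φ n sW := by
  obtain ⟨n, hn, hnz⟩ := E.exists_swap hg
  obtain ⟨W, hW, hd⟩ := exists_act E hn
  have hcol : W *ᵥ ![1, 0, 0] = ![0, 1, 0] :=
    E.eB_inj (by rw [← hW, show eB φ ![1, 0, 0] = φ zPar from φS_zEl φ, hnz])
  set N := W.adjugate * sW with hN
  have hWN : W * N = W.det • sW := by
    rw [hN, ← mul_assoc, Matrix.mul_adjugate, Matrix.smul_mul, one_mul]
  have hN0 : N *ᵥ ![1, 0, 0] = W.det • ![1, 0, 0] := by
    rw [hN, ← Matrix.mulVec_mulVec, show sW *ᵥ ![1, 0, 0] = ![0, 1, 0] by decide +kernel, ← hcol,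
      Matrix.mulVec_mulVec, Matrix.adjugate_mul, Matrix.smul_mulVec, Matrix.one_mulVec]
  have hNd : N.det = 1 := by
    rw [hN, Matrix.det_mul, Matrix.det_adjugate, show sW.det = 1 by decide +kernel, mul_one,
      show Fintype.card (Fin 3) - 1 = 2 from rfl, pow_two, sq_one' hd]
  let a : S4 := ⟨!![N 0 0, N 0 1, N 0 2, 0; N 1 0, N 1 1, N 1 2, 0; N 2 0, N 2 1, N 2 2, 0;
      0, 0, 0, 1], by
    have := hNd
    rw [Matrix.det_fin_three] at this
    simp [Matrix.det_succ_row_zero, Fin.sum_univ_succ, Fin.succAbove]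
    linear_combination this⟩
  have ha : a ∈ parLift := by
    refine ⟨?_, ?_, rfl⟩
    · have := congrFun hN0 1
      simp [Matrix.mulVec, dotProduct, Fin.sum_univ_three] at this
      exact this
    · have := congrFun hN0 2
      simp [Matrix.mulVec, dotProduct, Fin.sum_univ_three] at this
      exact this
  have hA : Act φ (φS φ a) N := by
    have := act_flag (φ := φ) ha rfl rfl (by simp [a])
    have e : a.1 3 3 • a.1.submatrix Fin.castSucc Fin.castSucc = N := by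
      ext i j
      fin_cases i <;> fin_cases j <;> simp [a]
    rwa [e] at this
  have h1 := hW.mul hA
  rw [hWN] at h1
  have hcases : W.det = 1 ∨ W.det = -1 := by
    revert hd; generalize W.det = d; revert d; decide
  rcases hcases with hd1 | hd1
  · rw [hd1, one_smul] at h1
    exact ⟨_, h1⟩
  · exfalso
    rw [hd1] at h1
    have h5 := (((h1.mul act_mS).mul h1).mul act_mS).mul h1
    have hfix : ((-1 : ZMod 3) • sW * mW * ((-1 : ZMod 3) • sW) * mW * ((-1 : ZMod 3) • sW)) *ᵥ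
        ![1, 0, 0] = ![1, 0, 0] := by decide +kernel
    have hdet : ((-1 : ZMod 3) • sW * mW * ((-1 : ZMod 3) • sW) * mW * ((-1 : ZMod 3) • sW)).det =
        -1 := by decide +kernel
    have hz : Commute (n * φS φ a * φS φ mS * (n * φS φ a) * φS φ mS * (n * φS φ a)) (φ zPar) := by
      have := h5 ![1, 0, 0]
      rw [hfix, show eB φ ![1, 0, 0] = φ zPar from φS_zEl φ] at this
      exact mul_inv_eq_iff_eq_mul.1 this
    have := act_det_of_commute E hz h5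
    rw [hdet] at this
    exact absurd this (by decide)
where
  sq_one' {d : ZMod 3} (h : d ≠ 0) : d * d = 1 := by revert h; revert d; decide

/-- Correcting an element acting as `W` so that it carries `k` to `k'`. -/
theorem fix_involution (E : PEmb φ) {g k k' : G} {K : M3} (hk : k * k = 1) (hk' : k' * k' = 1)
    (hK : Act φ k' K) (h : ∃ b, g * k * g⁻¹ = eB φ b * k') :
    ∃ b, K *ᵥ b = -b ∧ eB φ b * g * k * (eB φ b * g)⁻¹ = k' := by
  obtain ⟨b, hb⟩ := h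
  have hsq : eB φ b * k' * (eB φ b * k') = 1 := by
    rw [← hb]
    calc g * k * g⁻¹ * (g * k * g⁻¹) = g * (k * k) * g⁻¹ := by group
      _ = 1 := by rw [hk]; group
  have hki : k'⁻¹ = k' := inv_eq_of_mul_eq_one_right hk'
  have hKb : K *ᵥ b = -b := by
    refine eq_neg_of_add_eq_zero_right (E.eB_inj ?_)
    rw [eB_add, eB_zero, ← hK, hki]
    simpa [mul_assoc] using hsq
  refine ⟨b, hKb, ?_⟩
  have h3 : ∀ b : Fin 3 → ZMod 3, b + b = -b := by decide
  calc eB φ b * g * k * (eB φ b * g)⁻¹ = eB φ b * (g * k * g⁻¹) * (eB φ b)⁻¹ := by group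
    _ = eB φ b * eB φ b * (k' * (eB φ b)⁻¹ * k'⁻¹) * k' := by rw [hb]; group
    _ = eB φ (b + b) * (eB φ (K *ᵥ b))⁻¹ * k' := by rw [eB_add, ← hK]; group
    _ = k' := by rw [hKb, h3, mul_inv_cancel, one_mul]

theorem exists_coset (E : PEmb φ) {g k k' : G} {W W' K K' : M3} (hk' : k' * k' = 1)
    (hg : Act φ g W) (hW : W * W' = 1) (hk : Act φ k K) (hK' : Act φ k' K')
    (he : W * K * W' * K' = 1) : ∃ b, g * k * g⁻¹ = eB φ b * k' := by
  have h := (((hg.mul hk).mul (hg.inv hW)).mul hK')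
  rw [he] at h
  obtain ⟨b, hb⟩ := eq_eB_of_act_one E h
  refine ⟨b, ?_⟩
  rw [← hb, mul_assoc _ k', hk', mul_one]

/-- The lift of the reflection. -/
theorem PEmb.exists_weyl (E : PEmb φ) {g : G} (hg : g * φ zPar * g⁻¹ = eB φ ![0, 1, 0]) :
    ∃ n : G, Act φ n sW ∧ n * φS φ k01S * n⁻¹ = φS φ k01S ∧
      n * φS φ k02S * n⁻¹ = φS φ k12S ∧ n * φS φ k12S * n⁻¹ = φS φ k02S := by
  obtain ⟨g₁, h₁⟩ := E.exists_act_sW hg
  have hsW : sW * sW' = 1 := by decide +kernel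
  obtain ⟨b, -, hb⟩ := fix_involution E k01_involution k01_involution act_K01
    (exists_coset E k01_involution h₁ hsW act_K01 act_K01 (by decide +kernel))
  set g₂ := eB φ b * g₁
  have h₂ : Act φ g₂ sW := by simpa using (act_eB b).mul h₁
  obtain ⟨b₂, hK12, hb₂⟩ := fix_involution E k02_involution k12_involution act_K12
    (exists_coset E k12_involution h₂ hsW act_K02 act_K12 (by decide +kernel))
  set n := eB φ b₂ * g₂
  have hn : Act φ n sW := by simpa using (act_eB b₂).mul h₂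
  obtain ⟨c, hc⟩ := exists_coset E k02_involution hn hsW act_K12 act_K02 (by decide +kernel)
  have h01 : n * φS φ k01S * n⁻¹ = φS φ k01S := by
    -- `k01` commutes with `g₂ k02 g₂⁻¹`, so with `eB b₂`
    have hcomm : φS φ k01S * (g₂ * φS φ k02S * g₂⁻¹) = g₂ * φS φ k02S * g₂⁻¹ * φS φ k01S := by
      conv_lhs => rw [← hb]
      conv_rhs => rw [← hb]
      have e := (φS_commute φ k01S_mem k02S_mem (Or.inl (by decide +kernel))).eq
      calc g₂ * φS φ k01S * g₂⁻¹ * (g₂ * φS φ k02S * g₂⁻¹)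
          = g₂ * (φS φ k01S * φS φ k02S) * g₂⁻¹ := by group
        _ = g₂ * (φS φ k02S * φS φ k01S) * g₂⁻¹ := by rw [e]
        _ = _ := by group
    obtain ⟨d, hd⟩ := exists_coset E k12_involution h₂ hsW act_K02 act_K12 (by decide +kernel)
    rw [hd] at hcomm
    have e12 := (φS_commute φ k01S_mem k12S_mem (Or.inl (by decide +kernel))).eq
    have hKd : K01 *ᵥ d = d := E.eB_inj (by
      rw [← act_K01]
      refine mul_inv_eq_iff_eq_mul.2 (mul_right_cancel (b := φS φ k12S) ?_)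
      rw [mul_assoc, hcomm, mul_assoc, mul_assoc, e12])
    have hbd : b₂ = d := by
      have e : eB φ b₂ * (g₂ * φS φ k02S * g₂⁻¹) * (eB φ b₂)⁻¹ = φS φ k12S := by
        rw [← hb₂]; simp only [n]; group
      rw [hd] at e
      have e2 : eB φ (b₂ + d) * (φS φ k12S * (eB φ b₂)⁻¹ * (φS φ k12S)⁻¹) = 1 := by
        rw [eB_add]
        calc eB φ b₂ * eB φ d * (φS φ k12S * (eB φ b₂)⁻¹ * (φS φ k12S)⁻¹)
            = eB φ b₂ * (eB φ d * φS φ k12S) * (eB φ b₂)⁻¹ * (φS φ k12S)⁻¹ := by group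
          _ = 1 := by rw [e, mul_inv_cancel]
      have hi : (eB φ b₂)⁻¹ = eB φ (-b₂) :=
        inv_eq_of_mul_eq_one_right (by rw [← eB_add, add_neg_cancel, eB_zero])
      rw [hi, act_K12 (-b₂), ← eB_add, Matrix.mulVec_neg, hK12, neg_neg, ← eB_zero φ] at e2
      have h := E.eB_inj e2
      have h3 : ∀ b d : Fin 3 → ZMod 3, b + d + b = 0 → b = d := by decide
      exact h3 _ _ h
    calc n * φS φ k01S * n⁻¹ = eB φ b₂ * (g₂ * φS φ k01S * g₂⁻¹) * (eB φ b₂)⁻¹ := by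
          simp only [n]; group
      _ = φS φ k01S := by
        rw [hb, hbd]
        have := act_K01 (φ := φ) d
        rw [hKd] at this
        rw [← mul_inv_eq_iff_eq_mul.1 this]; group
  refine ⟨n, hn, h01, hb₂, ?_⟩
  have e : φS φ k01S * φS φ k02S = φS φ k12S := by
    rw [← φS_mul φ k01S_mem k02S_mem]
    exact congrArg _ (by decide +kernel)
  have e' : φS φ k01S * φS φ k12S = φS φ k02S := by
    rw [← φS_mul φ k01S_mem k12S_mem]
    exact congrArg _ (by decide +kernel)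
  calc n * φS φ k12S * n⁻¹ = (n * φS φ k01S * n⁻¹) * (n * φS φ k02S * n⁻¹) := by rw [← e]; group
    _ = φS φ k02S := by rw [h01, hb₂, e']

/-- Elements of the normalizer with the same action are equal. -/
theorem PEmb.weyl_unique (E : PEmb φ) {a b : G} {W : M3} (ha : Act φ a W) (hb : Act φ b W)
    (h1 : a * φS φ k01S * a⁻¹ = b * φS φ k01S * b⁻¹)
    (h2 : a * φS φ k02S * a⁻¹ = b * φS φ k02S * b⁻¹) : a = b := by
  have hd : Act φ (b⁻¹ * a) 1 := by
    intro v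
    rw [Matrix.one_mulVec]
    calc b⁻¹ * a * eB φ v * (b⁻¹ * a)⁻¹ = b⁻¹ * (a * eB φ v * a⁻¹) * b := by group
      _ = b⁻¹ * (b * eB φ v * b⁻¹) * b := by rw [ha, hb]
      _ = eB φ v := by group
  obtain ⟨c, hc⟩ := eq_eB_of_act_one E hd
  have hK : ∀ {k : G} {K : M3}, Act φ k K → a * k * a⁻¹ = b * k * b⁻¹ → K *ᵥ c = c := by
    intro k K hk he
    refine E.eB_inj ?_
    rw [← hk, ← hc]
    calc k * (b⁻¹ * a) * k⁻¹ = b⁻¹ * (b * k * b⁻¹) * a * k⁻¹ := by group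
      _ = b⁻¹ * (a * k * a⁻¹) * a * k⁻¹ := by rw [he]
      _ = b⁻¹ * a := by group
  have key : ∀ c : Fin 3 → ZMod 3, K01 *ᵥ c = c → K02 *ᵥ c = c → c = 0 := by decide +kernel
  rw [key c (hK act_K01 h1) (hK act_K02 h2), eB_zero, inv_mul_eq_one] at hc
  exact hc.symm

end Cfsg.Agent.PSLFourThree.ExtendPsl
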