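/-
The module of `SL(2,3)` of order 81 with an invariant alternating form (piece C of S3373).

* `SMod.S_eq`: an element of order three acts as `1 + ε`
* `SMod.fix_of_commutator`: the fixed vector of a quadratic pair spans a singular plane
* `SMod.exists_opposite`: the opposite singular plane
-/
import Mathlib
import Cfsg.Agent.EqLemmas

set_option autoImplicit false

namespace Cfsg.Agent.PSLFourThree.Front

/-- Two anticommuting elements of order four and an element of order three rotating them. -/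
structure SMod (V : Type*) [AddCommGroup V] where
  /-- the first element of order four -/
  I : V →+ V
  /-- the second element of order four -/
  J : V →+ V
  /-- the element of order three -/
  S : V →+ V
  /-- the form -/
  B : V →+ V →+ ZMod 3
  three : ∀ a : V, a + a + a = 0
  II : ∀ a, I (I a) = -a
  JJ : ∀ a, J (J a) = -a
  JI : ∀ a, J (I a) = -I (J a)
  SI : ∀ a, S (I a) = J (S a)
  SJ : ∀ a, S (J a) = I (J (S a))
  SSS : ∀ a, S (S (S a)) = a
  alt : ∀ a, B a a = 0
  nondeg : ∀ a, (∀ b, B a b = 0) → a = 0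
  BI : ∀ a b, B (I a) (I b) = B a b
  BJ : ∀ a b, B (J a) (J b) = B a b
  BS : ∀ a b, B (S a) (S b) = B a b

namespace SMod

variable {V : Type*} [AddCommGroup V] (M : SMod V)

/-- The nilpotent element. -/
def E : V →+ V := M.I + M.J + M.I.comp M.J

theorem E_apply (a : V) : M.E a = M.I a + M.J a + M.I (M.J a) := rfl

include M in
theorem double (a : V) : a + a = -a := eq_neg_of_add_eq_zero_left (M.three a)

theorem EI (a : V) : M.E (M.I a) = -a + M.J a - M.I (M.J a) := by
  simp only [E_apply, M.II, M.JI, map_neg]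
  abel

theorem EJ (a : V) : M.E (M.J a) = M.I (M.J a) - a - M.I a := by
  simp only [E_apply, M.JJ, map_neg]
  abel

theorem IE (a : V) : M.I (M.E a) = -a + M.I (M.J a) - M.J a := by
  simp only [E_apply, map_add, M.II]
  abel

theorem decomp (a : V) : M.E (M.I a) + M.I (M.E a) = a := by
  rw [M.EI, M.IE]
  have := M.double (-a)
  rw [neg_neg] at this
  calc _ = (-a + -a) := by abel
    _ = a := this

theorem EE (a : V) : M.E (M.E a) = 0 := by
  rw [M.E_apply a, map_add, map_add, M.EI, M.EJ, M.EI (M.J a)]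
  simp only [M.JJ, map_neg]
  calc _ = -(a + a + a) := by abel
    _ = 0 := by rw [M.three]; simp

theorem skew (a b : V) : M.B a b = -M.B b a := by
  have h := M.alt (a + b)
  simp only [map_add, AddMonoidHom.add_apply, M.alt, zero_add, add_zero] at h
  exact eq_neg_of_add_eq_zero_right (by linear_combination h)

theorem I_adj (a b : V) : M.B (M.I a) b = -M.B a (M.I b) := by
  have h := M.BI a (M.I b)
  rw [M.II, map_neg] at h
  linear_combination -h

theorem J_adj (a b : V) : M.B (M.J a) b = -M.B a (M.J b) := by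
  have h := M.BJ a (M.J b)
  rw [M.JJ, map_neg] at h
  linear_combination -h

theorem E_adj (a b : V) : M.B (M.E a) b = -M.B a (M.E b) := by
  simp only [E_apply, map_add, AddMonoidHom.add_apply, M.I_adj, M.J_adj]
  rw [M.JI, map_neg]
  ring

theorem E_isotropic (a b : V) : M.B (M.E a) (M.E b) = 0 := by rw [M.E_adj, M.EE, map_zero, neg_zero]

theorem S_E (a : V) : M.S (M.E a) = M.E (M.S a) := by
  have h : ∀ x, M.S (M.I (M.J x)) = M.I (M.S x) := fun x => by
    rw [M.SI, M.SJ, M.JI, M.JJ, map_neg, neg_neg]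
  simp only [E_apply, map_add, M.SI, M.SJ, M.JI, M.JJ, map_neg, neg_neg]
  abel

theorem mem_ker_iff (a : V) : M.E a = 0 ↔ ∃ b, M.E b = a :=
  ⟨fun h => ⟨M.I a, by have := M.decomp a; rwa [h, map_zero, add_zero] at this⟩,
    fun ⟨b, hb⟩ => hb ▸ M.EE b⟩

/-- The symmetric form on the kernel of `E`. -/
def c (a b : V) : ZMod 3 := M.B a (M.I b)

theorem c_comm (a b : V) : M.c a b = M.c b a := by
  rw [c, c, M.skew a, M.I_adj, neg_neg]

theorem c_nondeg {a : V} (ha : M.E a = 0) (h : ∀ b, M.E b = 0 → M.c a b = 0) : a = 0 := by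
  refine M.nondeg a fun b => ?_
  obtain ⟨a', rfl⟩ := (M.mem_ker_iff a).1 ha
  rw [← M.decomp b, map_add, M.E_isotropic, zero_add]
  exact h _ (M.EE b)

theorem eq_zero_of_pair {a b : V} (ha : M.E a = 0) (hb : M.E b = 0) (h : a + M.I b = 0) :
    a = 0 ∧ b = 0 := by
  have h1 := congrArg M.E h
  rw [map_add, ha, zero_add, map_zero] at h1
  have h2 := M.decomp b
  rw [h1, hb, map_zero, add_zero] at h2
  subst h2
  simpa using h

theorem card_ker (hcard : Nat.card V = 81) : Nat.card M.E.ker = 9 := by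
  have e : M.E.ker × M.E.ker ≃ V := Equiv.ofBijective (fun p => p.1.1 + M.I p.2.1) ⟨by
    rintro ⟨⟨a, ha⟩, ⟨b, hb⟩⟩ ⟨⟨a', ha'⟩, ⟨b', hb'⟩⟩ h
    have := M.eq_zero_of_pair (a := a - a') (b := b - b') (by rw [map_sub, ha, ha', sub_zero])
      (by rw [map_sub, hb, hb', sub_zero]) (by
        have h' : a + M.I b = a' + M.I b' := h
        rw [map_sub, sub_add_sub_comm, h', sub_self])
    rw [sub_eq_zero, sub_eq_zero] at this
    simp [this],
    fun a => ⟨(⟨_, M.EE (M.I a)⟩, ⟨_, M.EE a⟩), M.decomp a⟩⟩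
  have := Nat.card_congr e
  rw [Nat.card_prod, hcard] at this
  nlinarith

/-- The part of `S` commuting with the quaternion group. -/
def beta (a : V) : V := M.S a - M.E (M.S a)

theorem beta_I (a : V) : M.beta (M.I a) = M.I (M.beta a) := by
  simp only [beta, M.SI, M.EJ, M.IE, map_sub]
  abel

theorem beta_E {a : V} (ha : M.E a = 0) : M.E (M.beta a) = 0 := by
  rw [beta, map_sub, M.EE, ← M.S_E, ha, map_zero, sub_zero]

theorem beta_fix_iff (a : V) : M.beta a = a ↔ M.S a = a + M.E a := by
  rw [beta, sub_eq_iff_eq_add]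
  constructor
  · intro h
    have h1 := congrArg M.E h
    rw [map_add, M.EE, add_zero] at h1
    rwa [← h1]
  · intro h
    rw [show M.E (M.S a) = M.E a by rw [h, map_add, M.EE, add_zero]]
    exact h

theorem beta_B (a b : V) : M.B (M.beta a) (M.beta b) = M.B a b := by
  simp only [beta, map_sub, AddMonoidHom.sub_apply, M.E_isotropic, M.BS]
  rw [M.E_adj]
  ring

theorem beta_c (a b : V) : M.c (M.beta a) (M.beta b) = M.c a b := by
  rw [c, c, ← M.beta_I, M.beta_B]

theorem beta_beta_beta (a : V) : M.beta (M.beta (M.beta a)) = a := by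
  simp only [beta, map_sub, M.S_E, M.EE, M.SSS, sub_zero]
  calc _ = a - (M.E a + M.E a + M.E a) := by abel
    _ = a := by rw [M.three, sub_zero]

theorem beta_add (a b : V) : M.beta (a + b) = M.beta a + M.beta b := by
  simp only [beta, map_add]; abel

theorem beta_sub (a b : V) : M.beta (a - b) = M.beta a - M.beta b := by
  simp only [beta, map_sub]; abel

theorem beta_zero : M.beta 0 = 0 := by simp [beta]

theorem nsmul_val (t : ZMod 3) (a b : V) : M.c a (t.val • b) = t * M.c a b := by
  rw [c, c, map_nsmul, map_nsmul, nsmul_eq_mul, ZMod.natCast_val, ZMod.cast_id', id]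

theorem c_add (a b b' : V) : M.c a (b + b') = M.c a b + M.c a b' := by simp [c]

theorem c_sub (a b b' : V) : M.c a (b - b') = M.c a b - M.c a b' := by simp [c]

theorem c_sub_left (a a' b : V) : M.c (a - a') b = M.c a b - M.c a' b := by simp [c]

/-- The part commuting with the quaternion group is trivial. -/
theorem beta_eq_ker (hcard : Nat.card V = 81) (w : V) (hw : M.E w = 0) : M.beta w = w := by
  classical
  have hfin : Finite V := Nat.finite_of_card_ne_zero (by omega)
  by_contra hne
  -- a fixed vector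
  obtain ⟨w0, hw0, hw00, hw0f⟩ : ∃ w0, M.E w0 = 0 ∧ w0 ≠ 0 ∧ M.beta w0 = w0 := by
    set n : V → V := fun a => M.beta a - a
    have hn : n (n (n w)) = 0 := by
      simp only [n, M.beta_sub, M.beta_beta_beta]
      calc _ = (M.beta w + M.beta w + M.beta w) -
            (M.beta (M.beta w) + M.beta (M.beta w) + M.beta (M.beta w)) := by abel
        _ = 0 := by rw [M.three, M.three, sub_zero]
    have hE : ∀ a, M.E a = 0 → M.E (n a) = 0 := fun a ha => by
      simp only [n, map_sub, M.beta_E ha, ha, sub_zero]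
    by_cases h1 : n (n w) = 0
    · exact ⟨n w, hE w hw, sub_ne_zero.2 hne, sub_eq_zero.1 h1⟩
    · exact ⟨n (n w), hE _ (hE w hw), h1, sub_eq_zero.1 hn⟩
  -- a vector pairing with it
  obtain ⟨w1, hw1, hc1⟩ : ∃ w1, M.E w1 = 0 ∧ M.c w0 w1 ≠ 0 := by
    by_contra h
    push Not at h
    exact hw00 (M.c_nondeg hw0 h)
  have hsq : ∀ t : ZMod 3, t ≠ 0 → t * t = 1 := by decide
  have hsplit : ∀ a, M.E a = 0 → ∃ t : ZMod 3, M.c w0 (a - t.val • w1) = 0 ∧
      M.E (a - t.val • w1) = 0 := by
    intro a ha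
    refine ⟨M.c w0 a * M.c w0 w1, ?_, by rw [map_sub, ha, map_nsmul, hw1, nsmul_zero, sub_zero]⟩
    rw [M.c_sub, M.nsmul_val, mul_assoc, hsq _ hc1, mul_one, sub_self]
  -- the orthogonal line is fixed
  let L : AddSubgroup V :=
    { carrier := {a | M.E a = 0 ∧ M.c w0 a = 0}
      zero_mem' := ⟨map_zero _, by simp [c]⟩
      add_mem' := fun {a b} ha hb => ⟨by rw [map_add, ha.1, hb.1, add_zero],
        by rw [M.c_add, ha.2, hb.2, add_zero]⟩
      neg_mem' := fun {a} ha => ⟨by rw [map_neg, ha.1, neg_zero],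
        by simp only [c, map_neg]; rw [show M.B w0 (M.I a) = 0 from ha.2, neg_zero]⟩ }
  have hLcard : Nat.card L = 3 := by
    have e : L × ZMod 3 ≃ M.E.ker := Equiv.ofBijective
      (fun p => ⟨p.1.1 + p.2.val • w1, by
        rw [AddMonoidHom.mem_ker, map_add, p.1.2.1, map_nsmul, hw1, nsmul_zero, add_zero]⟩)
      ⟨by
        rintro ⟨⟨a, ha⟩, t⟩ ⟨⟨a', ha'⟩, t'⟩ h
        have h' : a + t.val • w1 = a' + t'.val • w1 := congrArg Subtype.val h
        have h2 := congrArg (M.c w0) h'
        rw [M.c_add, M.c_add, M.nsmul_val, M.nsmul_val, ha.2, ha'.2, zero_add, zero_add] at h2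
        obtain rfl := mul_right_cancel₀ hc1 h2
        simpa using h',
      fun a => by
        obtain ⟨t, ht, ht'⟩ := hsplit a.1 a.2
        exact ⟨(⟨_, ⟨ht', ht⟩⟩, t), Subtype.ext (sub_add_cancel _ _)⟩⟩
    have := Nat.card_congr e
    rw [Nat.card_prod, M.card_ker hcard, Nat.card_zmod] at this
    omega
  have hfix : ∀ a ∈ L, M.beta a = a := by
    intro a ha
    by_cases h0 : a = 0
    · rw [h0, M.beta_zero]
    have hb : M.beta a ∈ L := ⟨M.beta_E ha.1, by
      have := M.beta_c w0 a; rw [hw0f] at this; rw [this]; exact ha.2⟩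
    have hcases : ∀ b ∈ L, b = 0 ∨ b = a ∨ b = -a := by
      intro b hb
      have := card_three_cases hLcard (x := ⟨a, ha⟩) (fun h => h0 (congrArg Subtype.val h)) ⟨b, hb⟩
      simpa [Subtype.ext_iff] using this
    rcases hcases _ hb with e | e | e
    · have := M.beta_beta_beta a
      rw [e, M.beta_zero, M.beta_zero] at this
      exact absurd this.symm h0
    · exact e
    · exfalso
      have hneg : ∀ x, M.beta (-x) = -M.beta x := fun x => by simp [beta]; abel
      have := M.beta_beta_beta a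
      rw [e, hneg, e, neg_neg, e] at this
      exact h0 (by
        have h5 := M.double a
        rw [this] at h5
        calc a = a + a + -a := by abel
          _ = a + a + a := by rw [this]
          _ = 0 := M.three a)
  set d := M.beta w - w with hd
  have hdL : d ∈ L := by
    refine ⟨by rw [hd, map_sub, M.beta_E hw, hw, sub_zero], ?_⟩
    have := M.beta_c w0 w
    rw [hw0f] at this
    rw [hd, M.c_sub, this, sub_self]
  have hd0 : ∀ k ∈ L, M.c d k = 0 := fun k hk => by
    have := M.beta_c w k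
    rw [hfix k hk] at this
    rw [hd, M.c_sub_left, this, sub_self]
  have hdd : M.c d d = 0 := hd0 d hdL
  have hdw : M.c d w = 0 := by
    have h := M.beta_c w w
    rw [show M.beta w = w + d by rw [hd]; abel] at h
    simp only [M.c_add] at h
    rw [M.c_comm (w + d) w, M.c_comm (w + d) d, M.c_add, M.c_add, M.c_comm w d, hdd] at h
    have : ∀ x y : ZMod 3, x + y + (y + 0) = x → y = 0 := by decide
    exact this _ _ h
  refine hne (sub_eq_zero.1 (M.c_nondeg (a := d) hdL.1 fun b hb => ?_))
  by_cases hwL : M.c w0 w = 0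
  · exact absurd (hfix w ⟨hw, hwL⟩) hne
  · set t := M.c w0 b * M.c w0 w
    have hbL : b - t.val • w ∈ L := ⟨by rw [map_sub, hb, map_nsmul, hw, nsmul_zero, sub_zero],
      by rw [M.c_sub, M.nsmul_val, mul_assoc, hsq _ hwL, mul_one, sub_self]⟩
    have := hd0 _ hbL
    rwa [M.c_sub, M.nsmul_val, hdw, mul_zero, sub_zero] at this
where
  card_three_cases {A : Type _} [AddGroup A] (h : Nat.card A = 3) {x : A} (hx : x ≠ 0) (y : A) :
      y = 0 ∨ y = x ∨ y = -x := by
    have := Nat.finite_of_card_ne_zero (show Nat.card A ≠ 0 by omega)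
    have h3 : addOrderOf x = 3 :=
      ((Nat.dvd_prime Nat.prime_three).1 (h ▸ addOrderOf_dvd_natCard x)).resolve_left
        (fun h1 => hx (AddMonoid.addOrderOf_eq_one_iff.1 h1))
    have htop : AddSubgroup.zmultiples x = ⊤ :=
      AddSubgroup.eq_top_of_card_eq _ (by rw [Nat.card_zmultiples, h3, h])
    obtain ⟨k, hk⟩ := AddSubgroup.mem_zmultiples_iff.1 (htop ▸ AddSubgroup.mem_top y)
    rw [← mod_addOrderOf_zsmul, h3] at hk
    have : k % (3 : ℤ) = 0 ∨ k % (3 : ℤ) = 1 ∨ k % (3 : ℤ) = 2 := by omega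
    rcases this with e | e | e <;> simp only [Nat.cast_ofNat, e] at hk
    · exact Or.inl (by simpa using hk.symm)
    · exact Or.inr (Or.inl (by simpa using hk.symm))
    · refine Or.inr (Or.inr (eq_neg_of_add_eq_zero_left ?_))
      have h0 : (3 : ℕ) • x = 0 := h3 ▸ addOrderOf_nsmul_eq_zero x
      rw [← hk, two_zsmul, ← h0]
      simp [succ_nsmul]

/-- An element of order three acts as `1 + E`. -/
theorem S_eq (hcard : Nat.card V = 81) (a : V) : M.S a = a + M.E a := by
  rw [← M.beta_fix_iff]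
  conv_lhs => rw [← M.decomp a]
  rw [M.beta_add, M.beta_I, M.beta_eq_ker hcard _ (M.EE _), M.beta_eq_ker hcard _ (M.EE _), M.decomp]

/-- The vector of a quadratic pair is singular. -/
theorem fix_of_commutator (hcard : Nat.card V = 81) {u v : V} (hv : M.S v = v + u)
    (huv : M.B v u = 0) : M.E v = u ∧ M.E u = 0 ∧ M.c u u = 0 := by
  have h1 : M.E v = u := add_left_cancel ((M.S_eq hcard v).symm.trans hv)
  refine ⟨h1, h1 ▸ M.EE v, ?_⟩
  rw [c, ← h1, M.E_adj]
  have h2 := M.decomp (M.E v)
  rw [M.EE, map_zero, add_zero] at h2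
  rw [h2, h1, huv, neg_zero]

/-- The opposite singular vector. -/
theorem exists_opposite (hcard : Nat.card V = 81) {u : V} (hu : M.E u = 0) (hu0 : u ≠ 0)
    (huu : M.c u u = 0) : ∃ u', M.E u' = 0 ∧ M.c u' u' = 0 ∧ M.c u u' = 1 := by
  obtain ⟨a, ha, hca⟩ : ∃ a, M.E a = 0 ∧ M.c u a = 1 := by
    obtain ⟨a, ha, hca⟩ : ∃ a, M.E a = 0 ∧ M.c u a ≠ 0 := by
      by_contra h
      push Not at h
      exact hu0 (M.c_nondeg hu h)
    refine ⟨(M.c u a).val • a, by rw [map_nsmul, ha, nsmul_zero], ?_⟩
    rw [M.nsmul_val]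
    revert hca
    generalize M.c u a = x
    revert x
    decide
  set t := M.c a a
  refine ⟨a + t.val • u, by rw [map_add, ha, map_nsmul, hu, nsmul_zero, add_zero], ?_, ?_⟩
  · rw [M.c_add, M.c_comm _ a, M.c_comm _ (t.val • u), M.c_comm (t.val • u) _]
    rw [M.c_add, M.nsmul_val, M.c_comm (a + t.val • u) (t.val • u)]
    have e : ∀ x, M.c (t.val • u) x = t * M.c u x := fun x => by
      rw [M.c_comm, M.nsmul_val, M.c_comm]
    rw [e, M.c_add, M.nsmul_val, M.c_comm a u, hca, huu]
    change t + t * 1 + t * (1 + t * 0) = 0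
    have : ∀ x : ZMod 3, x + x * 1 + x * (1 + x * 0) = 0 := by decide
    exact this t
  · rw [M.c_add, M.nsmul_val, huu, hca, mul_zero, add_zero]

end SMod

end Cfsg.Agent.PSLFourThree.Front
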