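/-
The configuration of piece C of S3373: a centralizer `3^(1+4) : SL(2,3)` and the module `Q/Z`.
-/
import Cfsg.Agent.Lib.PSLFourThree.FrontModule

set_option autoImplicit false

namespace Cfsg.Agent.PSLFourThree.Front

open scoped commutatorElement

/-- The quotient of the centralizer. -/
abbrev S2 := Matrix.SpecialLinearGroup (Fin 2) (ZMod 3)

/-- The central involution of `SL(2,3)`. -/
def ng : S2 := ⟨!![-1, 0; 0, -1], by decide⟩

theorem ng_central : ∀ A : S2, A * ng = ng * A := by decide +kernel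

theorem ng_ne : ng ≠ 1 ∧ ng * ng = 1 := by decide +kernel

theorem sq_cases : ∀ A : S2, A * A = 1 → A = 1 ∨ A = ng := by decide +kernel

theorem exists_quat : ∀ σ : S2, σ * σ * σ = 1 → σ ≠ 1 → ∃ ι : S2, ι * ι = ng ∧
    σ * ι * σ⁻¹ * (σ * ι * σ⁻¹) = ng ∧ σ * ι * σ⁻¹ * ι = ng * (ι * (σ * ι * σ⁻¹)) ∧
    σ * (σ * ι * σ⁻¹) * σ⁻¹ = ι * (σ * ι * σ⁻¹) := by decide +kernel

/-- A centralizer `3^(1+4) : SL(2,3)` of an element of order three. -/
structure Cfg (G : Type*) [Group G] where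
  /-- the central element -/
  z : G
  /-- the radical of the centralizer -/
  Q : Subgroup G
  /-- the quotient map -/
  pi : Subgroup.centralizer ({z} : Set G) →* S2
  /-- the involution inverting `Q/Z` -/
  t : Subgroup.centralizer ({z} : Set G)
  z_cube : z * z * z = 1
  z_ne : z ≠ 1
  z_mem : z ∈ Q
  Q_le : Q ≤ Subgroup.centralizer ({z} : Set G)
  card_Q : Nat.card Q = 243
  exp : ∀ a ∈ Q, a * a * a = 1
  center : ∀ a ∈ Q, (∀ b ∈ Q, a * b = b * a) → a ∈ Subgroup.zpowers z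
  comm : ∀ a ∈ Q, ∀ b ∈ Q, ⁅a, b⁆ ∈ Subgroup.zpowers z
  cent_Q : Subgroup.centralizer (Q : Set G) ≤ Q
  pi_surj : Function.Surjective pi
  pi_ker : ∀ g, pi g = 1 ↔ (g : G) ∈ Q
  char : ∀ n : G, n * z * n⁻¹ ∈ Subgroup.zpowers z → ∀ a ∈ Q, n * a * n⁻¹ ∈ Q
  t_sq : t * t = 1
  t_pi : pi t = ng
  t_inv : ∀ a ∈ Q, (t : G) * a * (t : G)⁻¹ * a ∈ Subgroup.zpowers z

namespace Cfg

variable {G : Type*} [Group G] (D : Cfg G)

/-- The centralizer. -/
abbrev C : Subgroup G := Subgroup.centralizer ({D.z} : Set G)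

theorem comm_z {g : G} (hg : g ∈ D.C) : g * D.z = D.z * g :=
  Subgroup.mem_centralizer_singleton_iff.1 hg

theorem z_mem_C : D.z ∈ D.C := Subgroup.mem_centralizer_singleton_iff.2 rfl

theorem zpowers_le : Subgroup.zpowers D.z ≤ D.Q := Subgroup.zpowers_le.2 D.z_mem

theorem orderOf_z : orderOf D.z = 3 :=
  orderOf_eq_prime (by rw [pow_succ, pow_two]; exact D.z_cube) D.z_ne

theorem mem_zpowers {a : G} (h : a ∈ Subgroup.zpowers D.z) :
    ∃ k : ZMod 3, a = D.z ^ k.val := by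
  obtain ⟨n, rfl⟩ := Subgroup.mem_zpowers_iff.1 h
  refine ⟨(n : ZMod 3), ?_⟩
  rw [← zpow_natCast, ← zpow_mod_orderOf, D.orderOf_z, ZMod.val_intCast]

theorem pow_inj {k l : ZMod 3} (h : D.z ^ k.val = D.z ^ l.val) : k = l := by
  rw [pow_eq_pow_iff_modEq, D.orderOf_z] at h
  rw [← ZMod.natCast_zmod_val k, ← ZMod.natCast_zmod_val l]
  exact (ZMod.natCast_eq_natCast_iff _ _ _).2 h

theorem pow_add' (k l : ZMod 3) : D.z ^ (k + l).val = D.z ^ k.val * D.z ^ l.val := by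
  rw [← pow_add, pow_eq_pow_iff_modEq, D.orderOf_z, ← ZMod.natCast_eq_natCast_iff]
  simp

theorem pow_central (k : ℕ) {g : G} (hg : g ∈ D.C) : g * D.z ^ k = D.z ^ k * g :=
  Commute.pow_right (D.comm_z hg) k

theorem zpowers_central {a g : G} (ha : a ∈ Subgroup.zpowers D.z) (hg : g ∈ D.C) :
    g * a = a * g := by
  obtain ⟨k, rfl⟩ := D.mem_zpowers ha
  exact D.pow_central _ hg

/-- `Z` inside `Q`. -/
def Zq : Subgroup D.Q := (Subgroup.zpowers D.z).subgroupOf D.Q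

instance zq_normal : D.Zq.Normal where
  conj_mem a ha g := by
    rw [Zq, Subgroup.mem_subgroupOf] at ha ⊢
    show (g : G) * a * (g : G)⁻¹ ∈ _
    rwa [D.zpowers_central ha (D.Q_le g.2), mul_inv_cancel_right]

instance quotientCommGroup : CommGroup (D.Q ⧸ D.Zq) :=
  { (inferInstance : Group (D.Q ⧸ D.Zq)) with
    mul_comm := by
      intro a b
      obtain ⟨a, rfl⟩ := QuotientGroup.mk_surjective a
      obtain ⟨b, rfl⟩ := QuotientGroup.mk_surjective b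
      rw [← QuotientGroup.mk_mul, ← QuotientGroup.mk_mul, QuotientGroup.eq, Zq,
        Subgroup.mem_subgroupOf]
      have h := D.comm _ (D.Q.inv_mem b.2) _ (D.Q.inv_mem a.2)
      simpa [commutatorElement_def, mul_assoc] using h }

/-- The module `Q/Z`. -/
abbrev V : Type _ := Additive (D.Q ⧸ D.Zq)

/-- The class of an element of `Q`. -/
def cl (a : G) (ha : a ∈ D.Q) : D.V := Additive.ofMul (QuotientGroup.mk (⟨a, ha⟩ : D.Q))

theorem cl_surj (v : D.V) : ∃ a ha, D.cl a ha = v := by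
  obtain ⟨⟨a, ha⟩, e⟩ := QuotientGroup.mk_surjective (Additive.toMul v)
  exact ⟨a, ha, e⟩

theorem cl_eq {a b : G} {ha : a ∈ D.Q} {hb : b ∈ D.Q} :
    D.cl a ha = D.cl b hb ↔ a⁻¹ * b ∈ Subgroup.zpowers D.z := by
  rw [cl, cl, Additive.ofMul.injective.eq_iff, QuotientGroup.eq, Zq, Subgroup.mem_subgroupOf]
  rfl

theorem cl_eq_zero {a : G} {ha : a ∈ D.Q} : D.cl a ha = 0 ↔ a ∈ Subgroup.zpowers D.z := by
  rw [cl, ← ofMul_one, Additive.ofMul.injective.eq_iff, QuotientGroup.eq_one_iff, Zq,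
    Subgroup.mem_subgroupOf]

theorem cl_mul {a b : G} (ha : a ∈ D.Q) (hb : b ∈ D.Q) :
    D.cl (a * b) (D.Q.mul_mem ha hb) = D.cl a ha + D.cl b hb := rfl

theorem cl_inv {a : G} (ha : a ∈ D.Q) : D.cl a⁻¹ (D.Q.inv_mem ha) = -D.cl a ha := rfl

theorem card_V : Nat.card D.V = 81 := by
  have h := Subgroup.card_eq_card_quotient_mul_card_subgroup D.Zq
  have h2 : Nat.card D.Zq = 3 := by
    rw [Zq, Nat.card_congr (Subgroup.subgroupOfEquivOfLe D.zpowers_le).toEquiv, Nat.card_zpowers,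
      D.orderOf_z]
  rw [D.card_Q, h2] at h
  show Nat.card (D.Q ⧸ D.Zq) = 81
  omega

theorem three (v : D.V) : v + v + v = 0 := by
  obtain ⟨a, ha, rfl⟩ := D.cl_surj v
  rw [← D.cl_mul, ← D.cl_mul, D.cl_eq_zero, D.exp a ha]
  exact one_mem _

theorem conj_zpowers {g a : G} (hg : g ∈ D.C) (ha : a ∈ Subgroup.zpowers D.z) : g * a * g⁻¹ = a := by
  rw [D.zpowers_central ha hg, mul_inv_cancel_right]

theorem conj_mem {g a : G} (hg : g ∈ D.C) (ha : a ∈ D.Q) : g * a * g⁻¹ ∈ D.Q :=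
  D.char g (by rw [D.conj_zpowers hg (Subgroup.mem_zpowers _)]; exact Subgroup.mem_zpowers _) a ha

/-- Conjugation on `Q`. -/
def conjQ (g : D.C) : D.Q →* D.Q where
  toFun a := ⟨(g : G) * a * (g : G)⁻¹, D.conj_mem g.2 a.2⟩
  map_one' := by simp
  map_mul' a b := Subtype.ext (show (g : G) * ((a : G) * b) * (g : G)⁻¹ =
    (g : G) * a * (g : G)⁻¹ * ((g : G) * b * (g : G)⁻¹) by group)

/-- Conjugation on `V`. -/
def cj (g : D.C) : D.V →+ D.V :=
  MonoidHom.toAdditive (QuotientGroup.map D.Zq D.Zq (D.conjQ g) (fun a ha => by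
    rw [Zq, Subgroup.mem_subgroupOf] at ha
    rw [Subgroup.mem_comap, Zq, Subgroup.mem_subgroupOf]
    show (g : G) * a * (g : G)⁻¹ ∈ _
    rwa [D.conj_zpowers g.2 ha]))

theorem cj_mk (g : D.C) {a : G} (ha : a ∈ D.Q) :
    D.cj g (D.cl a ha) = D.cl ((g : G) * a * (g : G)⁻¹) (D.conj_mem g.2 ha) := rfl

theorem cj_mul (g h : D.C) (v : D.V) : D.cj (g * h) v = D.cj g (D.cj h v) := by
  obtain ⟨a, ha, rfl⟩ := D.cl_surj v
  rw [D.cj_mk, D.cj_mk, D.cj_mk, D.cl_eq, Subgroup.coe_mul]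
  exact (Subgroup.zpowers D.z).mem_carrier.2 (by simp [mul_assoc])

theorem cj_of_mem {g : D.C} (hg : (g : G) ∈ D.Q) (v : D.V) : D.cj g v = v := by
  obtain ⟨a, ha, rfl⟩ := D.cl_surj v
  rw [D.cj_mk, D.cl_eq]
  have h := D.comm _ hg _ (D.Q.inv_mem ha)
  simpa [commutatorElement_def, mul_assoc] using h

theorem cj_eq {g h : D.C} (e : D.pi g = D.pi h) (v : D.V) : D.cj g v = D.cj h v := by
  have hk : ((h⁻¹ * g : D.C) : G) ∈ D.Q := (D.pi_ker _).1 (by rw [map_mul, map_inv, e, inv_mul_cancel])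
  conv_lhs => rw [show g = h * (h⁻¹ * g) by group, D.cj_mul, D.cj_of_mem hk]

theorem cj_t (v : D.V) : D.cj D.t v = -v := by
  obtain ⟨a, ha, rfl⟩ := D.cl_surj v
  rw [eq_neg_iff_add_eq_zero, D.cj_mk, ← D.cl_mul, D.cl_eq_zero]
  exact D.t_inv a ha

/-- The action of the quotient on `V`. -/
noncomputable def rho (A : S2) : D.V →+ D.V := D.cj (Function.surjInv D.pi_surj A)

theorem rho_pi (g : D.C) (v : D.V) : D.rho (D.pi g) v = D.cj g v :=
  D.cj_eq (Function.surjInv_eq D.pi_surj _) v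

theorem rho_mul (A B : S2) (v : D.V) : D.rho (A * B) v = D.rho A (D.rho B v) := by
  obtain ⟨g, rfl⟩ := D.pi_surj A
  obtain ⟨h, rfl⟩ := D.pi_surj B
  rw [← map_mul, D.rho_pi, D.rho_pi, D.rho_pi, D.cj_mul]

theorem rho_ng (v : D.V) : D.rho ng v = -v := by rw [← D.t_pi, D.rho_pi, D.cj_t]

theorem rho_one (v : D.V) : D.rho 1 v = v := by
  rw [← map_one D.pi, D.rho_pi, D.cj_of_mem (g := 1) (by simp)]

theorem exists_comm (v w : D.V) : ∃ k : ZMod 3, ∀ a ha b hb, D.cl a ha = v → D.cl b hb = w →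
    ⁅a, b⁆ = D.z ^ k.val := by
  obtain ⟨a₀, ha₀, rfl⟩ := D.cl_surj v
  obtain ⟨b₀, hb₀, rfl⟩ := D.cl_surj w
  obtain ⟨k, hk⟩ := D.mem_zpowers (D.comm a₀ ha₀ b₀ hb₀)
  refine ⟨k, fun a ha b hb h1 h2 => ?_⟩
  rw [eq_comm, D.cl_eq] at h1 h2
  obtain ⟨i, hi⟩ := D.mem_zpowers h1
  obtain ⟨j, hj⟩ := D.mem_zpowers h2
  rw [← hk, inv_mul_eq_iff_eq_mul.1 hi, inv_mul_eq_iff_eq_mul.1 hj, D.pow_central _ (D.Q_le ha₀),
    D.pow_central _ (D.Q_le hb₀)]
  set p := D.z ^ i.val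
  set q := D.z ^ j.val
  have hp : ∀ x ∈ D.C, x * p = p * x := fun x hx => D.pow_central _ hx
  have hq : ∀ x ∈ D.C, x * q = q * x := fun x hx => D.pow_central _ hx
  have hp0 : p ∈ D.C := Subgroup.pow_mem _ D.z_mem_C _
  simp only [commutatorElement_def, mul_inv_rev]
  have e1 : p * a₀ * (q * b₀) = q * (p * (a₀ * b₀)) := by
    rw [← mul_assoc, hq _ (mul_mem hp0 (D.Q_le ha₀))]; simp only [mul_assoc]
  have e2 : q * b₀ * (p * a₀) = q * (p * (b₀ * a₀)) := by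
    rw [mul_assoc, ← mul_assoc b₀, hp _ (D.Q_le hb₀)]; simp only [mul_assoc]
  calc p * a₀ * (q * b₀) * (a₀⁻¹ * p⁻¹) * (b₀⁻¹ * q⁻¹) = p * a₀ * (q * b₀) * (q * b₀ * (p * a₀))⁻¹ := by
        group
    _ = q * (p * (a₀ * b₀)) * (q * (p * (b₀ * a₀)))⁻¹ := by rw [e1, e2]
    _ = q * p * (a₀ * b₀ * a₀⁻¹ * b₀⁻¹) * (q * p)⁻¹ := by group
    _ = a₀ * b₀ * a₀⁻¹ * b₀⁻¹ := by
      rw [D.zpowers_central (by simpa [commutatorElement_def] using D.comm a₀ ha₀ b₀ hb₀)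
        (mul_mem (Subgroup.pow_mem _ D.z_mem_C _) hp0), mul_inv_cancel_right]

/-- The value of the form. -/
noncomputable def bval (v w : D.V) : ZMod 3 := (D.exists_comm v w).choose

theorem bval_spec {a b : G} (ha : a ∈ D.Q) (hb : b ∈ D.Q) :
    ⁅a, b⁆ = D.z ^ (D.bval (D.cl a ha) (D.cl b hb)).val :=
  (D.exists_comm _ _).choose_spec a ha b hb rfl rfl

theorem bval_add_left (u v w : D.V) : D.bval (u + v) w = D.bval u w + D.bval v w := by
  obtain ⟨a, ha, rfl⟩ := D.cl_surj u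
  obtain ⟨b, hb, rfl⟩ := D.cl_surj v
  obtain ⟨c, hc, rfl⟩ := D.cl_surj w
  refine D.pow_inj ?_
  rw [← D.cl_mul, D.pow_add', ← D.bval_spec, ← D.bval_spec, ← D.bval_spec]
  have h : ⁅a * b, c⁆ = a * ⁅b, c⁆ * a⁻¹ * ⁅a, c⁆ := by simp only [commutatorElement_def]; group
  rw [h, D.conj_zpowers (D.Q_le ha) (D.comm b hb c hc),
    D.zpowers_central (D.comm a ha c hc) (D.Q_le (D.zpowers_le (D.comm b hb c hc)))]

theorem bval_swap (v w : D.V) : D.bval w v = -D.bval v w := by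
  obtain ⟨a, ha, rfl⟩ := D.cl_surj v
  obtain ⟨b, hb, rfl⟩ := D.cl_surj w
  rw [eq_neg_iff_add_eq_zero]
  refine D.pow_inj ?_
  rw [D.pow_add', ← D.bval_spec, ← D.bval_spec, ZMod.val_zero, pow_zero, ← commutatorElement_inv,
    inv_mul_cancel]

theorem bval_add_right (u v w : D.V) : D.bval u (v + w) = D.bval u v + D.bval u w := by
  rw [D.bval_swap, D.bval_add_left, D.bval_swap v u, D.bval_swap w u, neg_add]

/-- The commutator form. -/
noncomputable def form : D.V →+ D.V →+ ZMod 3 :=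
  AddMonoidHom.mk' (fun v => AddMonoidHom.mk' (D.bval v) (D.bval_add_right v))
    fun v w => AddMonoidHom.ext fun x => D.bval_add_left v w x

theorem form_spec {a b : G} (ha : a ∈ D.Q) (hb : b ∈ D.Q) :
    ⁅a, b⁆ = D.z ^ (D.form (D.cl a ha) (D.cl b hb)).val := D.bval_spec ha hb

theorem form_eq_zero {a b : G} (ha : a ∈ D.Q) (hb : b ∈ D.Q) :
    D.form (D.cl a ha) (D.cl b hb) = 0 ↔ a * b = b * a := by
  rw [← commutatorElement_eq_one_iff_mul_comm, D.form_spec ha hb]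
  constructor
  · intro h; rw [h, ZMod.val_zero, pow_zero]
  · intro h; exact D.pow_inj (by rw [h, ZMod.val_zero, pow_zero])

theorem form_cj (g : D.C) (v w : D.V) : D.form (D.cj g v) (D.cj g w) = D.form v w := by
  obtain ⟨a, ha, rfl⟩ := D.cl_surj v
  obtain ⟨b, hb, rfl⟩ := D.cl_surj w
  refine D.pow_inj ?_
  rw [D.cj_mk, D.cj_mk, ← D.form_spec, ← D.form_spec,
    show ⁅(g : G) * a * (g : G)⁻¹, (g : G) * b * (g : G)⁻¹⁆ = (g : G) * ⁅a, b⁆ * (g : G)⁻¹ by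
      simp only [commutatorElement_def]; group,
    D.conj_zpowers g.2 (D.comm a ha b hb)]

theorem form_rho (A : S2) (v w : D.V) : D.form (D.rho A v) (D.rho A w) = D.form v w := by
  obtain ⟨g, rfl⟩ := D.pi_surj A
  rw [D.rho_pi, D.rho_pi, D.form_cj]

theorem form_nondeg (v : D.V) (h : ∀ w, D.form v w = 0) : v = 0 := by
  obtain ⟨a, ha, rfl⟩ := D.cl_surj v
  exact D.cl_eq_zero.2 (D.center a ha fun b hb => (D.form_eq_zero ha hb).1 (h _))

theorem form_alt (v : D.V) : D.form v v = 0 := by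
  obtain ⟨a, ha, rfl⟩ := D.cl_surj v
  exact (D.form_eq_zero ha ha).2 rfl

/-- The module attached to an element of order three of the quotient. -/
theorem exists_smod {σ : S2} (h3 : σ * σ * σ = 1) (h1 : σ ≠ 1) : ∃ M : SMod D.V,
    M.S = D.rho σ ∧ M.B = D.form ∧ ∃ ι, M.I = D.rho ι ∧ M.J = D.rho (σ * ι * σ⁻¹) ∧
      ι * ι = ng ∧ σ * ι * σ⁻¹ * ι = ng * (ι * (σ * ι * σ⁻¹)) := by
  obtain ⟨ι, e1, e2, e3, e4⟩ := exists_quat σ h3 h1
  refine ⟨{
    I := D.rho ι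
    J := D.rho (σ * ι * σ⁻¹)
    S := D.rho σ
    B := D.form
    three := D.three
    II := fun a => by rw [← D.rho_mul, e1, D.rho_ng]
    JJ := fun a => by rw [← D.rho_mul, e2, D.rho_ng]
    JI := fun a => by rw [← D.rho_mul, e3, D.rho_mul, D.rho_ng, D.rho_mul]
    SI := fun a => by rw [← D.rho_mul, ← D.rho_mul, inv_mul_cancel_right]
    SJ := fun a => by
      rw [← D.rho_mul, ← D.rho_mul, ← D.rho_mul]
      congr 2
      calc σ * (σ * ι * σ⁻¹) = σ * (σ * ι * σ⁻¹) * σ⁻¹ * σ := (inv_mul_cancel_right _ _).symm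
        _ = _ := by rw [e4, mul_assoc ι]
    SSS := fun a => by rw [← D.rho_mul, ← D.rho_mul, h3, D.rho_one]
    alt := D.form_alt
    nondeg := D.form_nondeg
    BI := D.form_rho _
    BJ := D.form_rho _
    BS := D.form_rho _ }, rfl, rfl, ι, rfl, rfl, e1, e3⟩

end Cfg

end Cfsg.Agent.PSLFourThree.Front
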