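/-
The elementary abelian subgroup attached to a conjugate of `z` in `Q` (piece C of S3373).

* `Cfg.exists_plane`: `Q ∩ Qᵍ` is a normal elementary abelian subgroup of order 27 of the centralizer
  with a normal abelian supplement in `Q`
-/
import Cfsg.Agent.Lib.PSLFourThree.FrontCfg

set_option autoImplicit false
set_option maxRecDepth 100000

namespace Cfsg.Agent.PSLFourThree.Front

open scoped commutatorElement

theorem comm_cube : ∀ A B : S2, A * A * A = 1 → B * B * B = 1 →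
    A * B * A⁻¹ * B⁻¹ = 1 ∨ A * B * A⁻¹ * B⁻¹ = ng ∨
      A * B * A⁻¹ * B⁻¹ * (A * B * A⁻¹ * B⁻¹) = ng := by decide +kernel

theorem commuting_cube : ∀ A B : S2, A * A * A = 1 → B * B * B = 1 → A ≠ 1 → A * B = B * A →
    B = 1 ∨ B = A ∨ B = A * A := by decide +kernel

theorem stab_cases : ∀ A : S2, A * A * A = 1 ∨ A = ng ∨ A * A = ng ∨ A * A * A = ng := by
  decide +kernel

theorem eight_three : ∀ σ ι : S2, σ * σ * σ = 1 → σ ≠ 1 → ι * ι = ng →
    σ * ι * σ⁻¹ * ι = ng * (ι * (σ * ι * σ⁻¹)) → ∀ A : S2,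
    ∃ B ∈ [1, ι, σ * ι * σ⁻¹, ι * (σ * ι * σ⁻¹)], ∃ s ∈ [1, σ, σ * σ],
      A = B * s ∨ A = ng * (B * s) := by decide +kernel

namespace Cfg

variable {G : Type*} [Group G] (D : Cfg G)

theorem commutator_conj (g a b : G) : ⁅g * a * g⁻¹, g * b * g⁻¹⁆ = g * ⁅a, b⁆ * g⁻¹ := by
  simp only [commutatorElement_def]; group

theorem smul_cl (k : ℕ) {a : G} (ha : a ∈ D.Q) :
    k • D.cl a ha = D.cl (a ^ k) (D.Q.pow_mem ha k) := by
  induction k with
  | zero => rw [zero_smul, eq_comm, D.cl_eq_zero]; simp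
  | succ k ih => rw [succ_nsmul, ih, ← D.cl_mul]; simp only [pow_succ]

theorem form_smul (v w : D.V) (k : ZMod 3) : D.form v (k.val • w) = k * D.form v w := by
  rw [map_nsmul, nsmul_eq_mul, ZMod.natCast_val, ZMod.cast_id', id]

/-- Two elements of the orthogonal space of a vector with nonzero form. -/
theorem exists_pair {u : D.V} (hu : u ≠ 0) :
    ∃ v w, D.form u v = 0 ∧ D.form u w = 0 ∧ D.form v w = 1 := by
  obtain ⟨v₀, hv₀⟩ : ∃ v₀, D.form u v₀ = 1 := by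
    by_contra h
    push Not at h
    refine hu (D.form_nondeg u fun w => ?_)
    by_contra hw
    refine h ((D.form u w).val • w) ?_
    rw [D.form_smul]
    revert hw; generalize D.form u w = x; revert x; decide
  by_contra h
  push Not at h
  have hzero : ∀ v w, D.form u v = 0 → D.form u w = 0 → D.form v w = 0 := by
    intro v w hv hw
    by_contra hne
    refine h v ((D.form v w).val • w) hv (by rw [D.form_smul, hw, mul_zero]) ?_
    rw [D.form_smul]
    revert hne; generalize D.form v w = x; revert x; decide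
  have hline : ∀ v, D.form u v = 0 → v = (D.form v v₀).val • u := by
    intro v hv
    refine sub_eq_zero.1 (D.form_nondeg _ fun x => ?_)
    set t := D.form u x
    have hx : D.form u (x - t.val • v₀) = 0 := by rw [map_sub, D.form_smul, hv₀, mul_one, sub_self]
    have h1 := hzero v _ hv hx
    rw [map_sub, D.form_smul, sub_eq_zero] at h1
    rw [map_sub, AddMonoidHom.sub_apply, h1, map_nsmul, AddMonoidHom.nsmul_apply, nsmul_eq_mul,
      ZMod.natCast_val, ZMod.cast_id', id]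
    ring
  have hsurj : Function.Surjective fun p : ZMod 3 × ZMod 3 => p.1.val • u + p.2.val • v₀ := by
    intro v
    set t := D.form u v
    refine ⟨(D.form (v - t.val • v₀) v₀, t), ?_⟩
    simp only
    rw [← hline _ (by rw [map_sub, D.form_smul, hv₀, mul_one, sub_self]), sub_add_cancel]
  have := Nat.card_le_card_of_surjective _ hsurj
  rw [Nat.card_prod, Nat.card_zmod, D.card_V] at this
  norm_num at this

/-- A conjugate of `z` in `Q` pulls `z` into `Q`. -/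
theorem back_mem {g : G} (hy : g * D.z * g⁻¹ ∈ D.Q) (hyz : g * D.z * g⁻¹ ∉ Subgroup.zpowers D.z) :
    g⁻¹ * D.z * g ∈ D.Q ∧ g⁻¹ * D.z * g ∉ Subgroup.zpowers D.z := by
  have hu : D.cl _ hy ≠ 0 := fun h => hyz (D.cl_eq_zero.1 h)
  obtain ⟨v, w, hv, hw, hvw⟩ := D.exists_pair hu
  obtain ⟨a, ha, rfl⟩ := D.cl_surj v
  obtain ⟨b, hb, rfl⟩ := D.cl_surj w
  have hab : ⁅a, b⁆ = D.z := by
    rw [D.form_spec ha hb, hvw, ZMod.val_one, pow_one]
  have hC : ∀ a, a ∈ D.Q → g * D.z * g⁻¹ * a = a * (g * D.z * g⁻¹) → g⁻¹ * a * g ∈ D.C :=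
    fun a _ h => Subgroup.mem_centralizer_singleton_iff.2 (by
      calc g⁻¹ * a * g * D.z = g⁻¹ * (a * (g * D.z * g⁻¹)) * g := by group
        _ = g⁻¹ * (g * D.z * g⁻¹ * a) * g := by rw [h]
        _ = D.z * (g⁻¹ * a * g) := by group)
  have ha' := hC a ha ((D.form_eq_zero hy ha).1 hv)
  have hb' := hC b hb ((D.form_eq_zero hy hb).1 hw)
  have e : g⁻¹ * D.z * g = ⁅g⁻¹ * a * g, g⁻¹ * b * g⁆ := by
    simp only [← hab, commutatorElement_def]; group
  refine ⟨?_, fun h => hyz ?_⟩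
  · have hcube : ∀ c : D.C, (c : G) * c * c = 1 → D.pi c * D.pi c * D.pi c = 1 := fun c hc => by
      rw [← map_mul, ← map_mul, show c * c * c = 1 from Subtype.ext hc, map_one]
    have h3 : ∀ c, c ∈ D.Q → g⁻¹ * c * g * (g⁻¹ * c * g) * (g⁻¹ * c * g) = 1 := fun c hc => by
      calc _ = g⁻¹ * (c * c * c) * g := by group
        _ = 1 := by rw [D.exp c hc]; group
    set A : D.C := ⟨_, ha'⟩
    set B : D.C := ⟨_, hb'⟩
    have h1 := comm_cube (D.pi A) (D.pi B) (hcube A (h3 a ha)) (hcube B (h3 b hb))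
    have h2 : (g⁻¹ * D.z * g) = ((⁅A, B⁆ : D.C) : G) := e
    rw [h2]
    refine (D.pi_ker _).1 ?_
    have h4 := hcube ⁅A, B⁆ (by rw [← h2]; exact h3 _ D.z_mem)
    rw [commutatorElement_def, map_mul, map_mul, map_mul, map_inv, map_inv] at h4 ⊢
    rcases h1 with r | r | r
    · exact r
    · rw [r] at h4 ⊢
      exact absurd h4 (by decide +kernel)
    · rw [r] at h4
      have := congrArg (fun X => ng * X) h4
      simp only [← mul_assoc, ng_ne.2, one_mul, mul_one] at this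
      rw [this] at r
      exact absurd r (by decide +kernel)
  · obtain ⟨k, hk⟩ := Subgroup.mem_zpowers_iff.1 h
    have hk3 : ¬ (3 : ℤ) ∣ k := by
      rintro ⟨m, rfl⟩
      rw [zpow_mul, show D.z ^ (3 : ℤ) = 1 by
        rw [show (3 : ℤ) = ((3 : ℕ) : ℤ) from rfl, zpow_natCast, pow_succ, pow_two, D.z_cube],
        one_zpow] at hk
      refine D.z_ne ?_
      calc D.z = g * (g⁻¹ * D.z * g) * g⁻¹ := by group
        _ = 1 := by rw [← hk]; group
    obtain ⟨i, hi⟩ : ∃ i : ℤ, (k * i) % 3 = 1 := ⟨k, by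
      have : k % 3 = 1 ∨ k % 3 = 2 := by omega
      rcases this with e | e <;> simp [Int.mul_emod, e]⟩
    have h1 : D.z ^ (k * i) = D.z := by
      rw [← zpow_mod_orderOf, D.orderOf_z]
      simp [hi]
    refine Subgroup.mem_zpowers_iff.2 ⟨i, ?_⟩
    calc D.z ^ i = (g * (g⁻¹ * D.z * g) * g⁻¹) ^ i := by group
      _ = g * D.z ^ (k * i) * g⁻¹ := by rw [conj_zpow, ← hk, zpow_mul]
      _ = g * D.z * g⁻¹ := by rw [h1]

/-- An element of the centralizer inverting a given element of `Q` outside `Z`. -/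
theorem exists_inverter {w : G} (hw : w ∈ D.Q) (hwz : w ∉ Subgroup.zpowers D.z) :
    ∃ t : D.C, D.pi t = ng ∧ (t : G) * w * (t : G)⁻¹ = w⁻¹ ∧
      ∀ a ∈ D.Q, (t : G) * a * (t : G)⁻¹ * a ∈ Subgroup.zpowers D.z := by
  obtain ⟨m, hm⟩ := D.mem_zpowers (D.t_inv w hw)
  obtain ⟨x, hx⟩ : ∃ x, D.form x (-D.cl w hw) = -m := by
    by_contra h
    push Not at h
    refine hwz ((D.cl_eq_zero (ha := hw)).1 (neg_eq_zero.1 (D.form_nondeg _ fun v => ?_)))
    by_contra hv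
    refine h ((D.form (-D.cl w hw) v * m).val • v) ?_
    rw [map_nsmul, AddMonoidHom.nsmul_apply, nsmul_eq_mul, ZMod.natCast_val, ZMod.cast_id', id,
      show D.form v (-D.cl w hw) = -D.form (-D.cl w hw) v from D.bval_swap _ _]
    have key : ∀ x m : ZMod 3, x ≠ 0 → x * m * -x = -m := by decide
    exact key _ m hv
  obtain ⟨r, hr, rfl⟩ := D.cl_surj x
  refine ⟨⟨r, D.Q_le hr⟩ * D.t, ?_, ?_, fun a ha => ?_⟩
  · rw [map_mul, D.t_pi, (D.pi_ker ⟨r, D.Q_le hr⟩).2 hr, one_mul]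
  · have hc : ⁅r, w⁻¹⁆ = D.z ^ (-m).val := by rw [D.form_spec hr (D.Q.inv_mem hw), D.cl_inv hw, hx]
    have e : (D.t : G) * w * (D.t : G)⁻¹ = D.z ^ m.val * w⁻¹ := by rw [← hm]; group
    show r * (D.t : G) * w * (r * (D.t : G))⁻¹ = w⁻¹
    calc r * (D.t : G) * w * (r * (D.t : G))⁻¹ = r * (D.z ^ m.val * w⁻¹) * r⁻¹ := by rw [← e]; group
      _ = D.z ^ m.val * (⁅r, w⁻¹⁆ * w⁻¹) := by
        rw [← mul_assoc, D.pow_central _ (D.Q_le hr), commutatorElement_def]; group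
      _ = w⁻¹ := by rw [hc, ← mul_assoc, ← D.pow_add', add_neg_cancel, ZMod.val_zero, pow_zero, one_mul]
  · have h1 := D.conj_zpowers (D.Q_le hr) (D.t_inv a ha)
    have e : r * (D.t : G) * a * (r * (D.t : G))⁻¹ * a =
        r * ((D.t : G) * a * (D.t : G)⁻¹ * a) * r⁻¹ * ⁅r, a⁻¹⁆ := by
      simp only [commutatorElement_def]; group
    show r * (D.t : G) * a * (r * (D.t : G))⁻¹ * a ∈ _
    rw [e, h1]
    exact mul_mem (D.t_inv a ha) (D.comm r hr _ (D.Q.inv_mem ha))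

/-- A quadratic element of the stabiliser of a conjugate of `z` in `Q`. -/
theorem exists_quadratic {g : G} (hy : g * D.z * g⁻¹ ∈ D.Q)
    (hyz : g * D.z * g⁻¹ ∉ Subgroup.zpowers D.z) :
    ∃ x : D.C, g⁻¹ * (x : G) * g ∈ D.Q ∧ D.pi x ≠ 1 ∧
      (x : G) * (g * D.z * g⁻¹) = g * D.z * g⁻¹ * x ∧
      ∃ v, D.rho (D.pi x) v = v + D.cl _ hy ∧ D.form v (D.cl _ hy) = 0 := by
  set y := g * D.z * g⁻¹ with hydef
  obtain ⟨hw, hwz⟩ := D.back_mem hy hyz
  set w := g⁻¹ * D.z * g with hwdef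
  set u := D.cl y hy with hudef
  have hu : u ≠ 0 := fun h => hyz (D.cl_eq_zero.1 h)
  obtain ⟨v₁, v₂, hv₁, hv₂, hv⟩ := D.exists_pair (u := D.cl w hw) (fun h => hwz (D.cl_eq_zero.1 h))
  obtain ⟨a, ha, rfl⟩ := D.cl_surj v₁
  obtain ⟨b, hb, rfl⟩ := D.cl_surj v₂
  have hab : ⁅g * a * g⁻¹, g * b * g⁻¹⁆ = y := by
    rw [commutator_conj, D.form_spec ha hb, hv, ZMod.val_one, pow_one]
  have lift : ∀ a, ∀ ha : a ∈ D.Q, D.form (D.cl w hw) (D.cl a ha) = 0 →
      g * a * g⁻¹ ∈ D.C ∧ g * a * g⁻¹ * y = y * (g * a * g⁻¹) := fun a ha h =>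
    ⟨Subgroup.mem_centralizer_singleton_iff.2 (by
      calc g * a * g⁻¹ * D.z = g * (a * w) * g⁻¹ := by rw [hwdef]; group
        _ = g * (w * a) * g⁻¹ := by rw [(D.form_eq_zero hw ha).1 h]
        _ = _ := by rw [hwdef]; group),
      by rw [hydef]
         calc g * a * g⁻¹ * (g * D.z * g⁻¹) = g * (a * D.z) * g⁻¹ := by group
          _ = g * (D.z * a) * g⁻¹ := by rw [D.comm_z (D.Q_le ha)]
          _ = _ := by group⟩
  obtain ⟨haC, hay⟩ := lift a ha hv₁
  obtain ⟨hbC, hby⟩ := lift b hb hv₂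
  have hfix : ∀ c : D.C, (c : G) * y = y * c → D.rho (D.pi c) u = u := fun c hc => by
    rw [D.rho_pi, hudef, D.cj_mk, D.cl_eq, hc, mul_inv_cancel_right, inv_mul_cancel]
    exact one_mem _
  have hcube : ∀ c ∈ D.Q, ∀ h : g * c * g⁻¹ ∈ D.C,
      D.pi ⟨_, h⟩ * D.pi ⟨_, h⟩ * D.pi ⟨_, h⟩ = 1 := fun c hc h => by
    rw [← map_mul, ← map_mul]
    convert map_one D.pi
    refine Subtype.ext ?_
    calc g * c * g⁻¹ * (g * c * g⁻¹) * (g * c * g⁻¹) = g * (c * c * c) * g⁻¹ := by group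
      _ = 1 := by rw [D.exp c hc]; group
  -- either element may serve
  obtain ⟨x, x', hxQ, hx'3, hx1, hxy, hx'y, hcom⟩ : ∃ x x' : D.C, g⁻¹ * (x : G) * g ∈ D.Q ∧
      D.pi x' * D.pi x' * D.pi x' = 1 ∧ D.pi x ≠ 1 ∧ (x : G) * y = y * x ∧ (x' : G) * y = y * x' ∧
      (⁅(x : G), (x' : G)⁆ = y ∨ ⁅(x : G), (x' : G)⁆ = y⁻¹) := by
    by_cases h1 : D.pi ⟨_, haC⟩ = 1
    · refine ⟨⟨_, hbC⟩, ⟨_, haC⟩, by simpa [mul_assoc] using hb, hcube a ha haC, fun h2 => hyz ?_,
        hby, hay, Or.inr ?_⟩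
      · rw [← hab]
        exact D.comm _ ((D.pi_ker _).1 h1) _ ((D.pi_ker _).1 h2)
      · show ⁅g * b * g⁻¹, g * a * g⁻¹⁆ = y⁻¹
        rw [← hab, commutatorElement_inv]
    · exact ⟨⟨_, haC⟩, ⟨_, hbC⟩, by simpa [mul_assoc] using ha, hcube b hb hbC, h1, hay, hby,
        Or.inl hab⟩
  have hx3 : D.pi x * D.pi x * D.pi x = 1 := by
    have := D.exp _ hxQ
    rw [← map_mul, ← map_mul]
    convert map_one D.pi
    refine Subtype.ext ?_
    calc (x : G) * x * x = g * (g⁻¹ * x * g * (g⁻¹ * x * g) * (g⁻¹ * x * g)) * g⁻¹ := by group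
      _ = 1 := by rw [this]; group
  have hcomm : D.pi x * D.pi x' = D.pi x' * D.pi x := by
    have hng : D.rho ng u ≠ u := by
      rw [D.rho_ng]
      intro h
      refine hu ?_
      have := D.three u
      rwa [show u + u = 0 by nth_rewrite 1 [← h]; exact neg_add_cancel u, zero_add] at this
    have hfixc : D.rho (D.pi x * D.pi x' * (D.pi x)⁻¹ * (D.pi x')⁻¹) u = u := by
      have hinv : ∀ c : D.C, (c : G) * y = y * c → D.rho (D.pi c)⁻¹ u = u := fun c hc => by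
        rw [← map_inv]
        exact hfix c⁻¹ (Commute.inv_left (hc : Commute (c : G) y))
      rw [D.rho_mul, D.rho_mul, D.rho_mul, hinv x' hx'y, hinv x hxy, hfix x' hx'y, hfix x hxy]
    rcases comm_cube _ _ hx3 hx'3 with r | r | r
    · exact mul_inv_eq_iff_eq_mul.1 (mul_inv_eq_one.1 r)
    · exact absurd (r ▸ hfixc) hng
    · refine absurd ?_ hng
      rw [← r, D.rho_mul, hfixc, hfixc]
  obtain ⟨n, hn⟩ : ∃ n : ℕ, D.pi x' = D.pi x ^ n := by
    rcases commuting_cube _ _ hx3 hx'3 hx1 hcomm with r | r | r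
    · exact ⟨0, r⟩
    · exact ⟨1, by rw [pow_one, r]⟩
    · exact ⟨2, by rw [pow_two, r]⟩
  have hq : ((x ^ n)⁻¹ * x' : D.C).1 ∈ D.Q :=
    (D.pi_ker _).1 (by rw [map_mul, map_inv, map_pow, hn, inv_mul_cancel])
  set q : G := ((x ^ n)⁻¹ * x' : D.C).1 with hqdef
  have hqy : q * y = y * q :=
    (Commute.mul_left ((Commute.pow_left (hxy : Commute (x : G) y) n).inv_left) hx'y).eq
  have hcq : ⁅(x : G), (x' : G)⁆ = (x : G) ^ n * ⁅(x : G), q⁆ * ((x : G) ^ n)⁻¹ := by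
    have : (x' : G) = (x : G) ^ n * q := by simp [hqdef, ← mul_assoc]
    rw [this]
    simp only [commutatorElement_def]
    group
  have hyn : ∀ e : G, (x : G) ^ n * e * ((x : G) ^ n)⁻¹ = y ∨
      (x : G) ^ n * e * ((x : G) ^ n)⁻¹ = y⁻¹ → e = y ∨ e = y⁻¹ := by
    intro e he
    have hcy : Commute ((x : G) ^ n) y := Commute.pow_left hxy n
    rcases he with he | he
    · left; rw [mul_inv_eq_iff_eq_mul, ← hcy.eq] at he; exact mul_left_cancel he
    · right; rw [mul_inv_eq_iff_eq_mul, ← hcy.inv_right.eq] at he; exact mul_left_cancel he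
  have hxq : (x : G) * q * (x : G)⁻¹ ∈ D.Q := D.conj_mem x.2 hq
  have hval : D.rho (D.pi x) (D.cl q hq) - D.cl q hq =
      D.cl ⁅(x : G), q⁆ (by rw [commutatorElement_def]; exact D.Q.mul_mem hxq (D.Q.inv_mem hq)) := by
    rw [D.rho_pi, D.cj_mk, sub_eq_add_neg, ← D.cl_inv, ← D.cl_mul]
    simp only [commutatorElement_def]
  have hperp : D.form (D.cl q hq) u = 0 := (D.form_eq_zero hq hy).2 hqy
  refine ⟨x, hxQ, hx1, hxy, ?_⟩
  rcases hyn _ (hcom.imp (fun h => hcq.symm.trans h) (fun h => hcq.symm.trans h)) with e | e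
  · refine ⟨D.cl q hq, ?_, hperp⟩
    rw [add_comm, ← sub_eq_iff_eq_add, hval]
    simp only [e, hudef]
  · refine ⟨-D.cl q hq, ?_, by rw [map_neg, AddMonoidHom.neg_apply, hperp, neg_zero]⟩
    rw [map_neg, add_comm, ← sub_eq_iff_eq_add, neg_sub_neg]
    have : D.rho (D.pi x) (D.cl q hq) - D.cl q hq = -u := by
      rw [hval, hudef, ← D.cl_inv]
      simp only [e]
    rw [← neg_sub, this, neg_neg]

end Cfg

end Cfsg.Agent.PSLFourThree.Front
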