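/-
An irreducible nontrivial factor of `SL(2,3)` on a 3-group (piece C of S3373).

* `factor`: it has order at least 9, and either the central involution inverts it or the order is at least 27
-/
import Cfsg.Agent.Lib.PSLFourThree.FrontCfg
import Cfsg.Agent.Lib.PSLFourThree.FrontPlane

set_option autoImplicit false
set_option maxRecDepth 100000

namespace Cfsg.Agent.PSLFourThree.Front

theorem three_cubes' : ∀ A : S2, ∃ B C E : S2, B * B * B = 1 ∧ C * C * C = 1 ∧ E * E * E = 1 ∧
    A = B * C * E := by decide +kernel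

theorem exists_order_three : ∃ σ : S2, σ * σ * σ = 1 ∧ σ ≠ 1 := by decide +kernel

theorem factor {D : Type*} [CommGroup D] [Finite D] (h3 : ∀ d : D, d * d * d = 1)
    (α : S2 →* MulAut D)
    (hirr : ∀ F : Subgroup D, (∀ A : S2, ∀ d ∈ F, α A d ∈ F) → F = ⊥ ∨ F = ⊤) (hα : α ≠ 1) :
    9 ≤ Nat.card D ∧ ((∀ d, α ng d = d⁻¹) ∨ 27 ≤ Nat.card D) := by
  classical
  have : Fact (Nat.Prime 3) := ⟨Nat.prime_three⟩
  have hsq : ∀ d : D, d * d = 1 → d = 1 := fun d hd => by
    have := h3 d
    rwa [hd, one_mul] at this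
  have hP : IsPGroup 3 D := fun d => ⟨1, by rw [pow_one, pow_succ, pow_two, h3]⟩
  obtain ⟨k, hk⟩ := IsPGroup.iff_card.1 hP
  have hcard9 : 9 ≤ Nat.card D := by
    by_contra hlt
    push Not at hlt
    have hk1 : k = 0 ∨ k = 1 := by
      rcases (show k = 0 ∨ k = 1 ∨ 2 ≤ k by omega) with h | h | h
      · exact Or.inl h
      · exact Or.inr h
      · have := Nat.pow_le_pow_right (show 0 < 3 by norm_num) h
        omega
    refine hα (MonoidHom.ext fun A => ?_)
    have hcube : ∀ B : S2, B * B * B = 1 → α B = 1 := by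
      intro B hB
      ext d : 1
      show α B d = d
      by_cases hd : d = 1
      · rw [hd, map_one]
      rcases hk1 with rfl | rfl
      · have : Subsingleton D := (Nat.card_eq_one_iff_unique.1 (by rw [hk, pow_zero])).1
        exact Subsingleton.elim _ _
      · have hdo : orderOf d = 3 :=
          orderOf_eq_prime (by rw [pow_succ, pow_two, h3]) hd
        have htop : Subgroup.zpowers d = ⊤ :=
          Subgroup.eq_top_of_card_eq _ (by rw [Nat.card_zpowers, hdo, hk, pow_one])
        have hcases : ∀ e : D, e = 1 ∨ e = d ∨ e = d⁻¹ := fun e => by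
          obtain ⟨i, hi⟩ := Subgroup.mem_zpowers_iff.1 (htop ▸ Subgroup.mem_top e)
          rw [← zpow_mod_orderOf, hdo] at hi
          have : i % 3 = 0 ∨ i % 3 = 1 ∨ i % 3 = 2 := by omega
          rcases this with h | h | h <;> rw [show ((3 : ℕ) : ℤ) = 3 from rfl, h] at hi
          · exact Or.inl (by simpa using hi.symm)
          · exact Or.inr (Or.inl (by simpa using hi.symm))
          · refine Or.inr (Or.inr (eq_inv_of_mul_eq_one_left ?_))
            rw [← hi, show (2 : ℤ) = ((2 : ℕ) : ℤ) from rfl, zpow_natCast, pow_two, h3]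
        have hB3 : α B (α B (α B d)) = d := by
          rw [← MulAut.mul_apply, ← MulAut.mul_apply, ← map_mul, ← map_mul, hB, map_one, MulAut.one_apply]
        rcases hcases (α B d) with h | h | h
        · exact absurd (by rwa [← map_one (α B), (α B).injective.eq_iff] at h) hd
        · exact h
        · exfalso
          simp only [h, map_inv, inv_inv] at hB3
          exact hd (hsq d (eq_inv_iff_mul_eq_one.1 hB3.symm))
    obtain ⟨B, C, E, hB, hC, hE, rfl⟩ := three_cubes' A
    rw [map_mul, map_mul, hcube B hB, hcube C hC, hcube E hE]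
    rfl
  refine ⟨hcard9, ?_⟩
  set τ := α ng with hτ
  have hττ : ∀ d, τ (τ d) = d := fun d => by
    rw [← MulAut.mul_apply, hτ, ← map_mul, ng_ne.2, map_one, MulAut.one_apply]
  let F : Subgroup D :=
    { carrier := {d | τ d = d}
      one_mem' := map_one τ
      mul_mem' := fun {a b} (ha : τ a = a) (hb : τ b = b) => by
        show τ (a * b) = a * b
        rw [map_mul, ha, hb]
      inv_mem' := fun {a} (ha : τ a = a) => by
        show τ a⁻¹ = a⁻¹
        rw [map_inv, ha] }
  rcases hirr F (fun A d (hd : τ d = d) => by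
      show τ (α A d) = α A d
      rw [hτ, ← MulAut.mul_apply, ← map_mul, ← ng_central, map_mul, MulAut.mul_apply, ← hτ, hd]) with hF | hF
  · refine Or.inl fun d => ?_
    have h1 : d * τ d ∈ F := by
      show τ (d * τ d) = d * τ d
      rw [map_mul, hττ, mul_comm]
    rw [hF, Subgroup.mem_bot] at h1
    exact eq_inv_of_mul_eq_one_right h1
  refine Or.inr ?_
  have hτ1 : ∀ d, τ d = d := fun d => (hF ▸ Subgroup.mem_top d : d ∈ F)
  obtain ⟨σ, hσ3, hσ1⟩ := exists_order_three
  obtain ⟨ι, e1, e2, e3, e4⟩ := exists_quat σ hσ3 hσ1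
  set a : D → D := fun d => α ι d with ha
  set b : D → D := fun d => α (σ * ι * σ⁻¹) d with hb
  set c : D → D := fun d => α (ι * (σ * ι * σ⁻¹)) d with hc
  set s : D → D := fun d => α σ d with hs
  have hmul : ∀ A B : S2, ∀ d, α A (α B d) = α (A * B) d := fun A B d => by
    rw [map_mul, MulAut.mul_apply]
  have haa : ∀ d, a (a d) = d := fun d => by simp only [ha, hmul, e1, ← hτ, hτ1]
  have hbb : ∀ d, b (b d) = d := fun d => by simp only [hb, hmul, e2, ← hτ, hτ1]
  have hab : ∀ d, a (b d) = c d := fun d => by simp only [ha, hb, hc, hmul]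
  have hba : ∀ d, b (a d) = c d := fun d => by
    simp only [ha, hb, hc, hmul]
    rw [e3, ← hmul, ← hτ, hτ1]
  have hcb : ∀ d, c (b d) = a d := fun d => by rw [← hab, hbb]
  have hsa : ∀ d, s (a d) = b (s d) := fun d => by simp only [ha, hb, hs, hmul, inv_mul_cancel_right]
  have hsb : ∀ d, s (b d) = c (s d) := fun d => by
    have e : σ * (σ * ι * σ⁻¹) = ι * (σ * ι * σ⁻¹) * σ := by rw [← e4, inv_mul_cancel_right]
    simp only [hb, hc, hs, hmul]
    rw [e]
  have hsc : ∀ d, s (c d) = a (s d) := fun d => by rw [← hab d, hsa, hsb, ← hba (s d), hbb]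
  have hmd : ∀ d e, a (d * e) = a d * a e := fun d e => map_mul (α ι) d e
  by_cases hatriv : ∀ d, a d = d
  · exfalso
    have hbtriv : ∀ d, b d = d := fun d => by
      obtain ⟨d', rfl⟩ := (α σ).surjective d
      show b (s d') = s d'
      rw [← hsa, hatriv]
    let F' : Subgroup D :=
      { carrier := {d | s d = d}
        one_mem' := map_one (α σ)
        mul_mem' := fun {x y} (hx : s x = x) (hy : s y = y) => by
          show α σ (x * y) = x * y
          rw [map_mul]; exact congrArg₂ (· * ·) hx hy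
        inv_mem' := fun {x} (hx : s x = x) => by
          show α σ x⁻¹ = x⁻¹
          rw [map_inv]; exact congrArg (·⁻¹) hx }
    have hall : ∀ A : S2, ∀ d, α A d = d ∨ α A d = s d ∨ α A d = s (s d) := by
      intro A d
      obtain ⟨B, hB, t, ht, hA⟩ := eight_three σ ι hσ3 hσ1 e1 e3 A
      have hBt : α (B * t) d = α t d := by
        rw [← hmul]
        fin_cases hB
        · rw [map_one, MulAut.one_apply]
        · exact hatriv _
        · exact hbtriv _
        · show c _ = _
          rw [← hab, hbtriv, hatriv]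
      have hA' : α A d = α t d := by
        rcases hA with rfl | rfl
        · exact hBt
        · rw [← hmul, ← hτ, hτ1, hBt]
      fin_cases ht
      · exact Or.inl (by rw [hA', map_one, MulAut.one_apply])
      · exact Or.inr (Or.inl hA')
      · exact Or.inr (Or.inr (by rw [hA', ← hmul]))
    rcases hirr F' (fun A d (hd : s d = d) => by
        rcases hall A d with h | h | h <;> rw [h]
        · exact hd
        · rw [hd]; exact hd
        · rw [hd, hd]; exact hd) with hF' | hF'
    · -- a nontrivial fixed element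
      obtain ⟨d, hd⟩ : ∃ d : D, d ≠ 1 := by
        by_contra h
        push Not at h
        have : Subsingleton D := ⟨fun x y => by rw [h x, h y]⟩
        rw [Nat.card_eq_one_iff_unique.2 ⟨this, ⟨1⟩⟩] at hcard9
        omega
      have hsss : ∀ d, s (s (s d)) = d := fun d => by
        simp only [hs, hmul, ← mul_assoc]; rw [hσ3, map_one, MulAut.one_apply]
      have hfix : ∀ x, s x = x → x = 1 := fun x hx =>
        Subgroup.mem_bot.1 (hF' ▸ (hx : x ∈ F'))
      have hsm : ∀ x y, s (x * y) = s x * s y := fun x y => map_mul (α σ) x y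
      have hsi' : ∀ x, s x⁻¹ = (s x)⁻¹ := fun x => map_inv (α σ) x
      have h1 : s d * d⁻¹ ≠ 1 := fun h => hd (hfix d (mul_inv_eq_one.1 h))
      have h2 : s (s d * d⁻¹) * (s d * d⁻¹)⁻¹ ≠ 1 := fun h => h1 (hfix _ (mul_inv_eq_one.1 h))
      refine h2 (hfix _ (mul_inv_eq_one.1 ?_))
      have e : ∀ x, s (s x * x⁻¹) * (s x * x⁻¹)⁻¹ = s (s x) * ((s x)⁻¹ * (s x)⁻¹) * x := by
        intro x
        rw [hsm, hsi', mul_inv_rev, inv_inv]
        apply Additive.ofMul.injective
        simp only [ofMul_mul, ofMul_inv]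
        abel
      rw [e]
      simp only [hsm, hsi', hsss]
      calc _ = (s (s d) * s (s d) * s (s d))⁻¹ * (s d * s d * s d) := by
            apply Additive.ofMul.injective
            simp only [ofMul_mul, ofMul_inv]
            abel
        _ = 1 := by rw [h3, h3, inv_one, one_mul]
    · refine hα (MonoidHom.ext fun A => MulEquiv.ext fun d => ?_)
      have hsd : ∀ d, s d = d := fun d => (hF' ▸ Subgroup.mem_top d : d ∈ F')
      show α A d = d
      rcases hall A d with h | h | h <;> rw [h]
      · rw [hsd]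
      · rw [hsd, hsd]
  push Not at hatriv
  obtain ⟨d, hd⟩ := hatriv
  set u := d * (a d)⁻¹ with hu
  have hu1 : u ≠ 1 := fun h => hd (mul_inv_eq_one.1 h).symm
  have hau : a u = u⁻¹ := by
    rw [hu, hmd, show a (a d)⁻¹ = (a (a d))⁻¹ from map_inv (α ι) _, haa, mul_inv_rev, inv_inv]
  have hb' : ∀ x y, b (x * y) = b x * b y := fun x y => map_mul (α (σ * ι * σ⁻¹)) x y
  have hbi : ∀ x, b x⁻¹ = (b x)⁻¹ := fun x => map_inv (α (σ * ι * σ⁻¹)) x
  have hai : ∀ x, a x⁻¹ = (a x)⁻¹ := fun x => map_inv (α ι) x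
  have habu : a (b u) = (b u)⁻¹ := by rw [hab, ← hba, hau, hbi]
  obtain ⟨p, hp1, hpb, hpa⟩ : ∃ p, p ≠ 1 ∧ b p = p ∧ a p = p⁻¹ := by
    by_cases hv : u * b u = 1
    · have hbu : b u = u⁻¹ := eq_inv_of_mul_eq_one_right hv
      have hcu : c u = u := by rw [← hab, hbu, hai, hau, inv_inv]
      refine ⟨s (s u), fun h => hu1 ((α σ).injective ((α σ).injective (h.trans ?_))), ?_, ?_⟩
      · rw [map_one, map_one]
      · have := congrArg (fun x => s (s x)) hcu
        simp only [hsc, hsa] at this
        exact this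
      · have h := congrArg (fun x => s (s x)) hau
        simp only [hsa, hsb] at h
        rw [show s u⁻¹ = (s u)⁻¹ from map_inv (α σ) _, show s (s u)⁻¹ = (s (s u))⁻¹ from map_inv (α σ) _] at h
        have hbp : b (s (s u)) = s (s u) := by
          have := congrArg (fun x => s (s x)) hcu
          simp only [hsc, hsa] at this
          exact this
        rw [← hcb, hbp, h]
    · exact ⟨u * b u, hv, by rw [hb', hbb, mul_comm], by
        rw [hmd, hau, habu, ← mul_inv]⟩
  set q := s p with hq
  set r := s q with hr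
  have hsi : ∀ x, s x⁻¹ = (s x)⁻¹ := fun x => map_inv (α σ) x
  have hpc : c p = p⁻¹ := by rw [← hab, hpb, hpa]
  have hqc : c q = q := by rw [hq, ← hsb, hpb]
  have hqa : a q = q⁻¹ := by rw [hq, ← hsc, hpc, hsi]
  have hqb : b q = q⁻¹ := by rw [hq, ← hsa, hpa, hsi]
  have hra : a r = r := by rw [hr, ← hsc, hqc]
  have hrb : b r = r⁻¹ := by rw [hr, ← hsa, hqa, hsi]
  have hq1 : q ≠ 1 := fun h => hp1 ((α σ).injective (h.trans (map_one _).symm))
  have hr1 : r ≠ 1 := fun h => hq1 ((α σ).injective (h.trans (map_one _).symm))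
  let Φ : (Fin 3 → ZMod 3) → D := fun v => p ^ (v 0).val * q ^ (v 1).val * r ^ (v 2).val
  have hinj : Function.Injective Φ := by
    intro v w h
    have hsplit : ∀ x y z : ℤ, p ^ x * q ^ y * r ^ z = 1 → p ^ x = 1 ∧ q ^ y = 1 ∧ r ^ z = 1 := by
      intro x y z h
      have hza : ∀ e : D, ∀ n : ℤ, a (e ^ n) = a e ^ n := fun e n => map_zpow (α ι) e n
      have hzb : ∀ e : D, ∀ n : ℤ, b (e ^ n) = b e ^ n := fun e n => map_zpow (α (σ * ι * σ⁻¹)) e n
      have h1 := congrArg a h
      rw [hmd, hmd, hza, hza, hza, hpa, hqa, hra, show a 1 = 1 from map_one (α ι)] at h1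
      have hzr : r ^ z = 1 := hsq _ (by
        calc r ^ z * r ^ z = (p ^ x * q ^ y * r ^ z) * (p⁻¹ ^ x * q⁻¹ ^ y * r ^ z) := by
              rw [inv_zpow, inv_zpow, mul_mul_mul_comm, mul_mul_mul_comm (p ^ x), mul_inv_cancel,
                mul_inv_cancel, one_mul, one_mul]
          _ = 1 := by rw [h, h1, one_mul])
      rw [hzr, mul_one] at h
      have h2 := congrArg b h
      rw [hb', hzb, hzb, hpb, hqb, show b 1 = 1 from map_one (α (σ * ι * σ⁻¹))] at h2
      have hxp : p ^ x = 1 := hsq _ (by
        calc p ^ x * p ^ x = (p ^ x * q ^ y) * (p ^ x * q⁻¹ ^ y) := by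
              rw [inv_zpow, mul_mul_mul_comm, mul_inv_cancel, mul_one]
          _ = 1 := by rw [h, h2, one_mul])
      rw [hxp, one_mul] at h
      exact ⟨hxp, h, hzr⟩
    have h0 : p ^ (((v 0).val : ℤ) - (w 0).val) * q ^ (((v 1).val : ℤ) - (w 1).val) *
        r ^ (((v 2).val : ℤ) - (w 2).val) = 1 := by
      simp only [zpow_sub, zpow_natCast]
      calc _ = p ^ (v 0).val * q ^ (v 1).val * r ^ (v 2).val *
            (p ^ (w 0).val * q ^ (w 1).val * r ^ (w 2).val)⁻¹ := by
            apply Additive.ofMul.injective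
            simp only [ofMul_mul, ofMul_inv]
            abel
        _ = 1 := mul_inv_eq_one.2 h
    obtain ⟨k0, k1, k2⟩ := hsplit _ _ _ h0
    have key : ∀ x : D, x ≠ 1 → ∀ i j : ZMod 3, x ^ ((i.val : ℤ) - j.val) = 1 → i = j := by
      intro x hx i j e
      have ho : orderOf x = 3 := orderOf_eq_prime (by rw [pow_succ, pow_two, h3]) hx
      rw [← orderOf_dvd_iff_zpow_eq_one, ho] at e
      have hi := ZMod.val_lt i
      have hj := ZMod.val_lt j
      refine ZMod.val_injective 3 ?_
      omega
    funext i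
    fin_cases i
    · exact key p hp1 _ _ k0
    · exact key q hq1 _ _ k1
    · exact key r hr1 _ _ k2
  have := Nat.card_le_card_of_injective Φ hinj
  simpa using this

end Cfsg.Agent.PSLFourThree.Front
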