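/-
The intersection of `Q` with a conjugate of `Q` (piece C of S3373).

* `Cfg.exists_meet`: `Q ∩ Qᵍ` is a normal, self-centralising elementary abelian group of order 27
  of the centralizer, with an abelian normal supplement in `Q`
-/
import Cfsg.Agent.Lib.PSLFourThree.FrontPlane

set_option autoImplicit false
set_option maxRecDepth 100000

namespace Cfsg.Agent.PSLFourThree.Front

open scoped commutatorElement

theorem closure_stable {V : Type*} [AddCommGroup V] (f : V →+ V) {s : Set V}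
    (h : ∀ a ∈ s, f a ∈ AddSubgroup.closure s) {a : V} (ha : a ∈ AddSubgroup.closure s) :
    f a ∈ AddSubgroup.closure s :=
  ((AddSubgroup.closure_le ((AddSubgroup.closure s).comap f)).2 fun b hb => h b hb) ha

namespace SMod

variable {V : Type*} [AddCommGroup V] (M : SMod V)

/-- The plane of a fixed vector. -/
def plane (f : V) : AddSubgroup V := AddSubgroup.closure {f, M.I f}

theorem self_mem_plane (f : V) : f ∈ M.plane f := AddSubgroup.subset_closure (Or.inl rfl)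

theorem I_mem_plane (f : V) : M.I f ∈ M.plane f := AddSubgroup.subset_closure (Or.inr rfl)

theorem E_I_of_ker {f : V} (hf : M.E f = 0) : M.E (M.I f) = f := by
  have h := M.decomp f
  rwa [hf, map_zero, add_zero] at h

theorem J_of_ker {f : V} (hf : M.E f = 0) : M.J f = f + M.I f := by
  have h1 := M.EI f
  rw [M.E_I_of_ker hf] at h1
  have h2 : M.I f + M.J f + M.I (M.J f) = 0 := hf
  have h3 := M.double (M.J f)
  calc M.J f = -(M.J f + M.J f) := by rw [h3, neg_neg]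
    _ = -((-f + M.J f - M.I (M.J f)) + f + (M.I f + M.J f + M.I (M.J f)) - M.I f) := by abel
    _ = -(f + f - M.I f) := by rw [← h1, h2]; abel
    _ = f + M.I f := by rw [M.double f]; abel

theorem plane_I {f a : V} (ha : a ∈ M.plane f) : M.I a ∈ M.plane f :=
  closure_stable M.I (by
    rintro b (rfl | rfl)
    · exact M.I_mem_plane b
    · rw [M.II]; exact neg_mem (M.self_mem_plane f)) ha

theorem plane_J {f : V} (hf : M.E f = 0) {a : V} (ha : a ∈ M.plane f) : M.J a ∈ M.plane f :=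
  closure_stable M.J (by
    rintro b (rfl | rfl)
    · rw [M.J_of_ker hf]; exact add_mem (M.self_mem_plane b) (M.I_mem_plane b)
    · rw [M.JI, M.J_of_ker hf]
      exact neg_mem (M.plane_I (add_mem (M.self_mem_plane f) (M.I_mem_plane f)))) ha

theorem plane_S (hcard : Nat.card V = 81) {f : V} (hf : M.E f = 0) {a : V} (ha : a ∈ M.plane f) :
    M.S a ∈ M.plane f :=
  closure_stable M.S (by
    rintro b (rfl | rfl)
    · rw [M.S_eq hcard, hf, add_zero]; exact M.self_mem_plane b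
    · rw [M.S_eq hcard, M.E_I_of_ker hf]
      exact add_mem (M.I_mem_plane f) (M.self_mem_plane f)) ha

theorem plane_isotropic {f : V} (hf : M.c f f = 0) {a b : V} (ha : a ∈ M.plane f)
    (hb : b ∈ M.plane f) : M.B a b = 0 := by
  have hg : ∀ p ∈ ({f, M.I f} : Set V), ∀ q ∈ ({f, M.I f} : Set V), M.B p q = 0 := by
    rintro p (rfl | rfl) q (rfl | rfl)
    · exact M.alt q
    · exact hf
    · rw [M.skew, show M.B q (M.I q) = 0 from hf, neg_zero]
    · exact M.alt _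
  have h1 : ∀ p ∈ ({f, M.I f} : Set V), M.B p b = 0 := fun p hp =>
    ((AddSubgroup.closure_le ((M.B p).ker)).2 fun q hq => hg p hp q hq) hb
  exact ((AddSubgroup.closure_le ((AddMonoidHom.mk' (fun x => M.B x b)
    (fun x y => by simp)).ker)).2 fun p hp => h1 p hp) ha

theorem ker_span (hcard : Nat.card V = 81) {u u' : V} (hu : M.E u = 0) (hu' : M.E u' = 0)
    (huu : M.c u u = 0) (huu' : M.c u' u' = 0) (h1 : M.c u u' = 1) {f : V} (hf : M.E f = 0) :
    ∃ i j : ZMod 3, f = i.val • u + j.val • u' := by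
  have : Finite V := Nat.finite_of_card_ne_zero (by omega)
  let g : ZMod 3 × ZMod 3 → M.E.ker := fun p => ⟨p.1.val • u + p.2.val • u', by
    rw [AddMonoidHom.mem_ker, map_add, map_nsmul, map_nsmul, hu, hu', nsmul_zero, nsmul_zero,
      add_zero]⟩
  have hg : Function.Injective g := by
    rintro ⟨i, j⟩ ⟨i', j'⟩ h
    have h' : i.val • u + j.val • u' = i'.val • u + j'.val • u' := congrArg Subtype.val h
    have ha := congrArg (M.c u) h'
    have hb := congrArg (M.c u') h'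
    simp only [M.c_add, M.nsmul_val, huu, h1, mul_zero, zero_add, mul_one] at ha
    simp only [M.c_add, M.nsmul_val, huu', M.c_comm u' u, h1, mul_one, mul_zero, add_zero] at hb
    rw [ha, hb]
  have hb := (Nat.bijective_iff_injective_and_card g).2
    ⟨hg, by rw [Nat.card_prod, Nat.card_zmod, M.card_ker hcard]⟩
  obtain ⟨⟨i, j⟩, h⟩ := hb.2 ⟨f, hf⟩
  exact ⟨i, j, (congrArg Subtype.val h).symm⟩

theorem plane_sup (hcard : Nat.card V = 81) {u u' : V} (hu : M.E u = 0) (hu' : M.E u' = 0)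
    (huu : M.c u u = 0) (huu' : M.c u' u' = 0) (h1 : M.c u u' = 1) (a : V) :
    ∃ p ∈ M.plane u, ∃ q ∈ M.plane u', a = p + q := by
  obtain ⟨i, j, hij⟩ := M.ker_span hcard hu hu' huu huu' h1 (M.EE (M.I a))
  obtain ⟨k, l, hkl⟩ := M.ker_span hcard hu hu' huu huu' h1 (M.EE a)
  refine ⟨i.val • u + k.val • M.I u, ?_, j.val • u' + l.val • M.I u', ?_, ?_⟩
  · exact add_mem (nsmul_mem (M.self_mem_plane u) _) (nsmul_mem (M.I_mem_plane u) _)
  · exact add_mem (nsmul_mem (M.self_mem_plane u') _) (nsmul_mem (M.I_mem_plane u') _)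
  · conv_lhs => rw [← M.decomp a, hij, hkl, map_add, map_nsmul, map_nsmul]
    abel

theorem mem_plane {f a : V} (ha : a ∈ M.plane f) : ∃ j k : ZMod 3, a = j.val • f + k.val • M.I f := by
  obtain ⟨m, n, rfl⟩ := AddSubgroup.mem_closure_pair.1 ha
  have e : ∀ (n : ℤ) (x : V), n • x = (n : ZMod 3).val • x := by
    intro n x
    have h3 : (3 : ℤ) • x = 0 := by
      rw [show (3 : ℤ) = 1 + 1 + 1 from rfl, add_zsmul, add_zsmul, one_zsmul, M.three]
    rw [← natCast_zsmul, ZMod.val_intCast]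
    conv_lhs => rw [← Int.mul_ediv_add_emod n 3, add_zsmul, mul_zsmul', h3, zsmul_zero, zero_add]
    rfl
  exact ⟨m, n, by rw [← e, ← e]⟩

end SMod

namespace Cfg

variable {G : Type*} [Group G] (D : Cfg G)

/-- The intersection of `Q` with its conjugate by `g`. -/
def meet (g : G) : Subgroup G := D.Q ⊓ D.Q.comap (MulAut.conj g⁻¹).toMonoidHom

theorem mem_meet {g a : G} : a ∈ D.meet g ↔ a ∈ D.Q ∧ g⁻¹ * a * g ∈ D.Q := by
  simp [meet]

/-- The preimage in `Q` of a subgroup of `Q/Z`. -/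
def pre (P : AddSubgroup D.V) : Subgroup G where
  carrier := {a | ∃ h : a ∈ D.Q, D.cl a h ∈ P}
  one_mem' := ⟨one_mem _, by rw [D.cl_eq_zero.2 (one_mem _)]; exact zero_mem P⟩
  mul_mem' := fun ⟨ha, ha'⟩ ⟨hb, hb'⟩ => ⟨mul_mem ha hb, by rw [D.cl_mul ha hb]; exact add_mem ha' hb'⟩
  inv_mem' := fun ⟨ha, ha'⟩ => ⟨inv_mem ha, by rw [D.cl_inv ha]; exact neg_mem ha'⟩

theorem pre_le (P : AddSubgroup D.V) : D.pre P ≤ D.Q := fun _ ⟨h, _⟩ => h

theorem pre_comm {P : AddSubgroup D.V} (h : ∀ a ∈ P, ∀ b ∈ P, D.form a b = 0) :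
    ∀ a ∈ D.pre P, ∀ b ∈ D.pre P, a * b = b * a := fun _ ⟨ha, ha'⟩ _ ⟨hb, hb'⟩ =>
  (D.form_eq_zero ha hb).1 (h _ ha' _ hb')

theorem pre_conj {P : AddSubgroup D.V} (h : ∀ A : S2, ∀ a ∈ P, D.rho A a ∈ P) :
    ∀ c ∈ D.C, ∀ a ∈ D.pre P, c * a * c⁻¹ ∈ D.pre P := by
  rintro c hc a ⟨ha, ha'⟩
  refine ⟨D.conj_mem hc ha, ?_⟩
  have := h (D.pi ⟨c, hc⟩) _ ha'
  rwa [D.rho_pi, D.cj_mk] at this

/-- A plane is invariant under the quotient. -/
theorem plane_rho {σ ι : S2} (h3 : σ * σ * σ = 1) (h1 : σ ≠ 1) (hι : ι * ι = ng)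
    (hj : σ * ι * σ⁻¹ * ι = ng * (ι * (σ * ι * σ⁻¹))) (M : SMod D.V) (hS : M.S = D.rho σ)
    (hI : M.I = D.rho ι) (hJ : M.J = D.rho (σ * ι * σ⁻¹)) {f : D.V} (hf : M.E f = 0) (A : S2)
    {a : D.V} (ha : a ∈ M.plane f) : D.rho A a ∈ M.plane f := by
  obtain ⟨B, hB, s, hs, hA⟩ := eight_three σ ι h3 h1 hι hj A
  have hs' : D.rho s a ∈ M.plane f := by
    fin_cases hs
    · rw [D.rho_one]; exact ha
    · rw [← hS]; exact M.plane_S D.card_V hf ha
    · rw [D.rho_mul, ← hS]; exact M.plane_S D.card_V hf (M.plane_S D.card_V hf ha)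
  have hB' : D.rho (B * s) a ∈ M.plane f := by
    rw [D.rho_mul]
    fin_cases hB
    · rw [D.rho_one]; exact hs'
    · rw [← hI]; exact M.plane_I hs'
    · rw [← hJ]; exact M.plane_J hf hs'
    · rw [D.rho_mul, ← hI, ← hJ]; exact M.plane_I (M.plane_J hf hs')
  rcases hA with rfl | rfl
  · exact hB'
  · rw [D.rho_mul, D.rho_ng]; exact neg_mem hB'

theorem stab_cube {u : D.V} (hu : u ≠ 0) {A : S2} (hA : D.rho A u = u) : A * A * A = 1 := by
  have hng : D.rho ng u ≠ u := fun h => by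
    rw [D.rho_ng] at h
    refine hu ?_
    have := D.three u
    rwa [show u + u = 0 by nth_rewrite 1 [← h]; exact neg_add_cancel u, zero_add] at this
  rcases stab_cases A with r | r | r | r
  · exact r
  · exact absurd (r ▸ hA) hng
  · exact absurd (by rw [← r, D.rho_mul, hA, hA]) hng
  · exact absurd (by rw [← r, D.rho_mul, D.rho_mul, hA, hA, hA]) hng

theorem stab_comm {u : D.V} (hu : u ≠ 0) {A B : S2} (hA : D.rho A u = u) (hB : D.rho B u = u) :
    A * B = B * A := by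
  have hinv : ∀ C : S2, D.rho C u = u → D.rho C⁻¹ u = u := fun C hC => by
    conv_lhs => rw [← hC]
    rw [← D.rho_mul, inv_mul_cancel, D.rho_one]
  have hc : D.rho (A * B * A⁻¹ * B⁻¹) u = u := by
    rw [D.rho_mul, D.rho_mul, D.rho_mul, hinv B hB, hinv A hA, hB, hA]
  have h3 := D.stab_cube hu hc
  rcases comm_cube A B (D.stab_cube hu hA) (D.stab_cube hu hB) with r | r | r
  · exact mul_inv_eq_iff_eq_mul.1 (mul_inv_eq_one.1 r)
  · rw [r] at h3
    exact absurd h3 (by decide +kernel)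
  · rw [r] at h3
    have h4 := congrArg (fun X => ng * X) h3
    simp only [← mul_assoc, ng_ne.2, one_mul, mul_one] at h4
    rw [h4] at r
    exact absurd r (by decide +kernel)

/-- The properties of the intersection of `Q` with a conjugate. -/
structure Meet (g : G) : Prop where
  normal : ∀ c ∈ D.C, ∀ a ∈ D.meet g, c * a * c⁻¹ ∈ D.meet g
  comm : ∀ a ∈ D.meet g, ∀ b ∈ D.meet g, a * b = b * a
  self : Subgroup.centralizer (D.meet g : Set G) ≤ D.meet g
  y_mem : g * D.z * g⁻¹ ∈ D.meet g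
  z_mem : D.z ∈ D.meet g
  coord : ∃ a ∈ D.meet g,
    (∀ l ∈ D.meet g, ∃ i j k : ZMod 3, l = D.z ^ i.val * (g * D.z * g⁻¹) ^ j.val * a ^ k.val) ∧
    ∀ i j k : ZMod 3, D.z ^ i.val * (g * D.z * g⁻¹) ^ j.val * a ^ k.val = 1 → i = 0 ∧ j = 0 ∧ k = 0
  supp : ∃ B : Subgroup G, B ≤ D.Q ∧ (∀ a ∈ B, ∀ b ∈ B, a * b = b * a) ∧
    (∀ c ∈ D.C, ∀ a ∈ B, c * a * c⁻¹ ∈ B) ∧ (∀ a ∈ B, a ∈ D.meet g → a ∈ Subgroup.zpowers D.z) ∧
    ∀ q ∈ D.Q, ∃ l ∈ D.meet g, ∃ b ∈ B, q = l * b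
  quad : ∃ x : D.C, g⁻¹ * (x : G) * g ∈ D.Q ∧ D.pi x ≠ 1 ∧
    (x : G) * (g * D.z * g⁻¹) = g * D.z * g⁻¹ * x

/-- The main step: `Q ∩ Qᵍ` is normal in the centralizer. -/
theorem exists_meet {g : G} (hy : g * D.z * g⁻¹ ∈ D.Q)
    (hyz : g * D.z * g⁻¹ ∉ Subgroup.zpowers D.z) : D.Meet g := by
  obtain ⟨x, hxQ, hx1, hxy, v, hv, hvu⟩ := D.exists_quadratic hy hyz
  obtain ⟨hw, hwz⟩ := D.back_mem hy hyz
  set y := g * D.z * g⁻¹ with hydef
  set u := D.cl y hy with hudef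
  have hu : u ≠ 0 := fun h => hyz (D.cl_eq_zero.1 h)
  have hx3 : D.pi x * D.pi x * D.pi x = 1 := by
    have := D.exp _ hxQ
    rw [← map_mul, ← map_mul]
    convert map_one D.pi
    refine Subtype.ext ?_
    calc (x : G) * x * x = g * (g⁻¹ * x * g * (g⁻¹ * x * g) * (g⁻¹ * x * g)) * g⁻¹ := by group
      _ = 1 := by rw [this]; group
  set σ := D.pi x with hσ
  obtain ⟨M, hMS, hMB, ι, hMI, hMJ, hι, hj⟩ := D.exists_smod hx3 hx1
  obtain ⟨-, hEu, huu⟩ := M.fix_of_commutator D.card_V (u := u) (v := v) (by rw [hMS]; exact hv)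
    (by rw [hMB]; exact hvu)
  obtain ⟨u', hEu', huu', hc1⟩ := M.exists_opposite D.card_V hEu hu huu
  set P := M.plane u with hP
  set P' := M.plane u' with hP'
  have hPρ : ∀ A : S2, ∀ a ∈ P, D.rho A a ∈ P := fun A a ha =>
    D.plane_rho hx3 hx1 hι hj M hMS hMI hMJ hEu A ha
  have hP'ρ : ∀ A : S2, ∀ a ∈ P', D.rho A a ∈ P' := fun A a ha =>
    D.plane_rho hx3 hx1 hι hj M hMS hMI hMJ hEu' A ha
  have hPiso : ∀ a ∈ P, ∀ b ∈ P, D.form a b = 0 := fun a ha b hb =>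
    hMB ▸ M.plane_isotropic huu ha hb
  have hP'iso : ∀ a ∈ P', ∀ b ∈ P', D.form a b = 0 := fun a ha b hb =>
    hMB ▸ M.plane_isotropic huu' ha hb
  have hsum := M.plane_sup D.card_V hEu hEu' huu huu' hc1
  have hortho : ∀ q ∈ P', (∀ p ∈ P, D.form q p = 0) → q = 0 := fun q hq h =>
    D.form_nondeg q fun b => by
      obtain ⟨p', hp', q', hq', rfl⟩ := hsum b
      rw [map_add, h p' hp', hP'iso q hq q' hq', add_zero]
  -- an element lifting `I u`
  obtain ⟨c₀, hc₀⟩ := D.pi_surj ι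
  set a := (c₀ : G) * y * (c₀ : G)⁻¹ with hadef
  have ha : a ∈ D.Q := D.conj_mem c₀.2 hy
  have hau : D.cl a ha = M.I u := by rw [hMI, ← hc₀, D.rho_pi, hudef, D.cj_mk]
  have hyA : y ∈ D.pre P := ⟨hy, M.self_mem_plane u⟩
  have haA : a ∈ D.pre P := ⟨ha, hau ▸ M.I_mem_plane u⟩
  have hzA : D.z ∈ D.pre P :=
    ⟨D.z_mem, by rw [D.cl_eq_zero.2 (Subgroup.mem_zpowers _)]; exact zero_mem _⟩
  have hEIu : M.E (M.I u) = u := M.E_I_of_ker hEu
  -- the centralizer of the preimage of the plane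
  have hcent : ∀ c : G, c * D.z = D.z * c → c * y = y * c → c * a = a * c → c ∈ D.pre P := by
    intro c hcz hcy hca
    set c' : D.C := ⟨c, Subgroup.mem_centralizer_singleton_iff.2 hcz⟩
    have hfix : ∀ b, ∀ hb : b ∈ D.Q, c * b = b * c → D.rho (D.pi c') (D.cl b hb) = D.cl b hb := by
      intro b hb h
      rw [D.rho_pi, D.cj_mk, D.cl_eq]
      show (c * b * c⁻¹)⁻¹ * b ∈ _
      rw [h, mul_inv_cancel_right, inv_mul_cancel]
      exact one_mem _
    have hSu : D.rho σ u = u := by rw [← hMS, M.S_eq D.card_V, hEu, add_zero]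
    have hA : D.rho (D.pi c') u = u := hfix y hy hcy
    have hIfix : D.rho (D.pi c') (M.I u) = M.I u := by rw [← hau]; exact hfix a ha hca
    have hc1' : D.pi c' = 1 := by
      rcases commuting_cube σ (D.pi c') hx3 (D.stab_cube hu hA) hx1 (D.stab_comm hu hSu hA) with
        r | r | r
      · exact r
      · rw [r, ← hMS, M.S_eq D.card_V, hEIu, add_eq_left] at hIfix
        exact absurd hIfix hu
      · rw [r] at hIfix
        have h2 : D.rho σ (M.I u) = M.I u := by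
          conv_lhs => rw [← hIfix, ← D.rho_mul, ← mul_assoc, hx3, D.rho_one]
        rw [← hMS, M.S_eq D.card_V, hEIu, add_eq_left] at h2
        exact absurd h2 hu
    have hcQ : c ∈ D.Q := (D.pi_ker c').1 hc1'
    obtain ⟨p, hp, q, hq, hpq⟩ := hsum (D.cl c hcQ)
    refine ⟨hcQ, ?_⟩
    have hperp : ∀ r ∈ P, D.form (D.cl c hcQ) r = 0 := by
      intro r hr
      obtain ⟨i, k, rfl⟩ := M.mem_plane hr
      rw [map_add, D.form_smul, D.form_smul, (D.form_eq_zero hcQ hy).2 hcy, ← hau,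
        (D.form_eq_zero hcQ ha).2 hca, mul_zero, mul_zero, add_zero]
    have hq0 : q = 0 := hortho q hq fun r hr => by
      have := hperp r hr
      rwa [hpq, map_add, AddMonoidHom.add_apply, hPiso p hp r hr, zero_add] at this
    rw [hpq, hq0, add_zero]
    exact hp
  -- the second involution
  obtain ⟨t', ht'π, ht'w, ht'inv⟩ := D.exists_inverter hw hwz
  set k := g * (t' : G) * g⁻¹ with hkdef
  have hkz : k * D.z * k⁻¹ = D.z⁻¹ := by
    calc k * D.z * k⁻¹ = g * ((t' : G) * (g⁻¹ * D.z * g) * (t' : G)⁻¹) * g⁻¹ := by rw [hkdef]; group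
      _ = D.z⁻¹ := by rw [ht'w]; group
  have hky : k * y * k⁻¹ = y := by
    calc k * y * k⁻¹ = g * ((t' : G) * D.z * (t' : G)⁻¹) * g⁻¹ := by rw [hkdef, hydef]; group
      _ = y := by rw [D.conj_zpowers t'.2 (Subgroup.mem_zpowers _)]
  have hkzp : k * D.z * k⁻¹ ∈ Subgroup.zpowers D.z := by
    rw [hkz]; exact inv_mem (Subgroup.mem_zpowers _)
  have hkinv : ∀ b, g⁻¹ * b * g ∈ D.Q → ∃ i : ℕ, k * b * k⁻¹ * b = y ^ i := by
    intro b hb
    obtain ⟨i, hi⟩ := D.mem_zpowers (ht'inv _ hb)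
    refine ⟨i.val, ?_⟩
    calc k * b * k⁻¹ * b
        = g * ((t' : G) * (g⁻¹ * b * g) * (t' : G)⁻¹ * (g⁻¹ * b * g)) * g⁻¹ := by rw [hkdef]; group
      _ = y ^ i.val := by rw [hi, hydef, conj_pow]
  have hyg : g⁻¹ * y * g ∈ D.Q := by rw [show g⁻¹ * y * g = D.z by rw [hydef]; group]; exact D.z_mem
  have hzg : g⁻¹ * D.z * g ∈ D.Q := hw
  have hkC : ∀ c, c ∈ D.C → k * c * k⁻¹ ∈ D.C := by
    intro c hc
    have h1 : Commute c D.z := D.comm_z hc
    have h2 : Commute (k * c * k⁻¹) (k * D.z * k⁻¹) := h1.conj k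
    rw [hkz, Commute.inv_right_iff] at h2
    exact Subgroup.mem_centralizer_singleton_iff.2 h2
  have hkAu : ∀ c : D.C, D.cl (k * ((c : G) * y * (c : G)⁻¹) * k⁻¹)
      (D.char k hkzp _ (D.conj_mem c.2 hy)) ∈ P := by
    intro c
    have e : k * ((c : G) * y * (c : G)⁻¹) * k⁻¹ = k * c * k⁻¹ * y * (k * (c : G) * k⁻¹)⁻¹ := by
      calc _ = k * (c : G) * k⁻¹ * (k * y * k⁻¹) * (k * (c : G) * k⁻¹)⁻¹ := by group
        _ = _ := by rw [hky]
    obtain ⟨_, h⟩ := D.pre_conj hPρ _ (hkC c c.2) y hyA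
    simp only [e]
    exact h
  set b := k * a * k⁻¹ with hbdef
  have hb : b ∈ D.Q := D.char k hkzp a ha
  have hbP : D.cl b hb ∈ P := hkAu c₀
  -- the key relation
  have hag : g⁻¹ * a * g ∈ D.Q := by
    have hxa : D.cl ((x : G) * a * (x : G)⁻¹) (D.conj_mem x.2 ha) = D.cl (a * y) (mul_mem ha hy) := by
      rw [← D.cj_mk x ha, ← D.rho_pi, ← hMS, M.S_eq D.card_V, D.cl_mul ha hy, hau, hEIu]
    obtain ⟨m, hm⟩ := D.mem_zpowers (D.cl_eq.1 hxa.symm)
    obtain ⟨i, hi⟩ := hkinv (x : G) hxQ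
    set x' := k * (x : G) * k⁻¹ with hx'def
    have hx'C : x' ∈ D.C := hkC x x.2
    have hπx' : D.pi ⟨x', hx'C⟩ = σ⁻¹ := by
      refine eq_inv_of_mul_eq_one_left ?_
      rw [hσ, ← map_mul]
      refine (D.pi_ker _).2 ?_
      show x' * (x : G) ∈ D.Q
      rw [hi]; exact D.Q.pow_mem hy _
    have hxb : x' * b * x'⁻¹ = b * y * (k * D.z ^ m.val * k⁻¹) := by
      calc x' * b * x'⁻¹ = k * ((x : G) * a * (x : G)⁻¹) * k⁻¹ := by rw [hx'def, hbdef]; group
        _ = k * (a * y * D.z ^ m.val) * k⁻¹ := by rw [show (x : G) * a * (x : G)⁻¹ = a * y * D.z ^ m.val from by rw [← hm]; group]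
        _ = b * (k * y * k⁻¹) * (k * D.z ^ m.val * k⁻¹) := by rw [hbdef]; group
        _ = _ := by rw [hky]
    have hkzm : k * D.z ^ m.val * k⁻¹ ∈ Subgroup.zpowers D.z := by
      rw [← conj_pow, hkz]; exact pow_mem (inv_mem (Subgroup.mem_zpowers _)) _
    have hrel : D.rho σ⁻¹ (D.cl b hb) = D.cl b hb + u := by
      rw [← hπx', D.rho_pi, D.cj_mk, hudef, ← D.cl_mul, D.cl_eq]
      show (x' * b * x'⁻¹)⁻¹ * (b * y) ∈ _
      rw [hxb, show (b * y * (k * D.z ^ m.val * k⁻¹))⁻¹ * (b * y) = (k * D.z ^ m.val * k⁻¹)⁻¹ by group]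
      exact inv_mem hkzm
    have hEb : M.E (D.cl b hb) = -u := by
      have h := congrArg (D.rho σ) hrel
      rw [← D.rho_mul, mul_inv_cancel, D.rho_one, map_add, ← hMS, M.S_eq D.card_V, M.S_eq D.card_V,
        hEu, add_zero] at h
      refine eq_neg_of_add_eq_zero_left ?_
      have h2 : D.cl b hb + 0 = D.cl b hb + (M.E (D.cl b hb) + u) := by rw [add_zero, ← add_assoc]; exact h
      exact (add_left_cancel h2).symm
    obtain ⟨j, l, hjl⟩ := M.mem_plane (add_mem hbP (D.pre_conj hPρ _ c₀.2 y hyA).2)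
    have hl : l.val • u = 0 := by
      have h := congrArg M.E hjl
      rwa [map_add, hau, hEb, hEIu, neg_add_cancel, map_add, map_nsmul, map_nsmul, hEu, hEIu,
        nsmul_zero, zero_add, eq_comm] at h
    have hba : D.cl (b * a) (mul_mem hb ha) = D.cl (y ^ j.val) (D.Q.pow_mem hy _) := by
      rw [D.cl_mul hb ha, ← D.smul_cl, hau]
      rw [hau] at hjl
      rw [hjl, ← map_nsmul, hl, map_zero, add_zero]
    obtain ⟨n, hn⟩ := D.mem_zpowers (D.cl_eq.1 hba.symm)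
    have hbaQ : g⁻¹ * (b * a) * g ∈ D.Q := by
      rw [show b * a = y ^ j.val * D.z ^ n.val by rw [← hn]; group]
      exact (D.mem_meet.1 (mul_mem (pow_mem (D.mem_meet.2 ⟨hy, hyg⟩) _)
        (pow_mem (D.mem_meet.2 ⟨D.z_mem, hzg⟩) _))).2
    have hay : a * y = y * a := (D.pre_comm hPiso a haA y hyA)
    set a' : D.C := ⟨g⁻¹ * a * g, Subgroup.mem_centralizer_singleton_iff.2 (by
      calc g⁻¹ * a * g * D.z = g⁻¹ * (a * y) * g := by rw [hydef]; group
        _ = g⁻¹ * (y * a) * g := by rw [hay]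
        _ = _ := by rw [hydef]; group)⟩
    have h2 : D.pi a' * D.pi a' = 1 := by
      have he : g⁻¹ * (b * a) * g = ((t' * a' * t'⁻¹ * a' : D.C) : G) := by
        show _ = (t' : G) * (g⁻¹ * a * g) * (t' : G)⁻¹ * (g⁻¹ * a * g)
        rw [hbdef, hkdef]; group
      have h := (D.pi_ker (t' * a' * t'⁻¹ * a')).2 (he ▸ hbaQ)
      rwa [map_mul, map_mul, map_mul, map_inv, ht'π, ← ng_central, mul_inv_cancel_right] at h
    have h3 : D.pi a' * D.pi a' * D.pi a' = 1 := by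
      rw [← map_mul, ← map_mul]
      convert map_one D.pi
      refine Subtype.ext ?_
      calc g⁻¹ * a * g * (g⁻¹ * a * g) * (g⁻¹ * a * g) = g⁻¹ * (a * a * a) * g := by group
        _ = 1 := by rw [D.exp a ha]; group
    rw [h2, one_mul] at h3
    exact (D.pi_ker a').1 h3
  -- the intersection is the preimage
  have hcl : ∀ i j k : ZMod 3, ∀ h : D.z ^ i.val * y ^ j.val * a ^ k.val ∈ D.Q,
      D.cl _ h = j.val • u + k.val • M.I u := by
    intro i j k h
    rw [D.cl_mul (mul_mem (pow_mem D.z_mem _) (pow_mem hy _)) (pow_mem ha _),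
      D.cl_mul (pow_mem D.z_mem _) (pow_mem hy _),
      D.cl_eq_zero.2 (pow_mem (Subgroup.mem_zpowers _) _), zero_add, ← D.smul_cl _ hy, ← D.smul_cl _ ha, hau]
  have hspan : ∀ l ∈ D.pre P, ∃ i j k : ZMod 3, l = D.z ^ i.val * y ^ j.val * a ^ k.val := by
    rintro l ⟨hl, hlP⟩
    obtain ⟨j, k, hjk⟩ := M.mem_plane hlP
    have hm : y ^ j.val * a ^ k.val ∈ D.Q := mul_mem (pow_mem hy _) (pow_mem ha _)
    have h : D.cl (y ^ j.val * a ^ k.val) hm = D.cl l hl := by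
      rw [D.cl_mul (pow_mem hy _) (pow_mem ha _), ← D.smul_cl _ hy, ← D.smul_cl _ ha, hau, hjk]
    obtain ⟨i, hi⟩ := D.mem_zpowers (D.cl_eq.1 h)
    refine ⟨i, j, k, ?_⟩
    rw [mul_assoc, ← D.pow_central _ (D.Q_le hm), ← hi]
    group
  have hpre_le : D.pre P ≤ D.meet g := by
    intro l hl
    obtain ⟨i, j, k, rfl⟩ := hspan l hl
    refine mul_mem (mul_mem (pow_mem ?_ _) (pow_mem ?_ _)) (pow_mem ?_ _)
    · exact D.mem_meet.2 ⟨D.z_mem, hzg⟩
    · exact D.mem_meet.2 ⟨hy, hyg⟩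
    · exact D.mem_meet.2 ⟨ha, hag⟩
  have hmcomm : ∀ a ∈ D.meet g, ∀ b ∈ D.meet g, a * b = b * a := by
    intro p hp q hq
    rw [← commutatorElement_eq_one_iff_mul_comm]
    obtain ⟨hp, hp'⟩ := D.mem_meet.1 hp
    obtain ⟨hq, hq'⟩ := D.mem_meet.1 hq
    obtain ⟨i, hi⟩ := D.mem_zpowers (D.comm p hp q hq)
    obtain ⟨j, hj'⟩ := D.mem_zpowers (D.comm _ hp' _ hq')
    have h : y ^ j.val = D.z ^ i.val := by
      rw [← hi, hydef, conj_pow, ← hj']
      simp only [commutatorElement_def]; group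
    have h0 : D.cl (y ^ j.val) (pow_mem hy _) = 0 :=
      D.cl_eq_zero.2 (h ▸ pow_mem (Subgroup.mem_zpowers _) _)
    rw [← D.smul_cl] at h0
    have hj0 : j = 0 := by
      by_contra hne
      have hsq : ∀ j : ZMod 3, j ≠ 0 → j * j = 1 := by decide
      refine hu (D.form_nondeg u fun r => ?_)
      have e := congrArg (fun s => D.form s r) h0
      simp only [map_nsmul, AddMonoidHom.nsmul_apply, map_zero, AddMonoidHom.zero_apply, nsmul_eq_mul,
        ZMod.natCast_val, ZMod.cast_id', id] at e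
      exact (mul_eq_zero.1 e).resolve_left hne
    rw [hi, ← h, hj0, ZMod.val_zero, pow_zero]
  have hzM : D.z ∈ D.meet g := hpre_le hzA
  have hyM : y ∈ D.meet g := hpre_le hyA
  have haM : a ∈ D.meet g := hpre_le haA
  have heq : D.meet g = D.pre P := le_antisymm
    (fun c hc => hcent c (hmcomm c hc _ hzM) (hmcomm c hc _ hyM) (hmcomm c hc _ haM)) hpre_le
  refine ⟨fun c hc l hl => ?_, hmcomm, fun c hc => ?_, hyM, hzM, ⟨a, haM, fun l hl => ?_, ?_⟩, ?_,
    ⟨x, hxQ, hx1, hxy⟩⟩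
  · rw [heq] at hl ⊢; exact D.pre_conj hPρ c hc l hl
  · rw [heq]
    have hc' := Subgroup.mem_centralizer_iff.1 hc
    exact hcent c (hc' _ hzM).symm (hc' _ hyM).symm (hc' _ haM).symm
  · exact hspan l (heq ▸ hl)
  · intro i j k h
    have hmem : D.z ^ i.val * y ^ j.val * a ^ k.val ∈ D.Q := by rw [h]; exact one_mem _
    have h0 := hcl i j k hmem
    rw [show D.cl _ hmem = 0 from D.cl_eq_zero.2 (by rw [h]; exact one_mem _), ← map_nsmul] at h0
    obtain ⟨hj0, hk0⟩ := M.eq_zero_of_pair (by rw [map_nsmul, hEu, nsmul_zero])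
      (by rw [map_nsmul, hEu, nsmul_zero]) h0.symm
    have hsm : ∀ j : ZMod 3, j.val • u = 0 → j = 0 := by
      intro j hj
      by_contra hne
      refine hu (D.form_nondeg u fun r => ?_)
      have e := congrArg (fun s => D.form s r) hj
      simp only [map_nsmul, AddMonoidHom.nsmul_apply, map_zero, AddMonoidHom.zero_apply, nsmul_eq_mul,
        ZMod.natCast_val, ZMod.cast_id', id] at e
      exact (mul_eq_zero.1 e).resolve_left hne
    obtain rfl := hsm j hj0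
    obtain rfl := hsm k hk0
    rw [ZMod.val_zero, pow_zero, pow_zero, mul_one, mul_one] at h
    exact ⟨D.pow_inj (by rw [h, ZMod.val_zero, pow_zero]), rfl, rfl⟩
  · refine ⟨D.pre P', D.pre_le _, D.pre_comm hP'iso, D.pre_conj hP'ρ, ?_, ?_⟩
    · rintro c ⟨hc, hcP'⟩ hcM
      rw [heq] at hcM
      obtain ⟨_, hcP⟩ := hcM
      exact D.cl_eq_zero.1 (hortho _ hcP' fun p hp => hPiso _ hcP p hp)
    · intro q hq
      obtain ⟨p, hp, p', hp', e⟩ := hsum (D.cl q hq)
      obtain ⟨b, hb, rfl⟩ := D.cl_surj p'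
      refine ⟨q * b⁻¹, heq ▸ ⟨mul_mem hq (inv_mem hb), ?_⟩, b, ⟨hb, hp'⟩, by group⟩
      rw [D.cl_mul hq (inv_mem hb), D.cl_inv hb, e, add_neg_cancel_right]
      exact hp

end Cfg

end Cfsg.Agent.PSLFourThree.Front
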