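import Cfsg.Agent.Lib.PSLFourThree.Blocks
import Cfsg.Agent.Lib.PSLFourThree.ParShape

/-!
# A model of the point parabolic of `PSL(4,3)` with cheap equality

* `M3`, `Raw`: three by three matrices and affine transformations as records
* `Af`: those of determinant one, a group
* `toPar`: the isomorphism with the point parabolic, `toPar_z`, `toPar_mem_parA`, `toPar_mem_parB`
-/

set_option autoImplicit false

namespace Cfsg.Agent.PSLFourThree

open Matrix

/-- Three by three matrices, as a record. -/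
structure M3 where
  a00 : ZMod 3
  a01 : ZMod 3
  a02 : ZMod 3
  a10 : ZMod 3
  a11 : ZMod 3
  a12 : ZMod 3
  a20 : ZMod 3
  a21 : ZMod 3
  a22 : ZMod 3
deriving DecidableEq

namespace M3

/-- The product. -/
def mul (A B : M3) : M3 :=
  ⟨A.a00 * B.a00 + A.a01 * B.a10 + A.a02 * B.a20, A.a00 * B.a01 + A.a01 * B.a11 + A.a02 * B.a21,
   A.a00 * B.a02 + A.a01 * B.a12 + A.a02 * B.a22, A.a10 * B.a00 + A.a11 * B.a10 + A.a12 * B.a20,
   A.a10 * B.a01 + A.a11 * B.a11 + A.a12 * B.a21, A.a10 * B.a02 + A.a11 * B.a12 + A.a12 * B.a22,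
   A.a20 * B.a00 + A.a21 * B.a10 + A.a22 * B.a20, A.a20 * B.a01 + A.a21 * B.a11 + A.a22 * B.a21,
   A.a20 * B.a02 + A.a21 * B.a12 + A.a22 * B.a22⟩

/-- The unit. -/
def one : M3 := ⟨1, 0, 0, 0, 1, 0, 0, 0, 1⟩

/-- The determinant. -/
def det (A : M3) : ZMod 3 :=
  A.a00 * (A.a11 * A.a22 - A.a12 * A.a21) - A.a01 * (A.a10 * A.a22 - A.a12 * A.a20)
    + A.a02 * (A.a10 * A.a21 - A.a11 * A.a20)

/-- The adjugate. -/
def adj (A : M3) : M3 :=
  ⟨A.a11 * A.a22 - A.a12 * A.a21, A.a02 * A.a21 - A.a01 * A.a22, A.a01 * A.a12 - A.a02 * A.a11,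
   A.a12 * A.a20 - A.a10 * A.a22, A.a00 * A.a22 - A.a02 * A.a20, A.a02 * A.a10 - A.a00 * A.a12,
   A.a10 * A.a21 - A.a11 * A.a20, A.a01 * A.a20 - A.a00 * A.a21, A.a00 * A.a11 - A.a01 * A.a10⟩

theorem mul_assoc' (A B C : M3) : mul (mul A B) C = mul A (mul B C) := by
  simp only [mul, M3.mk.injEq]
  refine ⟨?_, ?_, ?_, ?_, ?_, ?_, ?_, ?_, ?_⟩ <;> ring

theorem one_mul' (A : M3) : mul one A = A := by
  cases A
  simp [mul, one]

theorem mul_one' (A : M3) : mul A one = A := by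
  cases A
  simp [mul, one]

theorem det_mul' (A B : M3) : det (mul A B) = det A * det B := by
  simp only [det, mul]
  ring

theorem det_adj (A : M3) : det (adj A) = det A * det A := by
  simp only [det, adj]
  ring

theorem adj_mul (A : M3) (h : det A = 1) : mul (adj A) A = one := by
  simp only [det] at h
  simp only [adj, mul, one, M3.mk.injEq]
  refine ⟨?_, ?_, ?_, ?_, ?_, ?_, ?_, ?_, ?_⟩ <;>
    first
      | linear_combination h
      | linear_combination -h
      | ring1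

end M3

/-- An affine transformation: a row vector and a matrix. -/
structure Raw where
  v0 : ZMod 3
  v1 : ZMod 3
  v2 : ZMod 3
  m : M3
deriving DecidableEq

namespace Raw

/-- The product. -/
def mul (a b : Raw) : Raw :=
  ⟨b.v0 + (a.v0 * b.m.a00 + a.v1 * b.m.a10 + a.v2 * b.m.a20),
   b.v1 + (a.v0 * b.m.a01 + a.v1 * b.m.a11 + a.v2 * b.m.a21),
   b.v2 + (a.v0 * b.m.a02 + a.v1 * b.m.a12 + a.v2 * b.m.a22), M3.mul a.m b.m⟩

/-- The unit. -/
def one : Raw := ⟨0, 0, 0, M3.one⟩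

/-- The inverse, for determinant one. -/
def inv (a : Raw) : Raw :=
  let B := M3.adj a.m
  ⟨-(a.v0 * B.a00 + a.v1 * B.a10 + a.v2 * B.a20), -(a.v0 * B.a01 + a.v1 * B.a11 + a.v2 * B.a21),
   -(a.v0 * B.a02 + a.v1 * B.a12 + a.v2 * B.a22), B⟩

theorem mul_assoc' (a b c : Raw) : mul (mul a b) c = mul a (mul b c) := by
  simp only [mul, M3.mul_assoc', Raw.mk.injEq, and_true]
  simp only [M3.mul]
  refine ⟨?_, ?_, ?_⟩ <;> ring

theorem one_mul' (a : Raw) : mul one a = a := by
  cases a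
  simp [mul, one, M3.one_mul']

theorem mul_one' (a : Raw) : mul a one = a := by
  rcases a with ⟨x, y, w, ⟨_, _, _, _, _, _, _, _, _⟩⟩
  simp [mul, one, M3.mul, M3.one]

theorem inv_mul' (a : Raw) (h : a.m.det = 1) : mul (inv a) a = one := by
  simp only [mul, inv, one, M3.adj_mul a.m h, Raw.mk.injEq, and_true]
  simp only [M3.det] at h
  simp only [M3.adj]
  refine ⟨?_, ?_, ?_⟩
  · linear_combination (-a.v0) * h
  · linear_combination (-a.v1) * h
  · linear_combination (-a.v2) * h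

end Raw

/-- The affine group `3^3 : SL(3,3)`. -/
abbrev Af : Type := {a : Raw // a.m.det = 1}

namespace Af

instance : Mul Af := ⟨fun a b => ⟨Raw.mul a.1 b.1, by
  show (M3.mul a.1.m b.1.m).det = 1
  rw [M3.det_mul', a.2, b.2, one_mul]⟩⟩

instance : One Af := ⟨⟨Raw.one, rfl⟩⟩

instance : Inv Af := ⟨fun a => ⟨Raw.inv a.1, by
  show (M3.adj a.1.m).det = 1
  rw [M3.det_adj, a.2, one_mul]⟩⟩

instance : Group Af :=
  Group.ofLeftAxioms (fun a b c => Subtype.ext (Raw.mul_assoc' a.1 b.1 c.1))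
    (fun a => Subtype.ext (Raw.one_mul' a.1)) (fun a => Subtype.ext (Raw.inv_mul' a.1 a.2))

theorem val_mul (a b : Af) : (a * b).1 = Raw.mul a.1 b.1 := rfl

theorem ext_val {a b : Af} (h : a.1 = b.1) : a = b := Subtype.ext h

theorem commute_iff {a b : Af} : Commute a b ↔ Raw.mul a.1 b.1 = Raw.mul b.1 a.1 :=
  ⟨fun h => congrArg Subtype.val h, fun h => Subtype.ext h⟩

/-- The matrix in `SL(4,3)`. -/
def mat (a : Raw) : Matrix (Fin 4) (Fin 4) (ZMod 3) :=
  !![1, a.v0, a.v1, a.v2; 0, a.m.a00, a.m.a01, a.m.a02; 0, a.m.a10, a.m.a11, a.m.a12;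
     0, a.m.a20, a.m.a21, a.m.a22]

theorem det_mat (a : Af) : (mat a.1).det = 1 := by
  have h := a.2
  simp only [M3.det] at h
  rw [Matrix.det_succ_column_zero, Fin.sum_univ_four]
  simp [mat, Matrix.det_fin_three, Fin.succAbove]
  linear_combination h

theorem mat_mul (a b : Raw) : mat (Raw.mul a b) = mat a * mat b := by
  ext i j
  fin_cases i <;> fin_cases j <;>
    simp [mat, Raw.mul, M3.mul, Matrix.mul_apply, Fin.sum_univ_four] <;> ring

theorem mat_mem (a : Af) : (⟨mat a.1, det_mat a⟩ : S4) ∈ parLift := ⟨rfl, rfl, rfl⟩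

/-- The map to the point parabolic. -/
def hom : Af →* Par :=
  MonoidHom.mk' (fun a => prPar ⟨⟨mat a.1, det_mat a⟩, mat_mem a⟩) fun a b => by
    rw [← map_mul]
    exact congrArg prPar (Subtype.ext (Subtype.ext (mat_mul a.1 b.1)))

theorem hom_injective : Function.Injective hom := by
  intro a b h
  have h' : pr ⟨mat a.1, det_mat a⟩ = pr ⟨mat b.1, det_mat b⟩ := congrArg Subtype.val h
  have key : mat b.1 = mat a.1 := by
    rcases pr_eq_iff.1 h' with e | e
    · exact e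
    · have := congrFun (congrFun e 0) 0
      simp [mat] at this
      exact absurd this (by decide)
  refine Subtype.ext ?_
  rcases a with ⟨⟨a0, a1, a2, A⟩, ha⟩
  rcases b with ⟨⟨b0, b1, b2, B⟩, hb⟩
  rcases A with ⟨_, _, _, _, _, _, _, _, _⟩
  rcases B with ⟨_, _, _, _, _, _, _, _, _⟩
  have e := fun i j => (congrFun (congrFun key i) j).symm
  simp only [Raw.mk.injEq, M3.mk.injEq]
  exact ⟨e 0 1, e 0 2, e 0 3, e 1 1, e 1 2, e 1 3, e 2 1, e 2 2, e 2 3, e 3 1, e 3 2, e 3 3⟩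

theorem hom_surjective : Function.Surjective hom := by
  intro y
  obtain ⟨g, rfl⟩ := prPar_surjective y
  obtain ⟨g1, g2, g3⟩ := mem_parLift.1 g.2
  have ha : g.1.1 0 0 * g.1.1 0 0 = 1 := sq_one (a00_ne g.2)
  let c := g.1.1 0 0
  let r : Raw := ⟨c * g.1.1 0 1, c * g.1.1 0 2, c * g.1.1 0 3,
    ⟨c * g.1.1 1 1, c * g.1.1 1 2, c * g.1.1 1 3, c * g.1.1 2 1, c * g.1.1 2 2, c * g.1.1 2 3,
     c * g.1.1 3 1, c * g.1.1 3 2, c * g.1.1 3 3⟩⟩
  have hd : r.m.det = 1 := by
    have h := det_levi g.2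
    rw [Matrix.det_fin_three] at h
    simp only [Matrix.smul_apply, Matrix.submatrix_apply, smul_eq_mul] at h
    simp only [r, M3.det, c]
    simp only [show Fin.succ (0 : Fin 3) = 1 from rfl, show Fin.succ (1 : Fin 3) = 2 from rfl,
      show Fin.succ (2 : Fin 3) = 3 from rfl] at h
    linear_combination h
  refine ⟨⟨r, hd⟩, Subtype.ext ?_⟩
  show pr ⟨mat r, _⟩ = pr g.1
  refine pr_eq_iff.2 ?_
  have hm : mat r = c • g.1.1 := by
    ext i j
    fin_cases i <;> fin_cases j <;> simp [mat, r, c, g1, g2, g3, ha]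
  show g.1.1 = mat r ∨ g.1.1 = -mat r
  rw [hm]
  have : c = 1 ∨ c = -1 := (by decide : ∀ x : ZMod 3, x * x = 1 → x = 1 ∨ x = -1) c ha
  rcases this with h | h
  · exact Or.inl (by rw [h, one_smul])
  · exact Or.inr (by rw [h, neg_smul, one_smul, neg_neg])

/-- The model of the parabolic. -/
noncomputable def toPar : Af ≃* Par := MulEquiv.ofBijective hom ⟨hom_injective, hom_surjective⟩

instance : Finite Af := Finite.of_equiv _ toPar.symm.toEquiv

theorem card : Nat.card Af = 151632 := by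
  rw [Nat.card_congr toPar.toEquiv, card_par]

/-- A translation. -/
def tr (x y w : ZMod 3) : Af := ⟨⟨x, y, w, M3.one⟩, by simp [M3.det, M3.one]⟩

/-- The root element. -/
def z : Af := tr 0 0 1

theorem toPar_z : toPar z = zPar := Subtype.ext (congrArg pr (Subtype.ext (by
  ext i j
  fin_cases i <;> fin_cases j <;>
    simp [mat, z, tr, M3.one, Matrix.SpecialLinearGroup.transvection, Matrix.transvection, Matrix.single])))

/-- The elements of the second radical. -/
def inB (a : Af) : Prop :=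
  a.1.v0 = 0 ∧ a.1.v1 = 0 ∧
    a.1.m = ⟨1, 0, a.1.m.a02, 0, 1, a.1.m.a12, 0, 0, 1⟩

theorem toPar_mem_parB {a : Af} (h : inB a) : toPar a ∈ parB := by
  obtain ⟨h0, h1, hm⟩ := h
  show pr (⟨mat a.1, det_mat a⟩ : S4) ∈ radB
  have e : (⟨mat a.1, det_mat a⟩ : S4) = (x (i := 1) (j := 3) (by decide) 1) ^ a.1.m.a02.val *
      (x (i := 2) (j := 3) (by decide) 1) ^ a.1.m.a12.val *
      (x (i := 0) (j := 3) (by decide) 1) ^ a.1.v2.val := by
    rw [← x_pow, ← x_pow, ← x_pow]
    refine Subtype.ext ?_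
    show mat a.1 = _
    rw [mat, h0, h1, hm, Matrix.SpecialLinearGroup.coe_mul, Matrix.SpecialLinearGroup.coe_mul]
    ext i j
    fin_cases i <;> fin_cases j <;>
      simp [Matrix.mul_apply, Fin.sum_univ_four, Matrix.SpecialLinearGroup.transvection, Matrix.transvection,
        Matrix.single]
  rw [e, map_mul, map_mul, map_pow, map_pow, map_pow]
  exact mul_mem (mul_mem (pow_mem (Subgroup.subset_closure (by simp)) _)
    (pow_mem (Subgroup.subset_closure (by simp)) _)) (pow_mem (Subgroup.subset_closure (by simp [zEl])) _)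

end Af

end Cfsg.Agent.PSLFourThree
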