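/-
The embedded point parabolic (piece C of S3373).

* `Cfg.exists_par`: a conjugate of `z` in `Q` gives an embedded parabolic containing the centralizer
-/
import Cfsg.Agent.Lib.PSLFourThree.FrontMeet
import Cfsg.Agent.Lib.PSLFourThree.ParModel
import Cfsg.Agent.Lib.Solvable.Gaschutz

set_option autoImplicit false
set_option maxRecDepth 100000

namespace Cfsg.Agent.PSLFourThree.Front

open scoped commutatorElement

/-- Row vectors. -/
abbrev F3 := ZMod 3

/-- A row vector times a matrix. -/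
def rowMul (v : F3 × F3 × F3) (A : M3) : F3 × F3 × F3 :=
  (v.1 * A.a00 + v.2.1 * A.a10 + v.2.2 * A.a20, v.1 * A.a01 + v.2.1 * A.a11 + v.2.2 * A.a21,
    v.1 * A.a02 + v.2.1 * A.a12 + v.2.2 * A.a22)

/-- The matrix with given rows. -/
def ofRows (r s t : F3 × F3 × F3) : M3 :=
  ⟨r.1, r.2.1, r.2.2, s.1, s.2.1, s.2.2, t.1, t.2.1, t.2.2⟩

theorem rowMul_mul (v : F3 × F3 × F3) (A B : M3) :
    rowMul v (M3.mul A B) = rowMul (rowMul v A) B := by
  simp only [rowMul, M3.mul, Prod.mk.injEq]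
  refine ⟨?_, ?_, ?_⟩ <;> ring

theorem eq_ofRows (A : M3) :
    A = ofRows (rowMul (1, 0, 0) A) (rowMul (0, 1, 0) A) (rowMul (0, 0, 1) A) := by
  cases A; simp [rowMul, ofRows]

theorem row_three : ∀ r : F3 × F3 × F3, r.1 ≠ 0 ∨ r.2.2 ≠ 0 →
    ∃ a : F3 × F3 × F3, (ofRows a (0, 1, 0) r).det = 1 := by decide +kernel

theorem row_middle : ∀ r : F3 × F3 × F3, r.1 = 0 → r.2.2 = 0 → r.2.1 ≠ 0 →
    ∃ a : F3 × F3 × F3, (ofRows r a (0, 0, 1)).det = 1 := by decide +kernel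

theorem card_stab_three :
    Fintype.card {p : (F3 × F3 × F3) × (F3 × F3 × F3) // (ofRows p.1 p.2 (0, 0, 1)).det = 1} = 216 := by
  decide +kernel

theorem card_stab_two :
    Fintype.card {p : (F3 × F3 × F3) × (F3 × F3 × F3) // (ofRows p.1 (0, 1, 0) p.2).det = 1} = 216 := by
  decide +kernel

theorem three_cubes : ∀ A : S2, ∃ B C E : S2, B * B * B = 1 ∧ C * C * C = 1 ∧ E * E * E = 1 ∧
    A = B * C * E := by decide +kernel

namespace Cfg

variable {G : Type*} [Group G] [Finite G] (D : Cfg G)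

theorem card_S2 : Nat.card S2 = 24 := by rw [Nat.card_eq_fintype_card]; decide +kernel

theorem card_C : Nat.card D.C = 5832 := by
  have h := Subgroup.card_mul_index D.pi.ker
  rw [Subgroup.index_ker, MonoidHom.range_eq_top.2 D.pi_surj, Subgroup.card_top, card_S2] at h
  have e : D.pi.ker = D.Q.subgroupOf D.C := by
    ext c; rw [MonoidHom.mem_ker, Subgroup.mem_subgroupOf, D.pi_ker]
  rw [e, Nat.card_congr (Subgroup.subgroupOfEquivOfLe D.Q_le).toEquiv, D.card_Q] at h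
  exact h.symm.trans (by norm_num)

/-- A function to `ZMod 3` multiplicative on the centralizer is trivial if its square is. -/
theorem det_trivial (f : D.C → F3) (hm : ∀ a b, f (a * b) = f a * f b) (h0 : ∀ a, f a ≠ 0)
    (c : D.C) : f c = 1 := by
  have h1 : f 1 = 1 := mul_left_cancel₀ (h0 1) (by rw [← hm, mul_one, mul_one])
  have hc : ∀ a : D.C, a * a * a = 1 → f a = 1 := fun a ha => by
    have h : f a * f a * f a = 1 := by rw [← hm, ← hm, ha, h1]
    revert h; generalize f a = x; revert x; decide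
  have hQ : ∀ a : D.C, (a : G) ∈ D.Q → f a = 1 := fun a ha => hc a (Subtype.ext (D.exp _ ha))
  have hpi : ∀ A : S2, A * A * A = 1 → ∀ a : D.C, D.pi a = A → f a = 1 := by
    intro A hA a ha
    have h : f a * f a * f a = 1 := by
      rw [← hm, ← hm]
      exact hQ _ ((D.pi_ker _).1 (by rw [map_mul, map_mul, ha, hA]))
    revert h; generalize f a = x; revert x; decide
  obtain ⟨B, C, E, hB, hC, hE, e⟩ := three_cubes (D.pi c)
  obtain ⟨b, hb⟩ := D.pi_surj B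
  obtain ⟨b', hb'⟩ := D.pi_surj C
  obtain ⟨b'', hb''⟩ := D.pi_surj E
  have hq : f ((b * b' * b'')⁻¹ * c) = 1 := hQ _ ((D.pi_ker _).1 (by
    rw [map_mul, map_inv, map_mul, map_mul, hb, hb', hb'', e, inv_mul_cancel]))
  rw [show c = b * b' * b'' * ((b * b' * b'')⁻¹ * c) by group, hm, hm, hm, hq, hpi B hB b hb,
    hpi C hC b' hb', hpi E hE b'' hb'', one_mul, one_mul, one_mul]

omit [Finite G] in
theorem mem_C_conj {g : G} (c : D.C) : (g * (c : G) * g⁻¹) * (g * D.z * g⁻¹) =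
    (g * D.z * g⁻¹) * (g * (c : G) * g⁻¹) := by
  calc _ = g * ((c : G) * D.z) * g⁻¹ := by group
    _ = g * (D.z * (c : G)) * g⁻¹ := by rw [D.comm_z c.2]
    _ = _ := by group

/-- A subgroup of order `729` of the centralizer splits over the meet. -/
theorem exists_sylow_complement {g : G} (hM : D.Meet g) :
    ∃ U A : Subgroup G, U ≤ D.C ∧ D.meet g ≤ U ∧ Nat.card U = 729 ∧ A ≤ U ∧
      (∀ a ∈ A, a ∈ D.meet g → a = 1) ∧ ∀ c ∈ U, ∃ l ∈ D.meet g, ∃ a ∈ A, c = l * a := by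
  obtain ⟨B, hBQ, hBc, hBn, hBL, hsupp⟩ := hM.supp
  obtain ⟨x, hxQ, hx1, hxy⟩ := hM.quad
  set y := g * D.z * g⁻¹ with hydef
  obtain ⟨hy, hyg⟩ := D.mem_meet.1 hM.y_mem
  have hyz : y ∉ Subgroup.zpowers D.z := by
    obtain ⟨a, -, -, hind⟩ := hM.coord
    intro h
    obtain ⟨i, hi⟩ := D.mem_zpowers h
    have := hind i (-1) 0 (by
      rw [ZMod.val_zero, pow_zero, mul_one, ← hi, show ((-1 : F3)).val = 2 from rfl, pow_two, ← hydef,
        ← mul_assoc]
      calc y * y * y = g * (D.z * D.z * D.z) * g⁻¹ := by rw [hydef]; group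
        _ = 1 := by rw [D.z_cube]; group)
    exact absurd this.2.1 (by decide)
  obtain ⟨t, htπ, hty, htinv⟩ := D.exists_inverter hy hyz
  -- `t` normalises the conjugate of `Q`
  set h := g⁻¹ * (t : G) * g with hhdef
  have hh : h * D.z * h⁻¹ ∈ Subgroup.zpowers D.z := by
    have : h * D.z * h⁻¹ = D.z⁻¹ := by
      calc h * D.z * h⁻¹ = g⁻¹ * ((t : G) * y * (t : G)⁻¹) * g := by rw [hhdef, hydef]; group
        _ = D.z⁻¹ := by rw [hty]; group
    rw [this]; exact inv_mem (Subgroup.mem_zpowers _)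
  set q : G := (x : G) * t * (x : G)⁻¹ * (t : G)⁻¹ with hqdef
  have hqQ : q ∈ D.Q := by
    refine (D.pi_ker (x * t * x⁻¹ * t⁻¹)).1 ?_
    rw [map_mul, map_mul, map_mul, map_inv, map_inv, htπ, ng_central, mul_inv_cancel_right,
      mul_inv_cancel]
  have hqg : g⁻¹ * q * g ∈ D.Q := by
    have e : g⁻¹ * q * g = g⁻¹ * (x : G) * g * (h * (g⁻¹ * (x : G) * g)⁻¹ * h⁻¹) := by
      rw [hqdef, hhdef]; group
    rw [e]
    exact mul_mem hxQ (D.char h hh _ (inv_mem hxQ))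
  set s : D.C := ⟨q, D.Q_le hqQ⟩ * x with hsdef
  have hsg : g⁻¹ * (s : G) * g ∈ D.Q := by
    have e : g⁻¹ * (s : G) * g = g⁻¹ * q * g * (g⁻¹ * (x : G) * g) := by
      show g⁻¹ * (q * (x : G)) * g = _
      group
    rw [e]; exact mul_mem hqg hxQ
  have hs3 : (s : G) * s * s = 1 := by
    calc (s : G) * s * s
        = g * (g⁻¹ * s * g * (g⁻¹ * s * g) * (g⁻¹ * s * g)) * g⁻¹ := by group
      _ = 1 := by rw [D.exp _ hsg]; group
  have hsπ : D.pi s = D.pi x := by rw [hsdef, map_mul, (D.pi_ker ⟨q, _⟩).2 hqQ, one_mul]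
  have htt : (t : G) * t ∈ Subgroup.zpowers D.z := by
    have hQ : ((t * t : D.C) : G) ∈ D.Q := (D.pi_ker _).1 (by rw [map_mul, htπ, ng_ne.2])
    obtain ⟨i, hi⟩ := D.mem_zpowers (htinv _ hQ)
    rw [show (t : G) * ((t * t : D.C) : G) * (t : G)⁻¹ * ((t * t : D.C) : G) =
      ((t * t : D.C) : G) * ((t * t : D.C) : G) by simp [mul_assoc]] at hi
    have h4 := D.exp _ hQ
    rw [hi] at h4
    have e : ((t * t : D.C) : G) = (D.z ^ i.val)⁻¹ := eq_inv_of_mul_eq_one_right h4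
    rw [show (t : G) * t = ((t * t : D.C) : G) from rfl, e]
    exact inv_mem (pow_mem (Subgroup.mem_zpowers _) _)
  obtain ⟨m, hm⟩ := D.mem_zpowers (htinv _ hqQ)
  have hst : (s : G) * t = t * s := by
    set e := D.z ^ m.val with hedef
    have htq : (t : G) * q⁻¹ * (t : G)⁻¹ = q * e⁻¹ := by
      rw [← hm]; group
    have h1 : (s : G) * t * (s : G)⁻¹ = e⁻¹ * t := by
      calc (s : G) * t * (s : G)⁻¹ = q * q * ((t : G) * q⁻¹ * (t : G)⁻¹) * t := by
            show q * (x : G) * t * (q * (x : G))⁻¹ = _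
            rw [hqdef]; group
        _ = q * q * q * e⁻¹ * t := by rw [htq]; group
        _ = e⁻¹ * t := by rw [D.exp q hqQ, one_mul]
    have h2 : (s : G) * (t * t) * (s : G)⁻¹ = (t : G) * t := D.conj_zpowers s.2 htt
    have hez : (t : G) * e⁻¹ = e⁻¹ * t :=
      D.zpowers_central (inv_mem (pow_mem (Subgroup.mem_zpowers _) _)) t.2
    have h3 : e⁻¹ * e⁻¹ = 1 := by
      refine mul_right_cancel (b := (t : G) * t) ?_
      rw [one_mul]
      conv_rhs => rw [← h2]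
      calc e⁻¹ * e⁻¹ * ((t : G) * t) = e⁻¹ * (e⁻¹ * t) * t := by group
        _ = e⁻¹ * (t * e⁻¹) * t := by rw [hez]
        _ = (e⁻¹ * t) * (e⁻¹ * t) := by group
        _ = _ := by rw [← h1]; group
    have h4 : e = 1 := by
      have h5 : e * e * e = 1 := D.exp e (D.Q.pow_mem D.z_mem _)
      rw [← mul_inv_rev, inv_eq_one] at h3
      rwa [h3, one_mul] at h5
    rw [h4, inv_one, one_mul] at h1
    rwa [mul_inv_eq_iff_eq_mul] at h1
  -- the inverted part of the supplement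
  let W : Subgroup G :=
    { carrier := {b | b ∈ B ∧ (t : G) * b * (t : G)⁻¹ = b⁻¹}
      one_mem' := ⟨one_mem _, by simp⟩
      mul_mem' := fun {a b} ⟨ha, ha'⟩ ⟨hb, hb'⟩ => ⟨mul_mem ha hb, by
        calc (t : G) * (a * b) * (t : G)⁻¹ = (t : G) * a * (t : G)⁻¹ * ((t : G) * b * (t : G)⁻¹) := by group
          _ = (b * a)⁻¹ := by rw [ha', hb', mul_inv_rev]
          _ = (a * b)⁻¹ := by rw [hBc a ha b hb]⟩
      inv_mem' := fun {a} ⟨ha, ha'⟩ => ⟨inv_mem ha, by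
        calc (t : G) * a⁻¹ * (t : G)⁻¹ = ((t : G) * a * (t : G)⁻¹)⁻¹ := by group
          _ = _ := by rw [ha']⟩ }
  have hWs : ∀ i : ℤ, ∀ b ∈ W, (s : G) ^ i * b * ((s : G) ^ i)⁻¹ ∈ W := by
    rintro i b ⟨hb, hb'⟩
    have hsi : Commute ((s : G) ^ i) t := Commute.zpow_left hst i
    refine ⟨hBn _ (Subgroup.zpow_mem _ s.2 i) b hb, ?_⟩
    calc (t : G) * ((s : G) ^ i * b * ((s : G) ^ i)⁻¹) * (t : G)⁻¹
        = ((t : G) * (s : G) ^ i) * b * ((t : G) * (s : G) ^ i)⁻¹ := by group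
      _ = (s : G) ^ i * ((t : G) * b * (t : G)⁻¹) * ((s : G) ^ i)⁻¹ := by rw [← hsi.eq]; group
      _ = _ := by rw [hb']; group
  let A : Subgroup G :=
    { carrier := {a | ∃ w ∈ W, ∃ i : ℤ, a = w * (s : G) ^ i}
      one_mem' := ⟨1, W.one_mem, 0, by simp⟩
      mul_mem' := by
        rintro a b ⟨w, hw, i, rfl⟩ ⟨w', hw', j, rfl⟩
        exact ⟨w * ((s : G) ^ i * w' * ((s : G) ^ i)⁻¹), mul_mem hw (hWs i w' hw'), i + j, by group⟩
      inv_mem' := by
        rintro a ⟨w, hw, i, rfl⟩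
        exact ⟨(s : G) ^ (-i) * w⁻¹ * ((s : G) ^ (-i))⁻¹, hWs _ _ (inv_mem hw), -i, by group⟩ }
  let U : Subgroup G := ((Subgroup.zpowers (D.pi x)).comap D.pi).map D.C.subtype
  have hUmem : ∀ c, c ∈ U ↔ ∃ h : c ∈ D.C, D.pi ⟨c, h⟩ ∈ Subgroup.zpowers (D.pi x) := fun c =>
    ⟨fun ⟨d, hd, e⟩ => e ▸ ⟨d.2, hd⟩, fun ⟨h, hc⟩ => ⟨⟨c, h⟩, hc, rfl⟩⟩
  refine ⟨U, A, Subgroup.map_subtype_le _, fun l hl => ?_, ?_, ?_, ?_, ?_⟩
  · have hlQ := (D.mem_meet.1 hl).1
    refine (hUmem l).2 ⟨D.Q_le hlQ, ?_⟩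
    rw [(D.pi_ker ⟨l, _⟩).2 hlQ]
    exact one_mem _
  · have ho : orderOf (D.pi x) = 3 := by
      refine orderOf_eq_prime ?_ hx1
      rw [← hsπ, ← map_pow, show s ^ 3 = 1 from Subtype.ext (by
        rw [Subgroup.coe_pow, pow_succ, pow_two, hs3]; rfl), map_one]
    show Nat.card (Subgroup.map D.C.subtype _) = 729
    rw [Subgroup.card_map_of_injective D.C.subtype_injective]
    have h := Subgroup.card_mul_index ((Subgroup.zpowers (D.pi x)).comap D.pi)
    rw [Subgroup.index_comap_of_surjective _ D.pi_surj, show Nat.card (Subgroup.centralizer ({D.z} : Set G)) = 5832 from D.card_C] at h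
    have h2 := Subgroup.card_mul_index (Subgroup.zpowers (D.pi x))
    rw [Nat.card_zpowers, ho, card_S2] at h2
    have : (Subgroup.zpowers (D.pi x)).index = 8 := by omega
    rw [this] at h
    exact Nat.eq_of_mul_eq_mul_right (by norm_num : 0 < 8) (h.trans (by norm_num))
  · rintro a ⟨w, hw, i, rfl⟩
    have hwQ := hBQ hw.1
    refine (hUmem _).2 ⟨mul_mem (D.Q_le hwQ) (Subgroup.zpow_mem _ s.2 i), ?_⟩
    rw [show (⟨w * (s : G) ^ i, _⟩ : D.C) = ⟨w, D.Q_le hwQ⟩ * s ^ i from Subtype.ext (by simp),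
      map_mul, map_zpow, (D.pi_ker ⟨w, _⟩).2 hwQ, one_mul, hsπ]
    exact Subgroup.zpow_mem_zpowers _ _
  · rintro a ⟨w, hw, i, rfl⟩ hl
    have hwQ := hBQ hw.1
    have hsi : ((s ^ i : D.C) : G) ∈ D.Q := by
      rw [show ((s ^ i : D.C) : G) = w⁻¹ * (w * (s : G) ^ i) by simp]
      exact mul_mem (inv_mem hwQ) (D.mem_meet.1 hl).1
    have hi : (3 : ℤ) ∣ i := by
      have h1 := (D.pi_ker (s ^ i)).2 hsi
      rw [map_zpow, hsπ, ← orderOf_dvd_iff_zpow_eq_one] at h1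
      rwa [orderOf_eq_prime (by rw [← hsπ, ← map_pow, show s ^ 3 = 1 from Subtype.ext (by
        rw [Subgroup.coe_pow, pow_succ, pow_two, hs3]; rfl), map_one]) hx1] at h1
    obtain ⟨j, rfl⟩ := hi
    have hs1 : (s : G) ^ (3 * j) = 1 := by
      rw [zpow_mul, show (3 : ℤ) = ((3 : ℕ) : ℤ) from rfl, zpow_natCast, pow_succ, pow_two, hs3,
        one_zpow]
    rw [hs1, mul_one] at hl ⊢
    have hwZ := hBL w hw.1 hl
    have h2 := hw.2
    rw [D.conj_zpowers t.2 hwZ] at h2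
    have h3 := D.exp w hwQ
    rwa [show w * w = 1 by nth_rewrite 1 [h2]; exact inv_mul_cancel w, one_mul] at h3
  · intro c hc
    obtain ⟨hcC, hcπ⟩ := (hUmem c).1 hc
    obtain ⟨i, hi⟩ := Subgroup.mem_zpowers_iff.1 hcπ
    have hQ : c * ((s : G) ^ i)⁻¹ ∈ D.Q := by
      refine (D.pi_ker (⟨c, hcC⟩ * (s ^ i)⁻¹)).1 ?_ |> fun h => by simpa using h
      rw [map_mul, map_inv, map_zpow, hsπ, hi, mul_inv_cancel]
    obtain ⟨l, hl, b, hb, hlb⟩ := hsupp _ hQ
    obtain ⟨k, hk⟩ := D.mem_zpowers (htinv b (hBQ hb))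
    refine ⟨l * (D.z ^ k.val)⁻¹, mul_mem hl (inv_mem (pow_mem hM.z_mem _)),
      b * D.z ^ k.val * (s : G) ^ i, ⟨b * D.z ^ k.val, ⟨mul_mem hb ?_, ?_⟩, i, rfl⟩, ?_⟩
    · rw [← hk]
      exact mul_mem (hBn _ t.2 b hb) hb
    · have hc : ∀ g ∈ D.C, g * D.z ^ k.val = D.z ^ k.val * g := fun g hg => D.pow_central _ hg
      calc (t : G) * (b * D.z ^ k.val) * (t : G)⁻¹
          = (t : G) * b * (t : G)⁻¹ * ((t : G) * D.z ^ k.val * (t : G)⁻¹) := by group
        _ = (t : G) * b * (t : G)⁻¹ * D.z ^ k.val := by rw [hc _ t.2, mul_inv_cancel_right]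
        _ = D.z ^ k.val * b⁻¹ * D.z ^ k.val := by rw [← hk]; group
        _ = b⁻¹ * (D.z ^ k.val * D.z ^ k.val) := by
          rw [← hc _ (inv_mem (D.Q_le (hBQ hb))), mul_assoc]
        _ = b⁻¹ * (D.z ^ k.val)⁻¹ := by
          rw [show D.z ^ k.val * D.z ^ k.val = (D.z ^ k.val)⁻¹ from
            eq_inv_of_mul_eq_one_left (D.exp _ (D.Q.pow_mem D.z_mem _))]
        _ = (b * D.z ^ k.val)⁻¹ := by
          rw [hc _ (D.Q_le (hBQ hb)), mul_inv_rev]
    · calc c = c * ((s : G) ^ i)⁻¹ * (s : G) ^ i := by group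
        _ = l * (D.z ^ k.val)⁻¹ * (D.z ^ k.val * b) * (s : G) ^ i := by rw [hlb]; group
        _ = _ := by rw [← D.pow_central _ (D.Q_le (hBQ hb))]; group

/-- A function on a subgroup with fibres the cosets of `L` is onto a set of the index's size. -/
theorem onto_of_card {L H : Subgroup G} (hLH : L ≤ H) (hL : Nat.card L = 27) (hH : Nat.card H = 5832)
    {β : Type} [Fintype β] (hβ : Fintype.card β = 216) (f : H → β)
    (hf : ∀ h k : H, f h = f k ↔ (h : G)⁻¹ * k ∈ L) (b : β) : ∃ h, f h = b := by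
  let F : H ⧸ L.subgroupOf H → β := Quotient.lift f fun h k e => (hf h k).2 (by
    simpa [Subgroup.mem_subgroupOf] using QuotientGroup.leftRel_apply.1 e)
  have hF : Function.Injective F := by
    intro u v
    obtain ⟨h, rfl⟩ := QuotientGroup.mk_surjective u
    obtain ⟨k, rfl⟩ := QuotientGroup.mk_surjective v
    intro e
    exact QuotientGroup.eq.2 (by simpa [Subgroup.mem_subgroupOf] using (hf h k).1 e)
  have hc := Subgroup.card_eq_card_quotient_mul_card_subgroup (L.subgroupOf H)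
  rw [Nat.card_congr (Subgroup.subgroupOfEquivOfLe hLH).toEquiv, hL, hH] at hc
  have hb := (Nat.bijective_iff_injective_and_card F).2
    ⟨hF, by rw [Nat.card_eq_fintype_card (α := β), hβ]; omega⟩
  obtain ⟨u, hu⟩ := hb.2 b
  obtain ⟨h, rfl⟩ := QuotientGroup.mk_surjective u
  exact ⟨h, hu⟩

/-- A conjugate of `z` in `Q` outside `Z` gives an embedded parabolic containing the centralizer. -/
theorem exists_par {g : G} (hy : g * D.z * g⁻¹ ∈ D.Q)
    (hyz : g * D.z * g⁻¹ ∉ Subgroup.zpowers D.z) :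
    ∃ φ : Par →* G, Function.Injective φ ∧
      Subgroup.centralizer ({φ zPar} : Set G) ≤ φ.range := by
  classical
  have hM := D.exists_meet hy hyz
  have hM' : D.Meet g⁻¹ := by
    obtain ⟨hw, hwz⟩ := D.back_mem hy hyz
    exact D.exists_meet (g := g⁻¹) (by rwa [inv_inv]) (by rwa [inv_inv])
  obtain ⟨U, A, hUC, hLU, hUcard, hAU, hAL, hUdec⟩ := D.exists_sylow_complement hM
  obtain ⟨a, haL, hspan, hind⟩ := hM.coord
  have hyL := hM.y_mem
  have hzL := hM.z_mem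
  set y := g * D.z * g⁻¹ with hydef
  set L := D.meet g with hLdef
  have hLQ : ∀ l ∈ L, l ∈ D.Q := fun l hl => (D.mem_meet.1 hl).1
  have hcube : ∀ l ∈ L, l * l * l = 1 := fun l hl => D.exp l (hLQ l hl)
  have hL3 : ∀ l ∈ L, ∀ m n : F3, l ^ (m + n).val = l ^ m.val * l ^ n.val := by
    intro l hl m n
    have h3 : l ^ 3 = 1 := by rw [pow_succ, pow_two]; exact hcube l hl
    rw [← pow_add, ZMod.val_add, ← pow_eq_pow_mod _ h3]
  -- the coordinates
  let θ : F3 × F3 × F3 → G := fun v => a ^ v.1.val * y ^ v.2.1.val * D.z ^ v.2.2.val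
  have hθL : ∀ v, θ v ∈ L := fun v =>
    mul_mem (mul_mem (pow_mem haL _) (pow_mem hyL _)) (pow_mem hzL _)
  have hcm : ∀ l ∈ L, ∀ m ∈ L, Commute l m := fun l hl m hm => hM.comm l hl m hm
  have hθswap : ∀ v, θ v = D.z ^ v.2.2.val * y ^ v.2.1.val * a ^ v.1.val := by
    intro v
    have c1 := (hcm a haL y hyL).pow_pow v.1.val v.2.1.val
    have c2 := (hcm _ (mul_mem (pow_mem hyL v.2.1.val) (pow_mem haL v.1.val)) _
      (pow_mem hzL v.2.2.val))
    show a ^ v.1.val * y ^ v.2.1.val * D.z ^ v.2.2.val = _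
    rw [c1.eq, c2.eq, mul_assoc]
  have hθadd : ∀ v w, θ (v + w) = θ v * θ w := by
    intro v w
    show a ^ (v + w).1.val * y ^ (v + w).2.1.val * D.z ^ (v + w).2.2.val = _
    rw [Prod.fst_add, Prod.snd_add, Prod.fst_add, Prod.snd_add, hL3 a haL, hL3 y hyL, hL3 _ hzL]
    have c1 : Commute (a ^ w.1.val) (y ^ v.2.1.val * D.z ^ v.2.2.val) :=
      hcm _ (pow_mem haL _) _ (mul_mem (pow_mem hyL _) (pow_mem hzL _))
    have c2 : Commute (y ^ w.2.1.val) (D.z ^ v.2.2.val) := hcm _ (pow_mem hyL _) _ (pow_mem hzL _)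
    calc a ^ v.1.val * a ^ w.1.val * (y ^ v.2.1.val * y ^ w.2.1.val) *
          (D.z ^ v.2.2.val * D.z ^ w.2.2.val)
        = a ^ v.1.val * (a ^ w.1.val * (y ^ v.2.1.val * (y ^ w.2.1.val * D.z ^ v.2.2.val))) *
            D.z ^ w.2.2.val := by simp only [mul_assoc]
      _ = a ^ v.1.val * ((y ^ v.2.1.val * D.z ^ v.2.2.val) * a ^ w.1.val * y ^ w.2.1.val) *
            D.z ^ w.2.2.val := by rw [c2.eq, ← mul_assoc (y ^ v.2.1.val), ← mul_assoc (a ^ w.1.val), c1.eq]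
      _ = θ v * θ w := by simp only [θ, mul_assoc]
  have hθinj : Function.Injective θ := by
    intro v w h
    have h0 : θ (v - w) = 1 := by
      refine mul_right_cancel (b := θ w) ?_
      rw [← hθadd, sub_add_cancel, one_mul, h]
    rw [hθswap] at h0
    obtain ⟨e1, e2, e3⟩ := hind _ _ _ h0
    exact sub_eq_zero.1 (Prod.ext e3 (Prod.ext e2 e1))
  have hθsurj : ∀ l ∈ L, ∃ v, θ v = l := fun l hl => by
    obtain ⟨i, j, k, e⟩ := hspan l hl
    exact ⟨(k, j, i), by rw [hθswap]; exact e.symm⟩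
  have hLcard : Nat.card L = 27 := by
    rw [← Nat.card_congr (Equiv.ofBijective (fun v => (⟨θ v, hθL v⟩ : L))
      ⟨fun v w h => hθinj (congrArg Subtype.val h),
        fun l => by obtain ⟨v, hv⟩ := hθsurj l.1 l.2; exact ⟨v, Subtype.ext hv⟩⟩)]
    simp
  have hθsmul : ∀ (n : F3) v, θ (n * v.1, n * v.2.1, n * v.2.2) = θ v ^ n.val := by
    intro n v
    have e : ∀ m : ℕ, θ ((m : F3) * v.1, (m : F3) * v.2.1, (m : F3) * v.2.2) = θ v ^ m := by
      intro m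
      induction m with
      | zero => simp [θ]
      | succ m ih =>
        rw [pow_succ, ← ih, ← hθadd]
        congr 1
        simp [Prod.ext_iff, add_mul]
    have := e n.val
    rwa [ZMod.natCast_zmod_val] at this
  let co : G → F3 × F3 × F3 := fun l => if h : ∃ v, θ v = l then h.choose else 0
  have hco : ∀ l ∈ L, θ (co l) = l := fun l hl => by
    simp only [co, dif_pos (hθsurj l hl)]
    exact (hθsurj l hl).choose_spec
  -- the normaliser and its action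
  set N := Subgroup.normalizer (L : Set G) with hN
  have hNconj : ∀ n ∈ N, ∀ l ∈ L, n⁻¹ * l * n ∈ L := fun n hn l hl => by
    simpa using (Subgroup.mem_normalizer_iff.1 (N.inv_mem hn) l).1 hl
  let ρ : G → M3 := fun n => ofRows (co (n⁻¹ * a * n)) (co (n⁻¹ * y * n)) (co (n⁻¹ * D.z * n))
  have hρ : ∀ n ∈ N, ∀ v, θ (rowMul v (ρ n)) = n⁻¹ * θ v * n := by
    intro n hn v
    have hs : rowMul v (ρ n) =
        (v.1 * (co (n⁻¹ * a * n)).1, v.1 * (co (n⁻¹ * a * n)).2.1, v.1 * (co (n⁻¹ * a * n)).2.2) +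
        (v.2.1 * (co (n⁻¹ * y * n)).1, v.2.1 * (co (n⁻¹ * y * n)).2.1, v.2.1 * (co (n⁻¹ * y * n)).2.2) +
        (v.2.2 * (co (n⁻¹ * D.z * n)).1, v.2.2 * (co (n⁻¹ * D.z * n)).2.1,
          v.2.2 * (co (n⁻¹ * D.z * n)).2.2) := rfl
    rw [hs, hθadd, hθadd, hθsmul, hθsmul, hθsmul, hco _ (hNconj n hn a haL),
      hco _ (hNconj n hn y hyL), hco _ (hNconj n hn _ hzL)]
    have ep : ∀ (l : G) (k : ℕ), (n⁻¹ * l * n) ^ k = n⁻¹ * l ^ k * n := fun l k => by
      rw [show n⁻¹ * l * n = n⁻¹ * l * n⁻¹⁻¹ by rw [inv_inv], conj_pow, inv_inv]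
    rw [ep, ep, ep]
    simp only [θ]
    group
  have hρeq : ∀ n ∈ N, ∀ M : M3, (∀ v, θ (rowMul v M) = n⁻¹ * θ v * n) → ρ n = M := by
    intro n hn M h
    have e : ∀ v, rowMul v (ρ n) = rowMul v M := fun v => hθinj ((hρ n hn v).trans (h v).symm)
    rw [eq_ofRows M, eq_ofRows (ρ n), e, e, e]
  have hρmul : ∀ n ∈ N, ∀ m ∈ N, ρ (n * m) = M3.mul (ρ n) (ρ m) := fun n hn m hm =>
    hρeq _ (N.mul_mem hn hm) _ fun v => by rw [rowMul_mul, hρ m hm, hρ n hn]; group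
  have hρone : ρ 1 = M3.one := hρeq 1 N.one_mem _ fun v => by
    rw [show rowMul v M3.one = v by simp [rowMul, M3.one]]; group
  have hLN : L ≤ N := Subgroup.le_normalizer
  have hρker : ∀ n ∈ N, ρ n = M3.one ↔ n ∈ L := by
    intro n hn
    refine ⟨fun h => hM.self (Subgroup.mem_centralizer_iff.2 fun l hl => ?_), fun h => hρeq n hn _ fun v => ?_⟩
    · obtain ⟨v, rfl⟩ := hθsurj l hl
      have := hρ n hn v
      rw [h, show rowMul v M3.one = v by simp [rowMul, M3.one]] at this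
      calc θ v * n = n * (n⁻¹ * θ v * n) := by group
        _ = n * θ v := by rw [← this]
    · rw [show rowMul v M3.one = v by simp [rowMul, M3.one], mul_assoc, hM.comm (θ v) (hθL v) n h,
        inv_mul_cancel_left]
  have hρcoset : ∀ h ∈ N, ∀ k ∈ N, ρ h = ρ k ↔ h⁻¹ * k ∈ L := by
    intro h hh k hk
    rw [← hρker _ (mul_mem (inv_mem hh) hk), hρmul _ (inv_mem hh) _ hk]
    constructor
    · intro e; rw [← e, ← hρmul _ (inv_mem hh) _ hh, inv_mul_cancel, hρone]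
    · intro e
      have := congrArg (M3.mul (ρ h)) e
      rw [← M3.mul_assoc', ← hρmul _ hh _ (inv_mem hh), mul_inv_cancel, hρone, M3.one_mul',
        M3.mul_one'] at this
      exact this.symm
  have hdetne : ∀ n ∈ N, (ρ n).det ≠ 0 := fun n hn h0 => by
    have := congrArg M3.det (hρmul n hn n⁻¹ (inv_mem hn))
    rw [mul_inv_cancel, hρone, M3.det_mul', h0, zero_mul] at this
    exact absurd this (by decide)
  have hCN : D.C ≤ N := fun c hc => Subgroup.mem_normalizer_iff.2 fun l => ⟨hM.normal c hc l, fun h => by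
    have := hM.normal c⁻¹ (inv_mem hc) _ h
    simpa [mul_assoc] using this⟩
  have hgN : ∀ c ∈ D.C, g * c * g⁻¹ ∈ N := by
    have key : ∀ c ∈ D.C, ∀ l ∈ L, g * c * g⁻¹ * l * (g * c * g⁻¹)⁻¹ ∈ L := by
      intro c hc l hl
      obtain ⟨h1, h2⟩ := D.mem_meet.1 hl
      have h := hM'.normal c hc (g⁻¹ * l * g) (D.mem_meet.2 ⟨h2, by simpa [mul_assoc] using h1⟩)
      obtain ⟨h3, h4⟩ := D.mem_meet.1 h
      rw [inv_inv] at h4
      refine D.mem_meet.2 ⟨?_, ?_⟩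
      · rw [show g * c * g⁻¹ * l * (g * c * g⁻¹)⁻¹ = g * (c * (g⁻¹ * l * g) * c⁻¹) * g⁻¹ by group]
        exact h4
      · rw [show g⁻¹ * (g * c * g⁻¹ * l * (g * c * g⁻¹)⁻¹) * g = c * (g⁻¹ * l * g) * c⁻¹ by group]
        exact h3
    intro c hc
    refine Subgroup.mem_normalizer_iff.2 fun l => ⟨key c hc l, fun h => ?_⟩
    have := key c⁻¹ (inv_mem hc) _ h
    simpa [mul_assoc] using this
  have hdetC : ∀ c ∈ D.C, (ρ c).det = 1 := fun c hc =>
    D.det_trivial (fun c => (ρ (c : G)).det)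
      (fun u v => by rw [Subgroup.coe_mul, hρmul _ (hCN u.2) _ (hCN v.2), M3.det_mul'])
      (fun u => hdetne _ (hCN u.2)) ⟨c, hc⟩
  have hdetg : ∀ c ∈ D.C, (ρ (g * c * g⁻¹)).det = 1 := fun c hc =>
    D.det_trivial (fun c => (ρ (g * (c : G) * g⁻¹)).det)
      (fun u v => by
        rw [Subgroup.coe_mul, show g * ((u : G) * v) * g⁻¹ = g * u * g⁻¹ * (g * v * g⁻¹) by group,
          hρmul _ (hgN _ u.2) _ (hgN _ v.2), M3.det_mul'])
      (fun u => hdetne _ (hgN _ u.2)) ⟨c, hc⟩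
  have hθz : θ (0, 0, 1) = D.z := by simp [θ, ZMod.val_one]
  have hθy : θ (0, 1, 0) = y := by simp [θ, ZMod.val_one]
  have hrow3 : ∀ c ∈ N, c * D.z = D.z * c → rowMul (0, 0, 1) (ρ c) = (0, 0, 1) := fun c hc e =>
    hθinj (by rw [hρ c hc, hθz, mul_assoc, ← e, inv_mul_cancel_left])
  have hrow2 : ∀ c ∈ N, c * y = y * c → rowMul (0, 1, 0) (ρ c) = (0, 1, 0) := fun c hc e =>
    hθinj (by rw [hρ c hc, hθy, mul_assoc, ← e, inv_mul_cancel_left])
  -- the two stabilisers are in the image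
  have him3 : ∀ r r', (ofRows r r' (0, 0, 1)).det = 1 → ∃ c ∈ D.C, ρ c = ofRows r r' (0, 0, 1) := by
    intro r r' h
    have hrow : ∀ c : D.C, ρ (c : G) = ofRows (rowMul (1, 0, 0) (ρ c)) (rowMul (0, 1, 0) (ρ c)) (0, 0, 1) :=
      fun c => by conv_lhs => rw [eq_ofRows (ρ (c : G)), hrow3 _ (hCN c.2) (D.comm_z c.2)]
    obtain ⟨c, hc⟩ := onto_of_card (L := L) (H := D.C) (fun l hl => D.Q_le (hLQ l hl)) hLcard D.card_C
      card_stab_three (fun c => ⟨(rowMul (1, 0, 0) (ρ c), rowMul (0, 1, 0) (ρ c)),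
        (congrArg M3.det (hrow c)).symm.trans (hdetC c c.2)⟩)
      (fun u v => by
        rw [Subtype.mk.injEq, ← hρcoset _ (hCN u.2) _ (hCN v.2)]
        constructor
        · intro e; obtain ⟨e1, e2⟩ := Prod.ext_iff.1 e; simp only at e1 e2; rw [hrow u, hrow v, e1, e2]
        · intro e; rw [e]) ⟨(r, r'), h⟩
    refine ⟨c, c.2, (hrow c).trans ?_⟩
    have e := congrArg Subtype.val hc
    simp only [Prod.mk.injEq] at e
    rw [e.1, e.2]
  have him2 : ∀ r r', (ofRows r (0, 1, 0) r').det = 1 → ∃ c ∈ N, ρ c = ofRows r (0, 1, 0) r' := by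
    intro r r' h
    let H : Subgroup G := D.C.map (MulAut.conj g).toMonoidHom
    have hHmem : ∀ c : H, ∃ d ∈ D.C, (c : G) = g * d * g⁻¹ := fun c => by
      obtain ⟨d, hd, e⟩ := c.2
      exact ⟨d, hd, e.symm.trans (by simp)⟩
    have hHN : ∀ c : H, (c : G) ∈ N := fun c => by
      obtain ⟨d, hd, e⟩ := hHmem c; rw [e]; exact hgN d hd
    have hLH : L ≤ H := fun l hl => ⟨g⁻¹ * l * g, D.Q_le (D.mem_meet.1 hl).2, by simp [mul_assoc]⟩
    have hHcard : Nat.card H = 5832 := by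
      rw [Subgroup.card_map_of_injective (MulAut.conj g).injective, D.card_C]
    have hrow : ∀ c : H, ρ (c : G) = ofRows (rowMul (1, 0, 0) (ρ c)) (0, 1, 0) (rowMul (0, 0, 1) (ρ c)) :=
      fun c => by
        obtain ⟨d, hd, e⟩ := hHmem c
        have hcy : (c : G) * y = y * c := by rw [e, hydef]; exact D.mem_C_conj ⟨d, hd⟩
        conv_lhs => rw [eq_ofRows (ρ (c : G)), hrow2 _ (hHN c) hcy]
    obtain ⟨c, hc⟩ := onto_of_card hLH hLcard hHcard
      card_stab_two (fun c => ⟨(rowMul (1, 0, 0) (ρ c), rowMul (0, 0, 1) (ρ c)),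
        (congrArg M3.det (hrow c)).symm.trans (by
          obtain ⟨d, hd, e⟩ := hHmem c; rw [e]; exact hdetg d hd)⟩)
      (fun u v => by
        rw [Subtype.mk.injEq, ← hρcoset _ (hHN u) _ (hHN v)]
        constructor
        · intro e; obtain ⟨e1, e2⟩ := Prod.ext_iff.1 e; simp only at e1 e2; rw [hrow u, hrow v, e1, e2]
        · intro e; rw [e]) ⟨(r, r'), h⟩
    refine ⟨c, hHN c, (hrow c).trans ?_⟩
    have e := congrArg Subtype.val hc
    simp only [Prod.mk.injEq] at e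
    rw [e.1, e.2]
  have hreach : ∀ r : F3 × F3 × F3, r ≠ 0 →
      ∃ n ∈ N, rowMul (0, 0, 1) (ρ n) = r ∧ (ρ n).det = 1 := by
    have h1 : ∀ r : F3 × F3 × F3, r.1 ≠ 0 ∨ r.2.2 ≠ 0 →
        ∃ n ∈ N, rowMul (0, 0, 1) (ρ n) = r ∧ (ρ n).det = 1 := fun r hr => by
      obtain ⟨r', hr'⟩ := row_three r hr
      obtain ⟨n, hn, e⟩ := him2 _ _ hr'
      exact ⟨n, hn, by rw [e]; simp [rowMul, ofRows], by rw [e]; exact hr'⟩
    intro r hr
    by_cases hr' : r.1 ≠ 0 ∨ r.2.2 ≠ 0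
    · exact h1 r hr'
    · push Not at hr'
      obtain ⟨r', hr''⟩ := row_middle r hr'.1 hr'.2 fun h => hr (Prod.ext hr'.1 (Prod.ext h hr'.2))
      obtain ⟨c, hc, e⟩ := him3 _ _ hr''
      obtain ⟨n, hn, en, hd⟩ := h1 (1, 0, 0) (Or.inl (by decide))
      refine ⟨n * c, mul_mem hn (hCN hc), ?_, ?_⟩
      · rw [hρmul n hn c (hCN hc), rowMul_mul, en, e]; simp [rowMul, ofRows]
      · rw [hρmul n hn c (hCN hc), M3.det_mul', hd, e, hr'', mul_one]
  have hcorr : ∀ n ∈ N, ∀ m ∈ N, rowMul (0, 0, 1) (ρ m) = rowMul (0, 0, 1) (ρ n) →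
      n * m⁻¹ ∈ D.C := by
    intro n hn m hm e
    refine Subgroup.mem_centralizer_singleton_iff.2 ?_
    have e' : n⁻¹ * D.z * n = m⁻¹ * D.z * m := by
      rw [← hθz, ← hρ n hn, ← hρ m hm, e]
    calc n * m⁻¹ * D.z = n * (m⁻¹ * D.z * m) * m⁻¹ := by group
      _ = n * (n⁻¹ * D.z * n) * m⁻¹ := by rw [e']
      _ = D.z * (n * m⁻¹) := by group
  have hdetN : ∀ n ∈ N, (ρ n).det = 1 := by
    intro n hn
    obtain ⟨m, hm, e, hd⟩ := hreach (rowMul (0, 0, 1) (ρ n)) fun h0 => by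
      have := hρ n hn (0, 0, 1)
      rw [h0, show θ 0 = 1 by simp [θ], hθz] at this
      exact D.z_ne (by
        calc D.z = n * (n⁻¹ * D.z * n) * n⁻¹ := by group
          _ = 1 := by rw [← this]; group)
    have hd' := hdetC _ (hcorr n hn m hm e)
    rw [show n = n * m⁻¹ * m by group, hρmul _ (hCN (hcorr n hn m hm e)) m hm, M3.det_mul', hd', hd,
      one_mul]
  have hfull : ∀ M : M3, M.det = 1 → ∃ n ∈ N, ρ n = M := by
    intro M hM1
    obtain ⟨m, hm, e, hd⟩ := hreach (rowMul (0, 0, 1) M) fun h0 => by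
      have h := hM1
      rw [eq_ofRows M, h0] at h
      simp [ofRows, M3.det] at h
    have hm1 : M3.mul (ρ m⁻¹) (ρ m) = M3.one := by
      rw [← hρmul _ (inv_mem hm) _ hm, inv_mul_cancel, hρone]
    have h3 : rowMul (0, 0, 1) (M3.mul M (ρ m⁻¹)) = (0, 0, 1) := by
      rw [rowMul_mul, ← e, ← rowMul_mul, ← hρmul _ hm _ (inv_mem hm), mul_inv_cancel, hρone]
      simp [rowMul, M3.one]
    have hdM : (M3.mul M (ρ m⁻¹)).det = 1 := by rw [M3.det_mul', hM1, hdetN _ (inv_mem hm), one_mul]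
    rw [eq_ofRows (M3.mul M (ρ m⁻¹)), h3] at hdM
    obtain ⟨c, hc, ec⟩ := him3 _ _ hdM
    refine ⟨c * m, mul_mem (hCN hc) hm, ?_⟩
    rw [hρmul c (hCN hc) m hm, ec]
    conv_lhs => arg 1; rw [← h3, ← eq_ofRows]
    rw [M3.mul_assoc', hm1, M3.mul_one']
  -- the complement
  let K : Subgroup N := L.subgroupOf N
  have hKn : K.Normal := Subgroup.normal_in_normalizer
  have : IsMulCommutative K := ⟨⟨fun u v => Subtype.ext (Subtype.ext (hM.comm _ u.2 _ v.2))⟩⟩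
  have hUN : U ≤ N := hUC.trans hCN
  let U' : Subgroup N := U.subgroupOf N
  let A' : Subgroup N := A.subgroupOf N
  have hKU : K ≤ U' := fun n hn => hLU hn
  have hAK : A' ⊓ K = ⊥ := eq_bot_iff.2 fun n hn => Subgroup.mem_bot.2
    (Subtype.ext (hAL _ hn.1 hn.2))
  have hKA : K ⊔ A' = U' := by
    refine le_antisymm (sup_le hKU fun n hn => hAU hn) fun n hn => ?_
    obtain ⟨l, hl, x, hx, e⟩ := hUdec _ hn
    have hxN : x ∈ N := hUN (hAU hx)
    rw [show n = (⟨l, hLN hl⟩ : N) * ⟨x, hxN⟩ from Subtype.ext e]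
    exact Subgroup.mul_mem_sup (show (⟨l, hLN hl⟩ : N) ∈ K from hl) (show (⟨x, hxN⟩ : N) ∈ A' from hx)
  have hKcard : Nat.card K = 27 := by
    rw [Nat.card_congr (Subgroup.subgroupOfEquivOfLe hLN).toEquiv, hLcard]
  have hSL : Nat.card {M : M3 // M.det = 1} = 5616 := by
    have e : Af ≃ (F3 × F3 × F3) × {M : M3 // M.det = 1} :=
      { toFun := fun x => ((x.1.v0, x.1.v1, x.1.v2), ⟨x.1.m, x.2⟩)
        invFun := fun p => ⟨⟨p.1.1, p.1.2.1, p.1.2.2, p.2.1⟩, p.2.2⟩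
        left_inv := fun _ => rfl
        right_inv := fun _ => rfl }
    have h := Nat.card_congr e
    rw [Af.card, Nat.card_prod, Nat.card_prod, Nat.card_prod, Nat.card_zmod] at h
    omega
  have hNcard : Nat.card N = 27 * 5616 := by
    let f : N ⧸ K → {M : M3 // M.det = 1} := Quotient.lift (fun n : N => ⟨ρ n, hdetN n n.2⟩)
      fun u v e => Subtype.ext ((hρcoset _ u.2 _ v.2).2 (by
        simpa [K, Subgroup.mem_subgroupOf] using QuotientGroup.leftRel_apply.1 e))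
    have hf : Function.Bijective f := ⟨fun p q => by
        obtain ⟨u, rfl⟩ := QuotientGroup.mk_surjective p
        obtain ⟨v, rfl⟩ := QuotientGroup.mk_surjective q
        intro e
        exact QuotientGroup.eq.2 ((hρcoset _ u.2 _ v.2).1 (congrArg Subtype.val e)),
      fun M => by
        obtain ⟨n, hn, e⟩ := hfull M.1 M.2
        exact ⟨QuotientGroup.mk (⟨n, hn⟩ : N), Subtype.ext e⟩⟩
    rw [Subgroup.card_eq_card_quotient_mul_card_subgroup K, Nat.card_congr (Equiv.ofBijective f hf),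
      hSL, hKcard, mul_comm]
  have hcop : (Nat.card K).Coprime U'.index := by
    have h := Subgroup.card_mul_index U'
    rw [Nat.card_congr (Subgroup.subgroupOfEquivOfLe hUN).toEquiv, hUcard, hNcard] at h
    have : U'.index = 208 := by omega
    rw [hKcard, this]
    decide
  obtain ⟨H, hH⟩ := Solvable.gaschutz_exists hKU hcop hAK hKA
  have hsec : ∀ M : {M : M3 // M.det = 1}, ∃ h : N, h ∈ H ∧ ρ h = M.1 := by
    intro M
    obtain ⟨n, hn, e⟩ := hfull M.1 M.2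
    obtain ⟨⟨k, h⟩, hkh, -⟩ := Subgroup.IsComplement.existsUnique hH (⟨n, hn⟩ : N)
    refine ⟨h, h.2, ?_⟩
    have hn' : (k : N).1 * (h : N).1 = n := congrArg Subtype.val hkh
    rw [← e, ← hn', hρmul _ (k : N).2 _ (h : N).2,
      (hρker _ (k : N).2).2 k.2, M3.one_mul']
  choose sec hsecH hsecρ using hsec
  have huniq : ∀ h h' : N, h ∈ H → h' ∈ H → ρ h = ρ h' → h = h' := by
    intro h h' hh hh' e
    have h1 : h⁻¹ * h' ∈ K ⊓ H := ⟨(hρcoset _ h.2 _ h'.2).1 e, H.mul_mem (H.inv_mem hh) hh'⟩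
    rw [hH.disjoint.eq_bot, Subgroup.mem_bot] at h1
    exact inv_mul_eq_one.1 h1
  let Ψ : Af →* G := MonoidHom.mk'
    (fun x => (sec ⟨x.1.m, x.2⟩ : G) * θ (x.1.v0, x.1.v1, x.1.v2)) fun u v => by
      set sA := sec ⟨u.1.m, u.2⟩
      set sB := sec ⟨v.1.m, v.2⟩
      have e : sec ⟨(u * v).1.m, (u * v).2⟩ = sA * sB := by
        refine huniq _ _ (hsecH _) (mul_mem (hsecH _) (hsecH _)) ?_
        rw [Subgroup.coe_mul, hρmul _ sA.2 _ sB.2, hsecρ, hsecρ, hsecρ]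
        rfl
      have e2 : ((u * v).1.v0, (u * v).1.v1, (u * v).1.v2) =
          rowMul (u.1.v0, u.1.v1, u.1.v2) v.1.m + (v.1.v0, v.1.v1, v.1.v2) := by
        simp only [Af.val_mul, Raw.mul, rowMul, Prod.mk_add_mk, Prod.mk.injEq]
        refine ⟨?_, ?_, ?_⟩ <;> ring
      rw [e, e2, hθadd, Subgroup.coe_mul]
      conv_lhs => rw [show v.1.m = ρ (sB : G) from (hsecρ ⟨v.1.m, v.2⟩).symm, hρ _ sB.2]
      group
  have hΨinj : Function.Injective Ψ := by
    rw [injective_iff_map_eq_one]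
    intro x hx
    have hx' : (sec ⟨x.1.m, x.2⟩ : G) * θ (x.1.v0, x.1.v1, x.1.v2) = 1 := hx
    have hs : (sec ⟨x.1.m, x.2⟩ : G) ∈ L := by
      rw [eq_inv_of_mul_eq_one_left hx']; exact inv_mem (hθL _)
    have hm : x.1.m = M3.one := by
      rw [← (hρker _ (sec ⟨x.1.m, x.2⟩).2).2 hs]; exact (hsecρ ⟨x.1.m, x.2⟩).symm
    have hs1 : sec ⟨x.1.m, x.2⟩ = 1 := huniq _ _ (hsecH _) (one_mem _) (by
      rw [hsecρ, OneMemClass.coe_one, hρone]; exact hm)
    rw [hs1, OneMemClass.coe_one, one_mul, ← show θ 0 = 1 by simp [θ]] at hx'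
    have hv := hθinj hx'
    simp only [Prod.ext_iff, Prod.fst_zero, Prod.snd_zero] at hv
    obtain ⟨⟨v0, v1, v2, m⟩, hd⟩ := x
    obtain ⟨rfl, rfl, rfl⟩ := hv
    simp only at hm
    subst hm
    rfl
  have hrange : ∀ n ∈ N, n ∈ Ψ.range := by
    intro n hn
    set h := sec ⟨ρ n, hdetN n hn⟩
    have hl : (h : G)⁻¹ * n ∈ L := (hρcoset _ h.2 _ hn).1 (hsecρ _)
    obtain ⟨v, hv⟩ := hθsurj _ hl
    refine ⟨⟨⟨v.1, v.2.1, v.2.2, ρ n⟩, hdetN n hn⟩, ?_⟩
    show (h : G) * θ (v.1, v.2.1, v.2.2) = n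
    rw [show ((v.1, v.2.1, v.2.2) : F3 × F3 × F3) = v from rfl, hv, mul_inv_cancel_left]
  have hΨz : Ψ Af.z = D.z := by
    show (sec ⟨Af.z.1.m, Af.z.2⟩ : G) * θ (0, 0, 1) = D.z
    rw [huniq _ 1 (hsecH _) (one_mem _) (by rw [hsecρ, OneMemClass.coe_one, hρone]; rfl),
      OneMemClass.coe_one, one_mul, hθz]
  refine ⟨Ψ.comp Af.toPar.symm.toMonoidHom, hΨinj.comp Af.toPar.symm.injective, ?_⟩
  have he : (Ψ.comp Af.toPar.symm.toMonoidHom) zPar = D.z := by
    rw [← Af.toPar_z]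
    simpa using hΨz
  rw [he]
  intro c hc
  obtain ⟨x, rfl⟩ := hrange c (hCN hc)
  exact ⟨Af.toPar x, by simp⟩

end Cfg

end Cfsg.Agent.PSLFourThree.Front
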