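/-
Piece C of S3373: the hypotheses give an embedded parabolic containing the centralizer.

* `exists_cfg`: the configuration
* `localPar`: the embedded parabolic
-/
import Cfsg.Agent.Lib.PSLFourThree.FrontFactor
import Cfsg.Agent.Lib.PSLFourThree.FrontPar
import Cfsg.Agent.Lib.Cores.Basic
import Cfsg.Prelude.Def_Solvable
import Cfsg.Prelude.Def_Transfer

set_option autoImplicit false
set_option maxRecDepth 100000

namespace Cfsg.Agent.PSLFourThree.Front

open scoped commutatorElement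

variable {G : Type*} [Group G]

theorem prod_steps : ∀ (r : ℕ) (f : Fin (r + 1) → ℕ) (m : Fin r → ℕ),
    (∀ i, f i.succ = m i * f i.castSucc) → f (Fin.last r) = f 0 * ∏ i, m i := by
  intro r
  induction r with
  | zero => intro f m _; simp
  | succ r ih =>
    intro f m h
    rw [Fin.prod_univ_castSucc, ← Fin.succ_last, h (Fin.last r)]
    have h2 := ih (fun i => f i.castSucc) (fun i => m i.castSucc) fun i => by
      simp only [← Fin.succ_castSucc]
      exact h i.castSucc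
    rw [h2, Fin.castSucc_zero]
    ring

/-- A chain with two nontrivial factors is inverted factor by factor. -/
theorem chain_inverted [Finite G] {C Q Z : Subgroup G} (π : C →* S2) (hπ : Function.Surjective π)
    (hπk : ∀ g, π g = 1 ↔ (g : G) ∈ Q) (hQC : Q ≤ C) (hexp : ∀ a ∈ Q, a * a * a = 1)
    (hcomm : ∀ a ∈ Q, ∀ b ∈ Q, ⁅a, b⁆ ∈ Z) (hZ : Nat.card Z = 3) (hQ : Nat.card Q = 243)
    {t : C} (ht : π t = ng)
    (r : ℕ) (A : Fin (r + 1) → Subgroup G) (hA0 : A 0 = Z) (hAr : A (Fin.last r) = Q)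
    (hmono : ∀ i : Fin r, A i.castSucc < A i.succ)
    (hinv : ∀ i : Fin (r + 1), ∀ k ∈ C, ∀ a ∈ A i, k * a * k⁻¹ ∈ A i)
    (hmax : ∀ i : Fin r, ∀ B : Subgroup G, A i.castSucc < B → B < A i.succ →
      ∃ k ∈ C, ∃ b ∈ B, k * b * k⁻¹ ∉ B)
    (htwo : ∃ i j : Fin r, i ≠ j ∧
      (∃ k ∈ C, ∃ a ∈ A i.succ, k * a * k⁻¹ * a⁻¹ ∉ A i.castSucc) ∧
      (∃ k ∈ C, ∃ a ∈ A j.succ, k * a * k⁻¹ * a⁻¹ ∉ A j.castSucc)) :
    ∀ a ∈ Q, (t : G) * a * (t : G)⁻¹ * a ∈ Z := by
  classical
  have hmonotone : Monotone A := Fin.monotone_iff_le_succ.2 fun i => (hmono i).le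
  have hAQ : ∀ i, A i ≤ Q := fun i => hAr ▸ hmonotone (Fin.le_last i)
  have hZA : ∀ i, Z ≤ A i := fun i => hA0 ▸ hmonotone (Fin.zero_le i)
  let N : ∀ i : Fin r, Subgroup (A i.succ) := fun i => (A i.castSucc).subgroupOf (A i.succ)
  have hNn : ∀ i, (N i).Normal := fun i => ⟨fun a ha g => by
    rw [Subgroup.mem_subgroupOf] at ha ⊢
    exact hinv i.castSucc _ (hQC (hAQ _ g.2)) _ ha⟩
  let m : Fin r → ℕ := fun i => (N i).index
  have hm : ∀ i, Nat.card (A i.succ) = m i * Nat.card (A i.castSucc) := fun i => by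
    rw [← (N i).card_mul_index, Nat.card_congr (Subgroup.subgroupOfEquivOfLe (hmono i).le).toEquiv, mul_comm]
  have hprod : ∏ i, m i = 81 := by
    have h := prod_steps r (fun i => Nat.card (A i)) m hm
    simp only [hA0, hAr, hZ, hQ] at h
    omega
  have hm2 : ∀ i, 2 ≤ m i := fun i => by
    have h0 : m i ≠ 0 := Subgroup.index_ne_zero_of_finite
    have h1 : m i ≠ 1 := fun h => (hmono i).not_ge (Subgroup.subgroupOf_eq_top.1 (Subgroup.index_eq_one.1 h))
    omega
  have hfac : ∀ i : Fin r, (∃ k ∈ C, ∃ a ∈ A i.succ, k * a * k⁻¹ * a⁻¹ ∉ A i.castSucc) →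
      9 ≤ m i ∧ ((∀ a ∈ A i.succ, (t : G) * a * (t : G)⁻¹ * a ∈ A i.castSucc) ∨ 27 ≤ m i) := by
    intro i hnt
    have := hNn i
    let D := A i.succ ⧸ N i
    let instD : CommGroup D :=
      { (inferInstance : Group D) with
        mul_comm := by
          intro a b
          obtain ⟨a, rfl⟩ := QuotientGroup.mk_surjective a
          obtain ⟨b, rfl⟩ := QuotientGroup.mk_surjective b
          rw [← QuotientGroup.mk_mul, ← QuotientGroup.mk_mul, QuotientGroup.eq, Subgroup.mem_subgroupOf]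
          have h := hZA i.castSucc
            (hcomm _ (inv_mem (hAQ _ b.2)) _ (inv_mem (hAQ _ a.2)))
          simpa [commutatorElement_def, mul_assoc] using h }
    let cA : C →* MulAut (A i.succ) :=
      { toFun := fun g =>
          { toFun := fun a => ⟨(g : G) * a * (g : G)⁻¹, hinv _ _ g.2 _ a.2⟩
            invFun := fun a => ⟨(g : G)⁻¹ * a * (g : G), by
              simpa using hinv _ _ (inv_mem g.2) _ a.2⟩
            left_inv := fun a => Subtype.ext (by simp [mul_assoc])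
            right_inv := fun a => Subtype.ext (by simp [mul_assoc])
            map_mul' := fun a b => Subtype.ext (by simp [mul_assoc]) }
        map_one' := by ext a; simp
        map_mul' := fun g h => by ext a; simp [mul_assoc] }
    have hNinv : ∀ g : C, (N i).map (cA g).toMonoidHom = N i := by
      intro g
      refine Subgroup.ext fun a => ⟨?_, fun ha => ?_⟩
      · rintro ⟨b, hb, rfl⟩
        exact hinv i.castSucc _ g.2 _ hb
      · refine ⟨(cA g).symm a, ?_, (cA g).apply_symm_apply a⟩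
        show (g : G)⁻¹ * a * (g : G) ∈ A i.castSucc
        simpa using hinv i.castSucc _ (inv_mem g.2) _ ha
    let cD : C →* MulAut D :=
      { toFun := fun g => QuotientGroup.congr (N i) (N i) (cA g) (hNinv g)
        map_one' := by
          ext d
          obtain ⟨a, rfl⟩ := QuotientGroup.mk_surjective d
          show QuotientGroup.mk (cA 1 a) = QuotientGroup.mk a
          rw [map_one]; rfl
        map_mul' := fun g h => by
          ext d
          obtain ⟨a, rfl⟩ := QuotientGroup.mk_surjective d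
          show QuotientGroup.mk (cA (g * h) a) = QuotientGroup.mk (cA g (cA h a))
          rw [map_mul]; rfl }
    have hker : π.ker ≤ cD.ker := by
      intro g hg
      have hgQ := (hπk g).1 hg
      refine MonoidHom.mem_ker.2 ?_
      ext d
      obtain ⟨a, rfl⟩ := QuotientGroup.mk_surjective d
      show QuotientGroup.mk (cA g a) = QuotientGroup.mk a
      rw [QuotientGroup.eq, Subgroup.mem_subgroupOf]
      have h := hZA i.castSucc (hcomm _ hgQ _ (inv_mem (hAQ _ a.2)))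
      show ((g : G) * a * (g : G)⁻¹)⁻¹ * a ∈ _
      simpa [commutatorElement_def, mul_assoc] using h
    let α : S2 →* MulAut D := π.liftOfSurjective hπ ⟨cD, hker⟩
    have hα : ∀ g : C, ∀ a : A i.succ, α (π g) (QuotientGroup.mk a) = QuotientGroup.mk (cA g a) := by
      intro g a
      rw [show α (π g) = cD g from MonoidHom.liftOfRightInverse_comp_apply π _ _ ⟨cD, hker⟩ g]
      rfl
    have hcard : Nat.card D = m i := (Subgroup.index_eq_card _).symm
    have h3 : ∀ d : D, d * d * d = 1 := by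
      intro d
      obtain ⟨a, rfl⟩ := QuotientGroup.mk_surjective d
      rw [← QuotientGroup.mk_mul, ← QuotientGroup.mk_mul, QuotientGroup.eq_one_iff, Subgroup.mem_subgroupOf]
      show (a : G) * a * a ∈ _
      rw [hexp _ (hAQ _ a.2)]
      exact one_mem _
    have hirr : ∀ F : Subgroup D, (∀ B : S2, ∀ d ∈ F, α B d ∈ F) → F = ⊥ ∨ F = ⊤ := by
      intro F hF
      set B : Subgroup G := (F.comap (QuotientGroup.mk' (N i))).map (A i.succ).subtype with hBdef
      have hlo : A i.castSucc ≤ B := fun a ha =>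
        ⟨⟨a, (hmono i).le ha⟩, by
          show QuotientGroup.mk _ ∈ F
          rw [(QuotientGroup.eq_one_iff _).2 (show (⟨a, (hmono i).le ha⟩ : A i.succ) ∈ N i from ha)]
          exact one_mem F, rfl⟩
      have hhi : B ≤ A i.succ := Subgroup.map_subtype_le _
      by_cases h1 : B = A i.castSucc
      · refine Or.inl (eq_bot_iff.2 fun d hd => ?_)
        obtain ⟨a, rfl⟩ := QuotientGroup.mk_surjective d
        rw [Subgroup.mem_bot, QuotientGroup.eq_one_iff]
        show (a : G) ∈ A i.castSucc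
        rw [← h1]
        exact ⟨a, hd, rfl⟩
      by_cases h2 : B = A i.succ
      · refine Or.inr (eq_top_iff.2 fun d _ => ?_)
        obtain ⟨a, rfl⟩ := QuotientGroup.mk_surjective d
        obtain ⟨b, hb, e⟩ := (h2.symm.le a.2 : (a : G) ∈ B)
        obtain rfl := Subtype.ext e
        exact hb
      exfalso
      obtain ⟨k, hk, b, ⟨b', hb', rfl⟩, hkb⟩ := hmax i B (lt_of_le_of_ne hlo (Ne.symm h1)) (lt_of_le_of_ne hhi h2)
      refine hkb ⟨cA ⟨k, hk⟩ b', ?_, rfl⟩
      show QuotientGroup.mk _ ∈ F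
      rw [← hα]
      exact hF _ _ hb'
    have hne : α ≠ 1 := by
      intro h
      obtain ⟨k, hk, a, ha, hna⟩ := hnt
      have e := hα ⟨k, hk⟩ ⟨a, ha⟩
      rw [h, MonoidHom.one_apply, MulAut.one_apply, eq_comm, QuotientGroup.eq, Subgroup.mem_subgroupOf] at e
      refine hna ?_
      change (k * a * k⁻¹)⁻¹ * a ∈ A i.castSucc at e
      have h2 := hinv i.castSucc _ (hQC (hAQ _ ha)) _ (inv_mem e)
      simpa [mul_assoc] using h2
    obtain ⟨h9, hor⟩ := factor h3 α hirr hne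
    rw [hcard] at h9 hor
    refine ⟨h9, hor.imp (fun h a ha => ?_) id⟩
    have e := hα t ⟨a, ha⟩
    rw [ht, h, eq_comm, ← mul_eq_one_iff_eq_inv, ← QuotientGroup.mk_mul, QuotientGroup.eq_one_iff,
      Subgroup.mem_subgroupOf] at e
    exact e
  obtain ⟨i, j, hij, hi, hj⟩ := htwo
  obtain ⟨hi9, hiO⟩ := hfac i hi
  obtain ⟨hj9, hjO⟩ := hfac j hj
  have hsub : ∀ s : Finset (Fin r), ∏ l ∈ s, m l ≤ 81 := fun s => by
    rw [← hprod]
    exact Finset.prod_le_prod_of_subset_of_one_le' (Finset.subset_univ s) fun l _ _ => by have := hm2 l; omega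
  have hij81 : m i * m j ≤ 81 := by
    have := hsub {i, j}
    rwa [Finset.prod_pair hij] at this
  have hall : ∀ l, l = i ∨ l = j := by
    intro l
    by_contra h
    push Not at h
    have h1 := hsub {l, i, j}
    rw [Finset.prod_insert (by simp [h.1, h.2]), Finset.prod_pair hij] at h1
    have := hm2 l
    have : 81 ≤ m i * m j := Nat.mul_le_mul hi9 hj9
    nlinarith
  have hinverted : ∀ l : Fin r, ∀ a ∈ A l.succ, (t : G) * a * (t : G)⁻¹ * a ∈ A l.castSucc := by
    intro l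
    rcases hall l with rfl | rfl
    · exact hiO.resolve_right fun h => by nlinarith
    · exact hjO.resolve_right fun h => by nlinarith
  have hfix : ∀ k : Fin (r + 1), ∀ b ∈ A k, b⁻¹ * ((t : G) * b * (t : G)⁻¹) ∈ Z → b ∈ Z := by
    intro k
    induction k using Fin.induction with
    | zero => intro b hb _; rwa [hA0] at hb
    | succ k ih =>
      intro b hb hz
      refine ih b ?_ hz
      set ζ := b⁻¹ * ((t : G) * b * (t : G)⁻¹) with hζ
      have h1 : b * ζ * b ∈ A k.castSucc := by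
        rw [show b * ζ * b = (t : G) * b * (t : G)⁻¹ * b by rw [hζ]; group]
        exact hinverted k b hb
      have h2 := hinv k.castSucc _ (hQC (hAQ _ hb)) ζ (hZA _ hz)
      have h3 : b * b ∈ A k.castSucc := by
        have := mul_mem (inv_mem h2) h1
        rwa [show (b * ζ * b⁻¹)⁻¹ * (b * ζ * b) = b * b by group] at this
      have h4 := mul_mem h3 h3
      rwa [← mul_assoc, hexp b (hAQ _ hb), one_mul] at h4
  intro a ha
  set b := (t : G) * a * (t : G)⁻¹ * a with hb
  have hta : (t : G) * a * (t : G)⁻¹ ∈ Q := hAr ▸ hinv _ _ t.2 _ (hAr ▸ ha)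
  have hbQ : b ∈ Q := mul_mem hta ha
  refine hfix (Fin.last r) b (hAr ▸ hbQ) ?_
  have htt : ((t : G) * t) ∈ Q := (hπk (t * t)).1 (by rw [map_mul, ht, ng_ne.2])
  have e1 : (t : G) * b * (t : G)⁻¹ =
      ⁅(t : G) * t, a⁆ * a * ((t : G) * a * (t : G)⁻¹) := by
    rw [hb, commutatorElement_def]; group
  have e : b⁻¹ * ((t : G) * b * (t : G)⁻¹) =
      b⁻¹ * ⁅(t : G) * t, a⁆ * b * ⁅a⁻¹, ((t : G) * a * (t : G)⁻¹)⁻¹⁆ := by
    rw [e1, hb]; simp only [commutatorElement_def]; group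
  rw [e]
  refine mul_mem ?_ (hcomm _ (inv_mem ha) _ (inv_mem hta))
  have hz := hcomm _ htt _ ha
  have := hinv 0 b⁻¹ (hQC (inv_mem hbQ)) _ (hA0 ▸ hz)
  rw [hA0, inv_inv] at this
  exact this

/-- The configuration. -/
theorem exists_cfg [Finite G] (S : Sylow 3 G) (Z : Subgroup G)
    (hZ : Z = (S : Subgroup G) ⊓ Subgroup.centralizer ((S : Subgroup G) : Set G))
    (C : Subgroup G) (hCZ : C = Subgroup.centralizer (Z : Set G))
    (Q : Subgroup G) (hQ : Q = (Cfsg.pCore 3 C).map C.subtype)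
    (hQex : Cfsg.IsExtraspecial 3 Q) (hQcard : Nat.card Q = 3 ^ 5) (hQexp : ∀ a ∈ Q, a ^ 3 = 1)
    (hCQ : Subgroup.centralizer (Q : Set G) ≤ Q)
    (K : Subgroup G)
    (hK : K = ((Cfsg.pResidual 2 (C ⧸ Cfsg.pCore 3 C)).comap (QuotientGroup.mk' (Cfsg.pCore 3 C))).map C.subtype)
    (r : ℕ) (A : Fin (r + 1) → Subgroup G) (hA0 : A 0 = Z) (hAr : A (Fin.last r) = Q)
    (hmono : ∀ i : Fin r, A i.castSucc < A i.succ)
    (hinv : ∀ i : Fin (r + 1), ∀ k ∈ K, ∀ a ∈ A i, k * a * k⁻¹ ∈ A i)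
    (hmax : ∀ i : Fin r, ∀ B : Subgroup G, A i.castSucc < B → B < A i.succ → ∃ k ∈ K, ∃ b ∈ B, k * b * k⁻¹ ∉ B)
    (e : C ⧸ Cfsg.pCore 3 C ≃* S2)
    (htwo : ∃ i j : Fin r, i ≠ j ∧ (∃ k ∈ K, ∃ a ∈ A i.succ, k * a * k⁻¹ * a⁻¹ ∉ A i.castSucc) ∧ (∃ k ∈ K, ∃ a ∈ A j.succ, k * a * k⁻¹ * a⁻¹ ∉ A j.castSucc) ∧
      ∀ l : Fin r, (∃ k ∈ K, ∃ a ∈ A l.succ, k * a * k⁻¹ * a⁻¹ ∉ A l.castSucc) → l = i ∨ l = j) :
    ∃ D : Cfg G, D.Q = Q ∧ Subgroup.zpowers D.z = Z := by
  classical
  have : Fact (Nat.Prime 3) := ⟨Nat.prime_three⟩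
  -- `K` is the centralizer
  have hKC : K = C := by
    have htop : Cfsg.pResidual 2 (C ⧸ Cfsg.pCore 3 C) = ⊤ := by
      refine eq_top_iff.2 fun x _ => ?_
      obtain ⟨B₁, B₂, B₃, h1, h2, h3, he⟩ := three_cubes' (e x)
      have hmem : ∀ B : S2, B * B * B = 1 → e.symm B ∈ Cfsg.pResidual 2 (C ⧸ Cfsg.pCore 3 C) := by
        intro B hB
        refine Subgroup.subset_closure ?_
        have hd : orderOf (e.symm B) ∣ 3 := orderOf_dvd_of_pow_eq_one (by
          rw [← map_pow, pow_succ, pow_two, hB, map_one])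
        exact Nat.Coprime.coprime_dvd_left hd (by norm_num)
      rw [← e.symm_apply_apply x, he, map_mul, map_mul]
      exact mul_mem (mul_mem (hmem _ h1) (hmem _ h2)) (hmem _ h3)
    rw [hK, htop, Subgroup.comap_top, ← MonoidHom.range_eq_map, Subgroup.range_subtype]
  rw [hKC] at hinv hmax htwo
  have hQC : Q ≤ C := hQ ▸ Subgroup.map_subtype_le _
  -- the centre
  have hSC : (S : Subgroup G) ≤ C := fun s hs => hCZ ▸ Subgroup.mem_centralizer_iff.2 fun a ha => by
    rw [hZ] at ha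
    exact (Subgroup.mem_centralizer_iff.1 ha.2 s hs).symm
  have hQS : Q ≤ (S : Subgroup G) := by
    rw [hQ]
    rintro _ ⟨a, ha, rfl⟩
    have := Cores.pCore_le_sylow (S.subtype hSC) ha
    rwa [Sylow.coe_subtype, Subgroup.mem_subgroupOf] at this
  have hZQ : Z ≤ Q := fun a ha => hCQ (Subgroup.mem_centralizer_iff.2 fun q hq => by
    rw [hZ] at ha
    exact Subgroup.mem_centralizer_iff.1 ha.2 q (hQS hq))
  have hZcent : Z ≤ (Subgroup.center Q).map Q.subtype := fun a ha =>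
    ⟨⟨a, hZQ ha⟩, Subgroup.mem_center_iff.2 fun q => Subtype.ext (by
      rw [hZ] at ha
      exact Subgroup.mem_centralizer_iff.1 ha.2 q (hQS q.2)), rfl⟩
  have hZne : Z ≠ ⊥ := by
    intro h
    have : Nontrivial (S : Subgroup G) := by
      have h243 : 243 ≤ Nat.card (S : Subgroup G) := by
        have := Subgroup.card_le_of_le hQS
        rw [hQcard] at this
        simpa using this
      exact Finite.one_lt_card_iff_nontrivial.1 (by omega)
    have := IsPGroup.center_nontrivial S.2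
    obtain ⟨c, hc⟩ := exists_ne (1 : Subgroup.center (S : Subgroup G))
    refine hc (Subtype.ext (Subtype.ext ?_))
    refine Subgroup.mem_bot.1 (h ▸ ?_)
    rw [hZ]
    exact ⟨c.1.2, Subgroup.mem_centralizer_iff.2 fun s hs =>
      congrArg Subtype.val (Subgroup.mem_center_iff.1 c.2 ⟨s, hs⟩)⟩
  have hcard3 : Nat.card ((Subgroup.center Q).map Q.subtype) = 3 := by
    rw [Subgroup.card_map_of_injective Q.subtype_injective]; exact hQex.2
  have hZeq : Z = (Subgroup.center Q).map Q.subtype := by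
    refine Subgroup.eq_of_le_of_card_ge hZcent ?_
    rw [hcard3]
    rcases (Nat.dvd_prime Nat.prime_three).1 (hcard3 ▸ Subgroup.card_dvd_of_le hZcent) with h | h
    · exact absurd (Subgroup.card_eq_one.1 h) hZne
    · omega
  have hZ3 : Nat.card Z = 3 := hZeq ▸ hcard3
  obtain ⟨⟨z, hz⟩, hz1⟩ : ∃ z : Z, z ≠ 1 := by
    have : Nontrivial Z := Finite.one_lt_card_iff_nontrivial.1 (by omega)
    exact exists_ne 1
  have hz1' : z ≠ 1 := fun h => hz1 (Subtype.ext h)
  have hzQ := hZQ hz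
  have hzp : Subgroup.zpowers z = Z := by
    refine Subgroup.eq_of_le_of_card_ge (Subgroup.zpowers_le.2 hz) ?_
    rw [hZ3, Nat.card_zpowers, orderOf_eq_prime (hQexp z hzQ) hz1']
  have hC : C = Subgroup.centralizer ({z} : Set G) := by
    rw [hCZ]
    ext g
    rw [Subgroup.mem_centralizer_iff, Subgroup.mem_centralizer_singleton_iff]
    refine ⟨fun h => (h z hz).symm, fun h a ha => ?_⟩
    obtain ⟨n, rfl⟩ := Subgroup.mem_zpowers_iff.1 (hzp.symm ▸ ha : a ∈ Subgroup.zpowers z)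
    exact ((Commute.zpow_right (h : Commute g z) n).symm).eq
  subst hC
  -- the quotient map
  let π : Subgroup.centralizer ({z} : Set G) →* S2 :=
    e.toMonoidHom.comp (QuotientGroup.mk' (Cfsg.pCore 3 (Subgroup.centralizer ({z} : Set G))))
  have hπs : Function.Surjective π := e.surjective.comp (QuotientGroup.mk'_surjective _)
  have hπk : ∀ g, π g = 1 ↔ (g : G) ∈ Q := fun g => by
    show e (QuotientGroup.mk g) = 1 ↔ _
    rw [MulEquiv.map_eq_one_iff, QuotientGroup.eq_one_iff, hQ, Subgroup.mem_map]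
    exact ⟨fun h => ⟨g, h, rfl⟩, fun ⟨u, hu, e'⟩ => Subtype.ext e' ▸ hu⟩
  have hexp : ∀ a ∈ Q, a * a * a = 1 := fun a ha => by
    rw [← hQexp a ha, pow_succ, pow_two]
  have hcomm : ∀ a ∈ Q, ∀ b ∈ Q, ⁅a, b⁆ ∈ Z := fun a ha b hb => by
    rw [hZeq]
    exact ⟨⁅(⟨a, ha⟩ : Q), ⟨b, hb⟩⁆,
      hQex.1.2.2.le (Subgroup.commutator_mem_commutator (Subgroup.mem_top _) (Subgroup.mem_top _)), rfl⟩
  obtain ⟨c, hc⟩ := hπs ng
  let t : Subgroup.centralizer ({z} : Set G) := c * c * c
  have htπ : π t = ng := by rw [map_mul, map_mul, hc, ng_ne.2, one_mul]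
  have htt : t * t = 1 := by
    have h2 : ((c * c : Subgroup.centralizer ({z} : Set G)) : G) ∈ Q := (hπk _).1 (by rw [map_mul, hc, ng_ne.2])
    refine Subtype.ext (Eq.trans ?_ (hexp _ h2))
    simp [t, mul_assoc]
  obtain ⟨i, j, hij, hi, hj, -⟩ := htwo
  have hinvt := chain_inverted π hπs hπk hQC hexp hcomm hZ3 (by rw [hQcard]; norm_num) htπ r A hA0 hAr
    hmono hinv hmax ⟨i, j, hij, hi, hj⟩
  refine ⟨{
    z := z
    Q := Q
    pi := π
    t := t
    z_cube := hexp z hzQ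
    z_ne := hz1'
    z_mem := hzQ
    Q_le := hQC
    card_Q := by rw [hQcard]; norm_num
    exp := hexp
    center := fun a ha h => by
      rw [hzp, hZeq]
      exact ⟨⟨a, ha⟩, Subgroup.mem_center_iff.2 fun b => Subtype.ext (h b b.2).symm, rfl⟩
    comm := fun a ha b hb => hzp.symm ▸ hcomm a ha b hb
    cent_Q := hCQ
    pi_surj := hπs
    pi_ker := hπk
    char := fun n hn a ha => ?_
    t_sq := htt
    t_pi := htπ
    t_inv := fun a ha => hzp.symm ▸ hinvt a ha }, rfl, hzp⟩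
  have hnC : n ∈ Subgroup.normalizer ((Subgroup.centralizer ({z} : Set G) : Subgroup G) : Set G) := by
    have hmap : (Subgroup.zpowers z).map (MulAut.conj n).toMonoidHom = Subgroup.zpowers z := by
      refine Subgroup.eq_of_le_of_card_ge ?_ (le_of_eq (Subgroup.card_map_of_injective (MulAut.conj n).injective).symm)
      rw [MonoidHom.map_zpowers, Subgroup.zpowers_le]
      exact hn
    obtain ⟨w, hw⟩ := Subgroup.mem_zpowers_iff.1 hn
    have hz' : z ∈ Subgroup.zpowers (n * z * n⁻¹) := by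
      have hz0 : z ∈ (Subgroup.zpowers z).map (MulAut.conj n).toMonoidHom := hmap.symm ▸ Subgroup.mem_zpowers z
      rwa [MonoidHom.map_zpowers] at hz0
    obtain ⟨v, hv⟩ := Subgroup.mem_zpowers_iff.1 hz'
    refine Subgroup.mem_normalizer_iff.2 fun g => ?_
    simp only [Subgroup.mem_centralizer_singleton_iff]
    constructor
    · intro h
      have h0 : Commute g z := h
      have h1 : Commute (n * g * n⁻¹) (n * z * n⁻¹) := h0.conj n
      have h2 := h1.zpow_right v
      rwa [hv] at h2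
    · intro h
      have h0 : Commute (n * g * n⁻¹) z := h
      have h1 := h0.zpow_right w
      rw [hw] at h1
      have h2 := h1.conj n⁻¹
      simp only [inv_inv] at h2
      rwa [show n⁻¹ * (n * g * n⁻¹) * n = g by group, show n⁻¹ * (n * z * n⁻¹) * n = z by group] at h2
  have hch : (Cfsg.pCore 3 (Subgroup.centralizer ({z} : Set G))).Characteristic := Cores.pCore_characteristic _ _
  have := Cores.normalizer_le_normalizer_map (Cfsg.pCore 3 (Subgroup.centralizer ({z} : Set G))) hnC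
  rw [← hQ] at this
  exact (Subgroup.mem_normalizer_iff.1 this a).1 ha

/-- Piece C: the hypotheses of the theorem give an embedded parabolic with the centralizer inside. -/
theorem localPar [Finite G] (S : Sylow 3 G) (Z : Subgroup G)
    (hZ : Z = (S : Subgroup G) ⊓ Subgroup.centralizer ((S : Subgroup G) : Set G))
    (C : Subgroup G) (hCZ : C = Subgroup.centralizer (Z : Set G))
    (Q : Subgroup G) (hQ : Q = (Cfsg.pCore 3 C).map C.subtype)
    (hQex : Cfsg.IsExtraspecial 3 Q) (hQcard : Nat.card Q = 3 ^ 5) (hQexp : ∀ a ∈ Q, a ^ 3 = 1)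
    (hCQ : Subgroup.centralizer (Q : Set G) ≤ Q)
    (hZQ : ∃ x : G, Z.map (MulAut.conj x).toMonoidHom ≤ Q ∧ Z.map (MulAut.conj x).toMonoidHom ≠ Z)
    (K : Subgroup G)
    (hK : K = ((Cfsg.pResidual 2 (C ⧸ Cfsg.pCore 3 C)).comap (QuotientGroup.mk' (Cfsg.pCore 3 C))).map C.subtype)
    (r : ℕ) (A : Fin (r + 1) → Subgroup G) (hA0 : A 0 = Z) (hAr : A (Fin.last r) = Q)
    (hmono : ∀ i : Fin r, A i.castSucc < A i.succ)
    (hinv : ∀ i : Fin (r + 1), ∀ k ∈ K, ∀ a ∈ A i, k * a * k⁻¹ ∈ A i)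
    (hmax : ∀ i : Fin r, ∀ B : Subgroup G, A i.castSucc < B → B < A i.succ → ∃ k ∈ K, ∃ b ∈ B, k * b * k⁻¹ ∉ B)
    (e : C ⧸ Cfsg.pCore 3 C ≃* S2)
    (htwo : ∃ i j : Fin r, i ≠ j ∧ (∃ k ∈ K, ∃ a ∈ A i.succ, k * a * k⁻¹ * a⁻¹ ∉ A i.castSucc) ∧ (∃ k ∈ K, ∃ a ∈ A j.succ, k * a * k⁻¹ * a⁻¹ ∉ A j.castSucc) ∧
      ∀ l : Fin r, (∃ k ∈ K, ∃ a ∈ A l.succ, k * a * k⁻¹ * a⁻¹ ∉ A l.castSucc) → l = i ∨ l = j) :
    ∃ φ : Par →* G, Function.Injective φ ∧
      Subgroup.centralizer ({φ zPar} : Set G) ≤ φ.range := by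
  obtain ⟨D, rfl, rfl⟩ := exists_cfg S Z hZ C hCZ Q hQ hQex hQcard hQexp hCQ K hK r A hA0 hAr hmono hinv
    hmax e htwo
  obtain ⟨x, hx, hxne⟩ := hZQ
  rw [MonoidHom.map_zpowers] at hx hxne
  refine D.exists_par (g := x) (Subgroup.zpowers_le.1 hx) fun h => hxne ?_
  refine Subgroup.eq_of_le_of_card_ge (Subgroup.zpowers_le.2 h) (le_of_eq ?_)
  rw [Nat.card_zpowers, Nat.card_zpowers]
  exact ((MulAut.conj x).orderOf_eq D.z).symm

end Cfsg.Agent.PSLFourThree.Front
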