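import Cfsg.Agent.Lib.PSLFourThree.InvTargets
import Cfsg.Agent.Lib.PSLFourThree.Blocks

/-!
# Codes for the centralizer of `tEl` in `PSL(4,3)` (helper67)

An element is a swap bit and two `2 × 2` matrices (one for the coordinates `0, 3`, one for `1, 2`),
each matrix written as a number below 81.

* `Code`, `mulC`, `eqC`, `el`
* `el_mul`, `el_eq_iff`, `exists_code`
* `sub`, `codes`, `card_sub`: subgroups given by lists of matrices
* `isTwo_of`: the class test
-/

set_option autoImplicit false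

namespace Cfsg.Agent.PSLFourThree.InvCode

open Matrix

/-- A matrix from its number. -/
def m2 (a : ℕ) : M2 :=
  !![((a / 27 : ℕ) : ZMod 3), ((a / 9 % 3 : ℕ) : ZMod 3);
     ((a / 3 % 3 : ℕ) : ZMod 3), ((a % 3 : ℕ) : ZMod 3)]

/-- Product of numbers. -/
def mul2 (a b : ℕ) : ℕ :=
  (a / 27 * (b / 27) + a / 9 % 3 * (b / 3 % 3)) % 3 * 27 +
    (a / 27 * (b / 9 % 3) + a / 9 % 3 * (b % 3)) % 3 * 9 +
    (a / 3 % 3 * (b / 27) + a % 3 * (b / 3 % 3)) % 3 * 3 +
    (a / 3 % 3 * (b / 9 % 3) + a % 3 * (b % 3)) % 3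

/-- Negative. -/
def neg2 (a : ℕ) : ℕ :=
  2 * (a / 27) % 3 * 27 + 2 * (a / 9 % 3) % 3 * 9 + 2 * (a / 3 % 3) % 3 * 3 + 2 * (a % 3) % 3

/-- Determinant. -/
def det2 (a : ℕ) : ℕ :=
  (a / 27 * (a % 3) + 2 * (a / 9 % 3) * (a / 3 % 3)) % 3

/-- A code: swap bit, block on `0, 3`, block on `1, 2`. -/
abbrev Code := Bool × ℕ × ℕ

/-- Product of codes. -/
def mulC (c d : Code) : Code :=
  (xor c.1 d.1, mul2 c.2.1 (if c.1 then d.2.2 else d.2.1),
    mul2 c.2.2 (if c.1 then d.2.1 else d.2.2))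

/-- Negative of a code. -/
def negC (c : Code) : Code := (c.1, neg2 c.2.1, neg2 c.2.2)

/-- Equality of the represented elements. -/
def eqC (c d : Code) : Bool := d == c || d == negC c

/-- Validity. -/
def valid (c : Code) : Bool :=
  decide (c.2.1 < 81) && decide (c.2.2 < 81) &&
    ((det2 c.2.1 == 1 && det2 c.2.2 == 1) || (det2 c.2.1 == 2 && det2 c.2.2 == 2))

/-- The block matrix. -/
def lin (A B : M2) : Matrix (Fin 4) (Fin 4) (ZMod 3) :=
  !![A 0 0, 0, 0, A 0 1; 0, B 0 0, B 0 1, 0; 0, B 1 0, B 1 1, 0; A 1 0, 0, 0, A 1 1]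

/-- The permutation exchanging the blocks. -/
def sw : Matrix (Fin 4) (Fin 4) (ZMod 3) :=
  !![0, 1, 0, 0; 1, 0, 0, 0; 0, 0, 0, 1; 0, 0, 1, 0]

theorem lin_mul (A B A' B' : M2) : lin A B * lin A' B' = lin (A * A') (B * B') := by
  ext i j
  fin_cases i <;> fin_cases j <;>
    simp [lin, Matrix.mul_apply, Fin.sum_univ_four, Fin.sum_univ_two]

theorem sw_lin (A B : M2) : sw * lin A B = lin B A * sw := by
  ext i j
  fin_cases i <;> fin_cases j <;> simp [lin, sw, Matrix.mul_apply, Fin.sum_univ_four]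

theorem sw_sw : sw * sw = 1 := by decide +kernel

theorem lin_det (A B : M2) : (lin A B).det = A.det * B.det := by
  simp [lin, Matrix.det_succ_row_zero, Fin.sum_univ_succ, Fin.succAbove]
  ring

theorem lin_neg (A B : M2) : -lin A B = lin (-A) (-B) := by
  ext i j
  fin_cases i <;> fin_cases j <;> simp [lin]

theorem lin_inj {A B A' B' : M2} (h : lin A B = lin A' B') : A = A' ∧ B = B' := by
  refine ⟨?_, ?_⟩ <;> ext i j <;> fin_cases i <;> fin_cases j
  · exact congrFun (congrFun h 0) 0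
  · exact congrFun (congrFun h 0) 3
  · exact congrFun (congrFun h 3) 0
  · exact congrFun (congrFun h 3) 3
  · exact congrFun (congrFun h 1) 1
  · exact congrFun (congrFun h 1) 2
  · exact congrFun (congrFun h 2) 1
  · exact congrFun (congrFun h 2) 2

/-- The matrix of a code. -/
def mat (c : Code) : Matrix (Fin 4) (Fin 4) (ZMod 3) :=
  lin (m2 c.2.1) (m2 c.2.2) * (if c.1 then sw else 1)

theorem mul2_fin : ∀ a b : Fin 81, m2 (mul2 a.val b.val) = m2 a.val * m2 b.val ∧
    mul2 a.val b.val < 81 := by decide +kernel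

theorem m2_fin : ∀ a : Fin 81, m2 (neg2 a.val) = -m2 a.val ∧ neg2 a.val < 81 ∧
    ((det2 a.val : ℕ) : ZMod 3) = (m2 a.val).det ∧ det2 a.val < 3 ∧
    ((m2 a.val) 0 0).val * 27 + ((m2 a.val) 0 1).val * 9 + ((m2 a.val) 1 0).val * 3 +
      ((m2 a.val) 1 1).val = a.val := by decide +kernel

theorem m2_surj : ∀ A : M2, ∃ a : Fin 81, m2 a.val = A := by decide +kernel

theorem m2_inj {a b : ℕ} (ha : a < 81) (hb : b < 81) (h : m2 a = m2 b) : a = b := by
  have ea := (m2_fin ⟨a, ha⟩).2.2.2.2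
  have eb := (m2_fin ⟨b, hb⟩).2.2.2.2
  rw [h] at ea
  exact ea.symm.trans eb

theorem valid_lt {c : Code} (h : valid c = true) : c.2.1 < 81 ∧ c.2.2 < 81 := by
  simp only [valid, Bool.and_eq_true, decide_eq_true_eq] at h
  exact h.1

theorem det_one {c : Code} (h : valid c = true) : (mat c).det = 1 := by
  obtain ⟨ha, hb⟩ := valid_lt h
  have ea := (m2_fin ⟨c.2.1, ha⟩).2.2.1
  have eb := (m2_fin ⟨c.2.2, hb⟩).2.2.1
  simp only [valid, Bool.and_eq_true, decide_eq_true_eq, Bool.or_eq_true, beq_iff_eq] at h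
  have hs : (if c.1 then sw else (1 : Matrix (Fin 4) (Fin 4) (ZMod 3))).det = 1 := by
    rcases c with ⟨(_ | _), a, b⟩
    · exact Matrix.det_one
    · exact (by decide +kernel : sw.det = 1)
  rw [mat, Matrix.det_mul, hs, lin_det, mul_one, ← ea, ← eb]
  rcases h.2 with ⟨e, e'⟩ | ⟨e, e'⟩ <;> rw [e, e'] <;> decide

theorem valid_iff {c : Code} :
    valid c = true ↔ c.2.1 < 81 ∧ c.2.2 < 81 ∧ (m2 c.2.1).det * (m2 c.2.2).det = 1 := by
  constructor
  · intro h
    obtain ⟨ha, hb⟩ := valid_lt h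
    refine ⟨ha, hb, ?_⟩
    have := det_one h
    rw [mat, Matrix.det_mul, lin_det] at this
    rcases c with ⟨(_ | _), a, b⟩
    · simpa using this
    · have e : sw.det = 1 := by decide +kernel
      simpa [e] using this
  · rintro ⟨ha, hb, h⟩
    have ea := (m2_fin ⟨c.2.1, ha⟩).2.2.1
    have eb := (m2_fin ⟨c.2.2, hb⟩).2.2.1
    have la := (m2_fin ⟨c.2.1, ha⟩).2.2.2.1
    have lb := (m2_fin ⟨c.2.2, hb⟩).2.2.2.1
    rw [← ea, ← eb] at h
    simp only [valid, Bool.and_eq_true, decide_eq_true_eq, Bool.or_eq_true, beq_iff_eq]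
    refine ⟨⟨ha, hb⟩, ?_⟩
    have key : ∀ x y : Fin 3, ((x.val : ℕ) : ZMod 3) * (y.val : ℕ) = 1 →
        (x.val = 1 ∧ y.val = 1) ∨ (x.val = 2 ∧ y.val = 2) := by decide
    exact key ⟨_, la⟩ ⟨_, lb⟩ h

theorem mat_mul {c d : Code} (hc : valid c = true) (hd : valid d = true) :
    mat (mulC c d) = mat c * mat d := by
  obtain ⟨ha, hb⟩ := valid_lt hc
  obtain ⟨ha', hb'⟩ := valid_lt hd
  rcases c with ⟨(_ | _), a, b⟩ <;> rcases d with ⟨(_ | _), a', b'⟩
  · show lin (m2 (mul2 a a')) (m2 (mul2 b b')) * 1 = lin (m2 a) (m2 b) * 1 * (lin (m2 a') (m2 b') * 1)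
    rw [(mul2_fin ⟨a, ha⟩ ⟨a', ha'⟩).1, (mul2_fin ⟨b, hb⟩ ⟨b', hb'⟩).1, mul_one, mul_one, mul_one,
      lin_mul]
  · show lin (m2 (mul2 a a')) (m2 (mul2 b b')) * sw = lin (m2 a) (m2 b) * 1 * (lin (m2 a') (m2 b') * sw)
    rw [(mul2_fin ⟨a, ha⟩ ⟨a', ha'⟩).1, (mul2_fin ⟨b, hb⟩ ⟨b', hb'⟩).1, mul_one, ← mul_assoc, lin_mul]
  · show lin (m2 (mul2 a b')) (m2 (mul2 b a')) * sw = lin (m2 a) (m2 b) * sw * (lin (m2 a') (m2 b') * 1)
    rw [(mul2_fin ⟨a, ha⟩ ⟨b', hb'⟩).1, (mul2_fin ⟨b, hb⟩ ⟨a', ha'⟩).1, mul_one, mul_assoc, sw_lin,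
      ← mul_assoc, lin_mul]
  · show lin (m2 (mul2 a b')) (m2 (mul2 b a')) * 1 = lin (m2 a) (m2 b) * sw * (lin (m2 a') (m2 b') * sw)
    rw [(mul2_fin ⟨a, ha⟩ ⟨b', hb'⟩).1, (mul2_fin ⟨b, hb⟩ ⟨a', ha'⟩).1, mul_one, mul_assoc,
      ← mul_assoc sw, sw_lin, mul_assoc, sw_sw, mul_one, lin_mul]

theorem valid_mul {c d : Code} (hc : valid c = true) (hd : valid d = true) :
    valid (mulC c d) = true := by
  obtain ⟨ha, hb, h⟩ := valid_iff.1 hc
  obtain ⟨ha', hb', h'⟩ := valid_iff.1 hd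
  rcases c with ⟨(_ | _), a, b⟩ <;> rcases d with ⟨e, a', b'⟩ <;> simp only [] at ha hb ha' hb' h h'
  · refine valid_iff.2 ⟨(mul2_fin ⟨a, ha⟩ ⟨a', ha'⟩).2, (mul2_fin ⟨b, hb⟩ ⟨b', hb'⟩).2, ?_⟩
    show (m2 (mul2 a a')).det * (m2 (mul2 b b')).det = 1
    rw [(mul2_fin ⟨a, ha⟩ ⟨a', ha'⟩).1, (mul2_fin ⟨b, hb⟩ ⟨b', hb'⟩).1, Matrix.det_mul, Matrix.det_mul]
    linear_combination (m2 a').det * (m2 b').det * h + h'
  · refine valid_iff.2 ⟨(mul2_fin ⟨a, ha⟩ ⟨b', hb'⟩).2, (mul2_fin ⟨b, hb⟩ ⟨a', ha'⟩).2, ?_⟩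
    show (m2 (mul2 a b')).det * (m2 (mul2 b a')).det = 1
    rw [(mul2_fin ⟨a, ha⟩ ⟨b', hb'⟩).1, (mul2_fin ⟨b, hb⟩ ⟨a', ha'⟩).1, Matrix.det_mul, Matrix.det_mul]
    linear_combination (m2 a').det * (m2 b').det * h + h'

theorem mat_neg {c : Code} (hc : valid c = true) : mat (negC c) = -mat c := by
  obtain ⟨ha, hb⟩ := valid_lt hc
  show lin (m2 (neg2 c.2.1)) (m2 (neg2 c.2.2)) * _ = _
  rw [(m2_fin ⟨c.2.1, ha⟩).1, (m2_fin ⟨c.2.2, hb⟩).1, ← lin_neg, Matrix.neg_mul]
  rfl

/-- The lift of a valid code. -/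
def lift (c : Code) (h : valid c = true) : S4 := ⟨mat c, det_one h⟩

/-- The element of a code (trivial for invalid codes). -/
def el (c : Code) : L4 := if h : valid c = true then pr (lift c h) else 1

theorem el_def {c : Code} (h : valid c = true) : el c = pr (lift c h) := dif_pos h

theorem el_mul {c d : Code} (hc : valid c = true) (hd : valid d = true) :
    el c * el d = el (mulC c d) := by
  rw [el_def hc, el_def hd, el_def (valid_mul hc hd), ← map_mul]
  exact congrArg pr (Subtype.ext (mat_mul hc hd).symm)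

theorem mat_inj {c d : Code} (hc : valid c = true) (hd : valid d = true) (h : mat c = mat d) :
    c = d := by
  obtain ⟨ha, hb, hdet⟩ := valid_iff.1 hc
  obtain ⟨ha', hb', hdet'⟩ := valid_iff.1 hd
  have ne : ∀ A B A' B' : M2, A.det * B.det = 1 → lin A B ≠ lin A' B' * sw := by
    intro A B A' B' hAB e
    have e0 : A 0 0 = 0 := by
      have := congrFun (congrFun e 0) 0
      simpa [lin, sw, Matrix.mul_apply, Fin.sum_univ_four] using this
    have e1 : A 0 1 = 0 := by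
      have := congrFun (congrFun e 0) 3
      simpa [lin, sw, Matrix.mul_apply, Fin.sum_univ_four] using this
    rw [Matrix.det_fin_two A, e0, e1] at hAB
    simp at hAB
  rcases c with ⟨(_ | _), a, b⟩ <;> rcases d with ⟨(_ | _), a', b'⟩ <;>
    simp only [mat, if_true, Bool.false_eq_true, if_false, mul_one] at h
  · obtain ⟨e, e'⟩ := lin_inj h
    simp only at ha ha' hb hb'
    rw [m2_inj ha ha' e, m2_inj hb hb' e']
  · exact absurd h (ne _ _ _ _ hdet)
  · exact absurd h.symm (ne _ _ _ _ hdet')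
  · have h' := congrArg (· * sw) h
    simp only [mul_assoc, sw_sw, mul_one] at h'
    obtain ⟨e, e'⟩ := lin_inj h'
    simp only at ha ha' hb hb'
    rw [m2_inj ha ha' e, m2_inj hb hb' e']

theorem valid_neg {c : Code} (hc : valid c = true) : valid (negC c) = true := by
  obtain ⟨ha, hb, h⟩ := valid_iff.1 hc
  refine valid_iff.2 ⟨(m2_fin ⟨c.2.1, ha⟩).2.1, (m2_fin ⟨c.2.2, hb⟩).2.1, ?_⟩
  show (m2 (neg2 c.2.1)).det * (m2 (neg2 c.2.2)).det = 1
  rw [(m2_fin ⟨c.2.1, ha⟩).1, (m2_fin ⟨c.2.2, hb⟩).1]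
  simpa [Matrix.det_neg] using h

theorem el_eq_iff {c d : Code} (hc : valid c = true) (hd : valid d = true) :
    el c = el d ↔ eqC c d = true := by
  rw [el_def hc, el_def hd, pr_eq_iff]
  simp only [eqC, Bool.or_eq_true, beq_iff_eq]
  constructor
  · rintro (e | e)
    · exact Or.inl (mat_inj hd hc e)
    · exact Or.inr (mat_inj hd (valid_neg hc) (by rw [mat_neg hc]; exact e))
  · rintro (rfl | rfl)
    · exact Or.inl rfl
    · exact Or.inr (mat_neg hc)

/-- The code of the identity. -/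
abbrev oneC : Code := (false, 28, 28)

/-- The code of `tEl`. -/
abbrev tC : Code := (false, 28, 56)

/-- The code of `zEl`. -/
abbrev zC : Code := (false, 37, 28)

/-- The code of `uEl`. -/
abbrev uC : Code := (false, 28, 37)

theorem el_of_mat {c : Code} {g : S4} (hv : valid c = true) (h : mat c = g.1) : el c = pr g := by
  rw [el_def hv]
  exact congrArg pr (Subtype.ext h)

theorem el_one : el oneC = 1 := by
  rw [el_of_mat (g := 1) (by decide) (by decide +kernel), map_one]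

theorem el_t : el tC = tEl := el_of_mat (by decide) (by decide +kernel)

theorem el_z : el zC = zEl := el_of_mat (by decide) (by decide +kernel)

theorem el_u : el uC = uEl := el_of_mat (by decide) (by decide +kernel)

theorem el_mem (c : Code) : el c ∈ CtL := by
  rw [Subgroup.mem_centralizer_singleton_iff]
  by_cases h : valid c = true
  · rw [← el_t, el_mul h (by decide), el_mul (by decide) h,
      el_eq_iff (valid_mul h (by decide)) (valid_mul (by decide) h)]
    obtain ⟨ha, hb⟩ := valid_lt h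
    have key : ∀ a : Fin 81, mul2 a.val 28 = a.val ∧ mul2 28 a.val = a.val ∧
        mul2 a.val 56 = neg2 a.val ∧ mul2 56 a.val = neg2 a.val ∧ neg2 (neg2 a.val) = a.val := by
      decide +kernel
    obtain ⟨p1, p2, p3, p4, p5⟩ := key ⟨c.2.1, ha⟩
    obtain ⟨q1, q2, q3, q4, q5⟩ := key ⟨c.2.2, hb⟩
    rcases c with ⟨(_ | _), a, b⟩ <;>
      simp_all [eqC, mulC, negC]
  · rw [el, dif_neg h, one_mul, mul_one]

theorem exists_code {g : L4} (hg : g ∈ CtL) : ∃ c, valid c = true ∧ el c = g := by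
  obtain ⟨s, rfl⟩ := pr_surjective g
  rw [Subgroup.mem_centralizer_singleton_iff, ← el_t, el_def (by decide), ← map_mul, ← map_mul,
    pr_eq_iff] at hg
  obtain ⟨v, hv⟩ : ∃ v : Fin 4 → ZMod 3, v = ![1, -1, -1, 1] := ⟨_, rfl⟩
  have hm : mat tC = Matrix.diagonal v := by rw [hv]; decide +kernel
  have hd : s.1.det = 1 := s.2
  have hz : ∀ i j, (v i = v j → False) → s.1 i j * v j = s.1 i j * v i → s.1 i j = 0 := by
    intro i j hne e
    by_contra hc
    exact hne (mul_left_cancel₀ hc e).symm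
  rcases hg with e | e
  · have e' : ∀ i j, s.1 i j * v j = s.1 i j * v i := by
      intro i j
      have := congrFun (congrFun e i) j
      simp only [Matrix.SpecialLinearGroup.coe_mul, show (lift tC (by decide)).1 = Matrix.diagonal v from hm,
        Matrix.diagonal_mul, Matrix.mul_diagonal] at this
      linear_combination -this
    obtain ⟨a, ha⟩ := m2_surj !![s.1 0 0, s.1 0 3; s.1 3 0, s.1 3 3]
    obtain ⟨b, hb⟩ := m2_surj !![s.1 1 1, s.1 1 2; s.1 2 1, s.1 2 2]
    have hmat : mat (false, a.val, b.val) = s.1 := by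
      show lin (m2 a.val) (m2 b.val) * 1 = s.1
      rw [mul_one, ha, hb]
      ext i j
      fin_cases i <;> fin_cases j <;> simp [lin] <;>
        exact (hz _ _ (by subst hv; decide) (e' _ _)).symm
    refine ⟨_, valid_iff.2 ⟨a.isLt, b.isLt, ?_⟩, el_of_mat ?_ hmat⟩
    · rw [← hmat, mat] at hd
      simpa [lin_det] using hd
    · refine valid_iff.2 ⟨a.isLt, b.isLt, ?_⟩
      rw [← hmat, mat] at hd
      simpa [lin_det] using hd
  · have e' : ∀ i j, s.1 i j * v j = -(s.1 i j * v i) := by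
      intro i j
      have := congrFun (congrFun e i) j
      simp only [Matrix.SpecialLinearGroup.coe_mul, show (lift tC (by decide)).1 = Matrix.diagonal v from hm,
        Matrix.diagonal_mul, Matrix.mul_diagonal, Matrix.neg_apply] at this
      linear_combination this
    have hz' : ∀ i j, v i = v j → s.1 i j = 0 := by
      intro i j he
      have h2 := e' i j
      rw [he] at h2
      have hj : ∀ (x y : ZMod 3), x * y = -(x * y) → y ≠ 0 → x = 0 := by decide
      refine hj _ _ h2 ?_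
      rw [hv]
      fin_cases j <;> decide
    obtain ⟨a, ha⟩ := m2_surj !![s.1 0 1, s.1 0 2; s.1 3 1, s.1 3 2]
    obtain ⟨b, hb⟩ := m2_surj !![s.1 1 0, s.1 1 3; s.1 2 0, s.1 2 3]
    have hmat : mat (true, a.val, b.val) = s.1 := by
      show lin (m2 a.val) (m2 b.val) * sw = s.1
      rw [ha, hb]
      ext i j
      fin_cases i <;> fin_cases j <;>
        simp [lin, sw, Matrix.mul_apply, Fin.sum_univ_four] <;>
        exact (hz' _ _ (by subst hv; decide)).symm
    have hs : sw.det = 1 := by decide +kernel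
    refine ⟨_, valid_iff.2 ⟨a.isLt, b.isLt, ?_⟩, el_of_mat ?_ hmat⟩
    · rw [← hmat, mat] at hd
      simpa [lin_det, hs] using hd
    · refine valid_iff.2 ⟨a.isLt, b.isLt, ?_⟩
      rw [← hmat, mat] at hd
      simpa [lin_det, hs] using hd

/-- Canonical codes with blocks in `S`, swapped ones only if `w`. -/
def codes (S : List ℕ) (w : Bool) : List Code :=
  (if w then [false, true] else [false]).flatMap fun s =>
    (S.filter fun a => a < neg2 a).flatMap fun a =>
      (S.filter fun b => valid (s, a, b)).map fun b => (s, a, b)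

/-- `S` is closed under product and negative and contains the identity. -/
def closedList (S : List ℕ) : Bool :=
  S.contains 28 && (S.all fun a => decide (a < 81) && S.contains (neg2 a) &&
    S.all fun b => S.contains (mul2 a b))

/-- Membership of a code. -/
def inS (S : List ℕ) (w : Bool) (c : Code) : Prop :=
  valid c = true ∧ (c.1 = true → w = true) ∧ c.2.1 ∈ S ∧ c.2.2 ∈ S

theorem mem_closed {S : List ℕ} (hS : closedList S = true) :
    28 ∈ S ∧ ∀ a ∈ S, a < 81 ∧ neg2 a ∈ S ∧ ∀ b ∈ S, mul2 a b ∈ S := by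
  simp only [closedList, Bool.and_eq_true, List.all_eq_true, List.contains_iff_mem,
    decide_eq_true_eq] at hS
  exact ⟨hS.1, fun a ha => ⟨(hS.2 a ha).1.1, (hS.2 a ha).1.2, (hS.2 a ha).2⟩⟩

theorem inS_mul {S : List ℕ} {w : Bool} (hS : closedList S = true) {c d : Code}
    (hc : inS S w c) (hd : inS S w d) : inS S w (mulC c d) := by
  obtain ⟨hv, hw, ha, hb⟩ := hc
  obtain ⟨hv', hw', ha', hb'⟩ := hd
  obtain ⟨-, hm⟩ := mem_closed hS
  refine ⟨valid_mul hv hv', ?_, ?_, ?_⟩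
  · rcases c with ⟨(_ | _), a, b⟩
    · intro h
      exact hw' (by simpa [mulC] using h)
    · intro _
      exact hw rfl
  · rcases c with ⟨(_ | _), a, b⟩
    · exact (hm a ha).2.2 _ ha'
    · exact (hm a ha).2.2 _ hb'
  · rcases c with ⟨(_ | _), a, b⟩
    · exact (hm b hb).2.2 _ hb'
    · exact (hm b hb).2.2 _ ha'

/-- The subgroup of the codes with blocks in a closed list. -/
def sub (S : List ℕ) (w : Bool) (hS : closedList S = true) : Subgroup L4 where
  carrier := {g | ∃ c, inS S w c ∧ el c = g}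
  one_mem' := ⟨oneC, ⟨by decide, by simp, (mem_closed hS).1, (mem_closed hS).1⟩, el_one⟩
  mul_mem' := by
    rintro g h ⟨c, hc, rfl⟩ ⟨d, hd, rfl⟩
    exact ⟨mulC c d, inS_mul hS hc hd, (el_mul hc.1 hd.1).symm⟩
  inv_mem' := by
    rintro g ⟨c, hc, rfl⟩
    have key : ∀ n : ℕ, ∃ d, inS S w d ∧ el d = el c ^ n := by
      intro n
      induction n with
      | zero => exact ⟨oneC, ⟨by decide, by simp, (mem_closed hS).1, (mem_closed hS).1⟩,
          by rw [el_one, pow_zero]⟩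
      | succ n ih =>
        obtain ⟨d, hd, e⟩ := ih
        exact ⟨mulC d c, inS_mul hS hd hc, by rw [← el_mul hd.1 hc.1, e, pow_succ]⟩
    obtain ⟨d, hd, e⟩ := key (orderOf (el c) - 1)
    refine ⟨d, hd, ?_⟩
    rw [e, eq_inv_iff_mul_eq_one, ← pow_succ, Nat.sub_add_cancel (orderOf_pos _),
      pow_orderOf_eq_one]

theorem neg_lt : ∀ a : Fin 81, det2 a.val = 0 ∨ a.val < neg2 a.val ∨
    neg2 a.val < neg2 (neg2 a.val) := by decide +kernel

theorem neg_anti : ∀ a : Fin 81, a.val < neg2 a.val → neg2 (neg2 a.val) = a.val := by decide +kernel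

theorem mem_codes {S : List ℕ} {w : Bool} {c : Code} :
    c ∈ codes S w ↔ inS S w c ∧ c.2.1 < neg2 c.2.1 := by
  rcases c with ⟨s, a, b⟩
  constructor
  · intro h
    simp only [codes, List.mem_flatMap, List.mem_map, List.mem_filter, Prod.mk.injEq,
      decide_eq_true_eq] at h
    obtain ⟨s', hs', a', ⟨ha', hlt⟩, b', ⟨hb', hv⟩, rfl, rfl, rfl⟩ := h
    refine ⟨⟨hv, ?_, ha', hb'⟩, hlt⟩
    rintro (rfl : s' = true)
    cases w <;> simp_all
  · rintro ⟨⟨hv, hw, ha, hb⟩, hlt⟩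
    simp only [codes, List.mem_flatMap, List.mem_map, List.mem_filter, decide_eq_true_eq]
    refine ⟨s, ?_, a, ⟨ha, hlt⟩, b, ⟨hb, hv⟩, rfl⟩
    cases s
    · cases w <;> simp
    · simp [hw rfl]

theorem mem_sub {S : List ℕ} {w : Bool} (hS : closedList S = true) {g : L4} :
    g ∈ sub S w hS ↔ ∃ c ∈ codes S w, el c = g := by
  constructor
  · rintro ⟨c, hc, rfl⟩
    obtain ⟨hv, hw, ha, hb⟩ := hc
    obtain ⟨la, lb⟩ := valid_lt hv
    obtain ⟨-, hm⟩ := mem_closed hS
    rcases neg_lt ⟨c.2.1, la⟩ with h0 | h | h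
    · exfalso
      simp only at h0
      simp [valid, h0] at hv
    · exact ⟨c, mem_codes.2 ⟨⟨hv, hw, ha, hb⟩, h⟩, rfl⟩
    · refine ⟨negC c, mem_codes.2 ⟨⟨valid_neg hv, hw, (hm _ ha).2.1, (hm _ hb).2.1⟩, h⟩, ?_⟩
      rw [eq_comm, el_eq_iff hv (valid_neg hv)]
      simp [eqC]
  · rintro ⟨c, hc, rfl⟩
    exact ⟨c, (mem_codes.1 hc).1, rfl⟩

theorem codes_valid {S : List ℕ} {w : Bool} {c : Code} (h : c ∈ codes S w) : valid c = true :=
  (mem_codes.1 h).1.1

theorem el_mem_sub {S : List ℕ} {w : Bool} (hS : closedList S = true) {c : Code}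
    (hv : valid c = true) (hw : c.1 = true → w = true) (ha : c.2.1 ∈ S) (hb : c.2.2 ∈ S) :
    el c ∈ sub S w hS :=
  ⟨c, ⟨hv, hw, ha, hb⟩, rfl⟩

theorem sub_le_cent {S : List ℕ} {w : Bool} (hS : closedList S = true) : sub S w hS ≤ CtL := by
  rintro g ⟨c, -, rfl⟩
  exact el_mem c

theorem card_sub {S : List ℕ} {w : Bool} (hS : closedList S = true) (hn : (codes S w).Nodup) :
    Nat.card (sub S w hS) = (codes S w).length := by
  have hset : (sub S w hS : Set L4) = el '' {c | c ∈ codes S w} := by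
    ext g
    exact mem_sub hS
  have hinj : Set.InjOn el {c | c ∈ codes S w} := by
    intro c hc d hd e
    obtain ⟨hc', lc⟩ := mem_codes.1 hc
    obtain ⟨hd', ld⟩ := mem_codes.1 hd
    rw [el_eq_iff hc'.1 hd'.1] at e
    simp only [eqC, Bool.or_eq_true, beq_iff_eq] at e
    rcases e with e | e
    · exact e.symm
    · exfalso
      rw [e] at ld
      have h2 : neg2 (neg2 c.2.1) = c.2.1 := neg_anti ⟨_, (valid_lt hc'.1).1⟩ lc
      change neg2 c.2.1 < neg2 (neg2 c.2.1) at ld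
      omega
  show Nat.card ↥(sub S w hS : Set L4) = _
  rw [hset, Nat.card_image_of_injOn hinj, Nat.card_coe_set_eq]
  rw [show {c | c ∈ codes S w} = ↑(codes S w).toFinset by ext; simp, Set.ncard_coe_finset,
    List.toFinset_card_of_nodup hn]

theorem codes_nodup {S : List ℕ} {w : Bool} (hn : S.Nodup) : (codes S w).Nodup := by
  refine List.nodup_flatMap.2 ⟨fun s _ => List.nodup_flatMap.2 ⟨fun a _ => ?_, ?_⟩, ?_⟩
  · refine (hn.filter _).map ?_
    intro b b' h
    exact (Prod.ext_iff.1 (Prod.ext_iff.1 h).2).2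
  · refine (hn.filter _).imp fun {a a'} hne c h h' => hne ?_
    simp only [List.mem_map] at h h'
    obtain ⟨b, -, rfl⟩ := h
    obtain ⟨b', -, e⟩ := h'
    exact (Prod.ext_iff.1 (Prod.ext_iff.1 e).2).1.symm
  · have hnd : (if w then [false, true] else [false]).Nodup := by cases w <;> decide
    refine hnd.imp fun {s s'} hne c h h' => hne ?_
    simp only [List.mem_flatMap, List.mem_map] at h h'
    obtain ⟨a, -, b, -, rfl⟩ := h
    obtain ⟨a', -, b', -, e⟩ := h'
    exact (Prod.ext_iff.1 e).1.symm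

/-- Search for a conjugating matrix to `tTwo`: columns `e₀`, `g e₀`, `w`, `g w`. -/
def twoTest (c : Code) : Bool :=
  (List.range 81).any fun n =>
    let g := mat c
    let v : Fin 4 → ZMod 3 :=
      ![((n / 27 : ℕ) : ZMod 3), ((n / 9 % 3 : ℕ) : ZMod 3), ((n / 3 % 3 : ℕ) : ZMod 3),
        ((n % 3 : ℕ) : ZMod 3)]
    let gv := g *ᵥ v
    let C : Matrix (Fin 4) (Fin 4) (ZMod 3) :=
      !![1, g 0 0, v 0, gv 0; 0, g 1 0, v 1, gv 1; 0, g 2 0, v 2, gv 2; 0, g 3 0, v 3, gv 3]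
    decide (C.det = 1) &&
      decide (g * C = C * !![0, -1, 0, 0; 1, 0, 0, 0; 0, 0, 0, -1; 0, 0, 1, 0])

theorem isTwo_of {c : Code} (hv : valid c = true) (h : twoTest c = true) : IsTwo (el c) := by
  obtain ⟨n, -, hn⟩ := List.any_eq_true.1 h
  simp only [Bool.and_eq_true, decide_eq_true_eq] at hn
  obtain ⟨hdet, he⟩ := hn
  rw [IsTwo, isConj_iff]
  refine ⟨pr ⟨_, hdet⟩, mul_inv_eq_iff_eq_mul.2 ?_⟩
  rw [el_def hv]
  exact ((map_mul pr _ _).symm.trans (congrArg pr (Subtype.ext he.symm))).trans (map_mul pr _ _)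

theorem isT_of {c : Code} (hv : valid c = true) (C : Matrix (Fin 4) (Fin 4) (ZMod 3))
    (hdet : C.det = 1)
    (he : mat c * C = C * !![1, 0, 0, 0; 0, -1, 0, 0; 0, 0, -1, 0; 0, 0, 0, 1]) : IsT (el c) := by
  rw [IsT, isConj_iff]
  refine ⟨pr ⟨C, hdet⟩, mul_inv_eq_iff_eq_mul.2 ?_⟩
  rw [el_def hv]
  exact ((map_mul pr _ _).symm.trans (congrArg pr (Subtype.ext he.symm))).trans (map_mul pr _ _)

end Cfsg.Agent.PSLFourThree.InvCode
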