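import Cfsg.Agent.Lib.PSLFourThree.InvCodes

/-!
# The centralizer of `tEl` in `PSL(4,3)`: piece A of S3373 (helper67)

* `card_CtL`: the centralizer has order 1152
* `invFacts`: the record `InvFacts`
-/

set_option autoImplicit false

namespace Cfsg.Agent.PSLFourThree

open InvCode

namespace InvCode

/-- The quaternion group. -/
abbrev qS : List ℕ := [15, 21, 28, 41, 53, 56, 67, 79]

/-- A Sylow 2-subgroup of `GL(2,3)`. -/
abbrev dS : List ℕ := [12, 15, 21, 24, 28, 29, 41, 43, 49, 53, 55, 56, 67, 71, 77, 79]

/-- `GL(2,3)`. -/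
abbrev gS : List ℕ := [12, 13, 14, 15, 16, 17, 21, 22, 23, 24, 25, 26, 28, 29, 31, 32, 34, 35, 37,
  38, 39, 41, 42, 43, 46, 47, 48, 49, 51, 53, 55, 56, 58, 59, 61, 62, 64, 65, 66, 67, 69, 71, 73,
  74, 75, 77, 78, 79]

theorem qS_closed : closedList qS = true := by decide +kernel

theorem dS_closed : closedList dS = true := by decide +kernel

theorem gS_closed : closedList gS = true := by decide +kernel

/-- The generators of the quaternion group of the block `1, 2`. -/
abbrev aC : Code := (false, 28, 21)

/-- The second generator. -/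
abbrev bC : Code := (false, 28, 41)

/-- The outer involution. -/
abbrev tauC : Code := (false, 29, 29)

/-- The swap. -/
abbrev sC : Code := (true, 28, 28)

/-- The twisted swap. -/
abbrev stC : Code := (true, 29, 29)

theorem gS_all : ∀ a : Fin 81, a.val ∈ gS ∨ det2 a.val = 0 := by decide +kernel

theorem cent_eq : CtL = sub gS true gS_closed := by
  refine le_antisymm ?_ (sub_le_cent _)
  intro g hg
  obtain ⟨c, hv, rfl⟩ := exists_code hg
  obtain ⟨la, lb⟩ := valid_lt hv
  refine el_mem_sub _ hv (fun _ => rfl) ?_ ?_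
  · rcases gS_all ⟨_, la⟩ with h | h
    · exact h
    · simp only at h
      simp [valid, h] at hv
  · rcases gS_all ⟨_, lb⟩ with h | h
    · exact h
    · simp only at h
      simp [valid, h] at hv

theorem qS_sub : ∀ a ∈ qS, a ∈ dS := by decide

theorem sub_mono {S S' : List ℕ} {w w' : Bool} (hS : closedList S = true)
    (hS' : closedList S' = true) (h : ∀ a ∈ S, a ∈ S') (hw : w = true → w' = true) :
    sub S w hS ≤ sub S' w' hS' := by
  rintro g ⟨c, ⟨hv, hw', ha, hb⟩, rfl⟩
  exact el_mem_sub _ hv (fun e => hw (hw' e)) (h _ ha) (h _ hb)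

/-- Equality of a square with a given element, on codes. -/
theorem sq_iff {c d : Code} (hc : valid c = true) (hd : valid d = true) :
    el c * el c = el d ↔ eqC (mulC c c) d = true := by
  rw [el_mul hc hc, el_eq_iff (valid_mul hc hc) hd]

theorem sq_one_iff {c : Code} (hc : valid c = true) :
    el c * el c = 1 ↔ eqC (mulC c c) oneC = true := by
  rw [← el_one, sq_iff hc (by decide)]

theorem comm_iff {c d : Code} (hc : valid c = true) (hd : valid d = true) :
    el c * el d = el d * el c ↔ eqC (mulC c d) (mulC d c) = true := by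
  rw [el_mul hc hd, el_mul hd hc, el_eq_iff (valid_mul hc hd) (valid_mul hd hc)]

theorem triv_iff {c : Code} (hc : valid c = true) :
    (el c = 1 ∨ el c = tEl) ↔ (eqC c oneC = true ∨ eqC c tC = true) := by
  rw [← el_one, ← el_t, el_eq_iff hc (by decide), el_eq_iff hc (by decide)]

/-- The set generating `R`. -/
def sqList : List Code := (codes dS true).filter fun c => eqC (mulC c c) tC

theorem sqList_mem : ∀ c ∈ sqList, c ∈ codes qS false := by decide +kernel

theorem qS_prod : ∀ r ∈ codes qS false, ∃ x ∈ oneC :: tC :: sqList, ∃ y ∈ oneC :: tC :: sqList,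
    eqC (mulC x y) r = true := by decide +kernel

/-- The words in `aC` and `bC`. -/
def words : List Code :=
  [oneC, tC, aC, mulC tC aC, bC, mulC tC bC, mulC aC bC, mulC bC aC]

theorem word_mem {c : Code} (h : c ∈ words) :
    valid c = true ∧ el c ∈ Subgroup.closure ({el aC, el bC} : Set L4) := by
  have ha : el aC ∈ Subgroup.closure ({el aC, el bC} : Set L4) := Subgroup.subset_closure (Or.inl rfl)
  have hb : el bC ∈ Subgroup.closure ({el aC, el bC} : Set L4) := Subgroup.subset_closure (Or.inr rfl)
  have ht : el tC ∈ Subgroup.closure ({el aC, el bC} : Set L4) := by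
    rw [← (sq_iff (c := aC) (d := tC) (by decide) (by decide)).2 (by decide)]
    exact mul_mem ha ha
  have hp : ∀ x y : Code, valid x = true → valid y = true →
      el x ∈ Subgroup.closure ({el aC, el bC} : Set L4) →
      el y ∈ Subgroup.closure ({el aC, el bC} : Set L4) →
      valid (mulC x y) = true ∧ el (mulC x y) ∈ Subgroup.closure ({el aC, el bC} : Set L4) :=
    fun x y hx hy h h' => ⟨valid_mul hx hy, el_mul hx hy ▸ mul_mem h h'⟩
  simp only [words, List.mem_cons, List.not_mem_nil, or_false] at h
  rcases h with rfl | rfl | rfl | rfl | rfl | rfl | rfl | rfl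
  · exact ⟨by decide, el_one ▸ one_mem _⟩
  · exact ⟨by decide, ht⟩
  · exact ⟨by decide, ha⟩
  · exact hp _ _ (by decide) (by decide) ht ha
  · exact ⟨by decide, hb⟩
  · exact hp _ _ (by decide) (by decide) ht hb
  · exact hp _ _ (by decide) (by decide) ha hb
  · exact hp _ _ (by decide) (by decide) hb ha

/-- Candidates for the conjugating elements. -/
def autList : List Code :=
  [false, true].flatMap fun s => gS.map fun b =>
    if s then mulC sC (false, det2 b * 27 + 1, b) else (false, det2 b * 27 + 1, b)

theorem autList_valid : ∀ c ∈ autList, valid c = true := by decide +kernel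

theorem aut_table : ∀ x ∈ sqList, ∀ y ∈ sqList, eqC (mulC x y) (mulC (mulC y x) tC) = true →
    ∃ c ∈ autList, eqC (mulC c aC) (mulC x c) = true ∧ eqC (mulC c bC) (mulC y c) = true := by
  decide +kernel

/-- The commutator list. -/
def commList : List Code :=
  (codes qS false).filter fun x => (codes qS false).any fun r =>
    [zC, uC].any fun p => eqC (mulC r p) (mulC (mulC x p) r)

theorem comm_table : ∀ q ∈ codes qS false, ∃ x ∈ commList, ∃ y ∈ commList, ∃ w ∈ commList,
    eqC (mulC (mulC x y) w) q = true := by decide +kernel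

theorem invol_table : ∀ g ∈ codes qS true, eqC (mulC g g) oneC = true →
    eqC g oneC = true ∨ eqC g tC = true ∨
      ((g.1 = false → twoTest g = true ∧ twoTest (mulC g tC) = true) ∧
        (twoTest g = true ∨ twoTest (mulC g tC) = true)) := by decide +kernel

theorem norm_table : ∀ c ∈ codes gS true, ∀ r ∈ sqList, ∃ x ∈ codes qS false,
    eqC (mulC c r) (mulC x c) = true := by decide +kernel

theorem cent_table : ∀ c ∈ codes gS true,
    (∀ r ∈ sqList, eqC (mulC c r) (mulC r c) = true) → eqC c oneC = true ∨ eqC c tC = true := by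
  decide +kernel

theorem center_table : ∀ c ∈ codes dS true,
    (∀ h ∈ codes dS true, eqC (mulC c h) (mulC h c) = true) →
      eqC c oneC = true ∨ eqC c tC = true := by decide +kernel

theorem split_table : ∀ q ∈ codes qS false, ∃ x ∈ words, ∃ y ∈ codes qS false,
    eqC (mulC y aC) (mulC aC y) = true ∧ eqC (mulC y bC) (mulC bC y) = true ∧
      eqC (mulC y uC) (mulC uC y) = true ∧ eqC (mulC x y) q = true := by decide +kernel

theorem split_u_table : ∀ y ∈ codes qS false, eqC (mulC y aC) (mulC aC y) = true →
    eqC (mulC y bC) (mulC bC y) = true → eqC (mulC y uC) (mulC uC y) = true := by decide +kernel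

theorem coset_table : ∀ x ∈ codes dS true, ∃ r ∈ codes qS false,
    eqC x r = true ∨ eqC (mulC tauC x) r = true ∨ eqC (mulC sC x) r = true ∨
      eqC (mulC stC x) r = true := by decide +kernel

theorem mem_sqList {g : L4} (hg : g ∈ sub qS false qS_closed) (hsq : g * g = tEl) :
    ∃ c ∈ sqList, valid c = true ∧ el c = g := by
  obtain ⟨c, hc, rfl⟩ := (mem_sub dS_closed).1 (sub_mono _ _ qS_sub (fun h => by cases h) hg :
    g ∈ sub dS true dS_closed)
  have hv := codes_valid hc
  rw [← el_t, sq_iff hv (by decide)] at hsq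
  exact ⟨c, List.mem_filter.2 ⟨hc, hsq⟩, hv, rfl⟩

theorem eq_of_eqC {c d : Code} (hc : valid c = true) (hd : valid d = true) (h : eqC c d = true) :
    el c = el d :=
  (el_eq_iff hc hd).2 h

end InvCode

theorem card_CtL : Nat.card CtL = 1152 := by
  rw [cent_eq, card_sub gS_closed (codes_nodup (by decide))]
  decide +kernel

theorem invFacts : ∃ T R M a b τ, InvFacts T R M a b τ := by
  classical
  refine ⟨sub dS true dS_closed, sub qS false qS_closed, sub qS true qS_closed,
    el aC, el bC, el tauC, ?_⟩
  have hT1 : ∀ {g}, g ∈ sub qS false qS_closed → g ∈ sub dS true dS_closed := fun h =>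
    sub_mono _ _ qS_sub (fun h => by cases h) h
  have haR : el aC ∈ sub qS false qS_closed := el_mem_sub _ (by decide) (by simp) (by decide) (by decide)
  have hbR : el bC ∈ sub qS false qS_closed := el_mem_sub _ (by decide) (by simp) (by decide) (by decide)
  have hne : ∀ c d : Code, valid c = true → valid d = true → eqC c d = false → el c ≠ el d := by
    intro c d hc hd h e
    rw [el_eq_iff hc hd, h] at e
    exact Bool.false_ne_true e
  constructor
  case t_invol =>
    apply orderOf_eq_prime
    · rw [pow_two, ← el_t, sq_one_iff (by decide)]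
      decide
    · rw [← el_t, ← el_one]
      exact hne _ _ (by decide) (by decide) (by decide)
  case not_conj =>
    intro h
    obtain ⟨c, hc⟩ := isConj_iff.1 h
    have h1 : tEl * tEl = 1 := by
      rw [← el_t, sq_one_iff (by decide)]
      decide
    obtain ⟨C, rfl⟩ := pr_surjective c
    obtain ⟨A, hA, eA⟩ : ∃ A : S4, pr A = tEl ∧ A.1 * A.1 = 1 :=
      ⟨⟨!![1, 0, 0, 0; 0, -1, 0, 0; 0, 0, -1, 0; 0, 0, 0, 1], by decide +kernel⟩, rfl,
        (by decide +kernel : !![1, 0, 0, 0; 0, -1, 0, 0; 0, 0, -1, 0; 0, 0, 0, (1 : ZMod 3)] *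
          !![1, 0, 0, 0; 0, -1, 0, 0; 0, 0, -1, 0; 0, 0, 0, 1] = 1)⟩
    obtain ⟨B, hB, eB⟩ : ∃ B : S4, pr B = tTwo ∧ B.1 * B.1 = -1 :=
      ⟨⟨!![0, -1, 0, 0; 1, 0, 0, 0; 0, 0, 0, -1; 0, 0, 1, 0], by decide +kernel⟩, rfl,
        (by decide +kernel : !![0, -1, 0, 0; 1, 0, 0, 0; 0, 0, 0, -1; 0, 0, 1, (0 : ZMod 3)] *
          !![0, -1, 0, 0; 1, 0, 0, 0; 0, 0, 0, -1; 0, 0, 1, 0] = -1)⟩
    rw [mul_inv_eq_iff_eq_mul, ← hA, ← hB, ← map_mul, ← map_mul, pr_eq_iff] at hc
    simp only [Matrix.SpecialLinearGroup.coe_mul] at hc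
    have key : C.1 * (A.1 * A.1) = B.1 * B.1 * C.1 := by
      rcases hc with e | e
      · rw [← mul_assoc, ← e, mul_assoc, ← e, ← mul_assoc]
      · have e' : C.1 * A.1 = -(B.1 * C.1) := by rw [e, neg_neg]
        rw [← mul_assoc, e', neg_mul, mul_assoc, e', mul_neg, neg_neg, ← mul_assoc]
    rw [eA, eB, mul_one, neg_mul, one_mul] at key
    have h2 : ∀ x : ZMod 3, x = -x → x = 0 := by decide
    have h0 : C.1 = 0 := by
      ext i j
      exact h2 _ (congrFun (congrFun key i) j)
    have := C.2
    rw [h0, Matrix.det_zero] at this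
    exact absurd this (by decide)
  case z_mem => exact el_z ▸ el_mem zC
  case u_mem => exact el_u ▸ el_mem uC
  case card_cent => exact card_CtL
  case T_le => exact sub_le_cent _
  case T_card =>
    rw [card_sub dS_closed (codes_nodup (by decide))]
    decide +kernel
  case T_center =>
    intro g hg hcomm
    obtain ⟨c, hc, rfl⟩ := (mem_sub _).1 hg
    refine (triv_iff (codes_valid hc)).2 (center_table c hc fun h hh => ?_)
    exact (comm_iff (codes_valid hc) (codes_valid hh)).1 (hcomm _ ((mem_sub _).2 ⟨h, hh, rfl⟩))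
  case R_gen =>
    refine le_antisymm ?_ ((Subgroup.closure_le _).2 ?_)
    · intro g hg
      obtain ⟨r, hr, rfl⟩ := (mem_sub _).1 hg
      obtain ⟨x, hx, y, hy, e⟩ := qS_prod r hr
      have hm : ∀ x ∈ oneC :: tC :: sqList, valid x = true ∧ el x ∈
          Subgroup.closure {g | g ∈ sub dS true dS_closed ∧ g * g = tEl} := by
        have hsq : ∀ x ∈ sqList, valid x = true ∧ el x ∈
            Subgroup.closure {g | g ∈ sub dS true dS_closed ∧ g * g = tEl} := by
          intro x hx
          obtain ⟨hx1, hx2⟩ := List.mem_filter.1 hx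
          refine ⟨codes_valid hx1, Subgroup.subset_closure ⟨(mem_sub _).2 ⟨x, hx1, rfl⟩, ?_⟩⟩
          rw [← el_t, sq_iff (codes_valid hx1) (by decide)]
          exact hx2
        intro x hx
        rcases List.mem_cons.1 hx with rfl | hx
        · exact ⟨by decide, el_one ▸ one_mem _⟩
        rcases List.mem_cons.1 hx with rfl | hx
        · have haa : el aC * el aC = el tC := (sq_iff (by decide) (by decide)).2 (by decide)
          have : el aC ∈ Subgroup.closure {g | g ∈ sub dS true dS_closed ∧ g * g = tEl} :=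
            Subgroup.subset_closure ⟨hT1 haR, haa.trans el_t⟩
          exact ⟨by decide, haa ▸ mul_mem this this⟩
        · exact hsq x hx
      obtain ⟨vx, mx⟩ := hm x hx
      obtain ⟨vy, my⟩ := hm y hy
      rw [← eq_of_eqC (valid_mul vx vy) (codes_valid hr) e, ← el_mul vx vy]
      exact mul_mem mx my
    · rintro g ⟨hg, hsq⟩
      obtain ⟨c, hc, rfl⟩ := (mem_sub _).1 hg
      rw [← el_t, sq_iff (codes_valid hc) (by decide)] at hsq
      exact (mem_sub _).2 ⟨c, sqList_mem c (List.mem_filter.2 ⟨hc, hsq⟩), rfl⟩
  case R_card =>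
    rw [card_sub qS_closed (codes_nodup (by decide))]
    decide +kernel
  case R_norm =>
    have hmain : ∀ c ∈ CtL, ∀ g ∈ sub qS false qS_closed, c * g * c⁻¹ ∈ sub qS false qS_closed := by
      intro c hc g hg
      obtain ⟨c', hc', rfl⟩ : ∃ c' ∈ codes gS true, el c' = c := (mem_sub gS_closed).1 (cent_eq ▸ hc)
      have hgen : ∀ r ∈ oneC :: tC :: sqList, valid r = true ∧
          el c' * el r * (el c')⁻¹ ∈ sub qS false qS_closed := by
        have hsq : ∀ r ∈ sqList, valid r = true ∧
            el c' * el r * (el c')⁻¹ ∈ sub qS false qS_closed := by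
          intro r hr
          have vr := codes_valid (List.mem_filter.1 hr).1
          refine ⟨vr, ?_⟩
          obtain ⟨x, hx, e⟩ := norm_table c' hc' r hr
          have vc := codes_valid hc'
          have vx := codes_valid hx
          have : el c' * el r = el x * el c' := by
            rw [el_mul vc vr, el_mul vx vc]
            exact eq_of_eqC (valid_mul vc vr) (valid_mul vx vc) e
          rw [this, mul_inv_cancel_right]
          exact (mem_sub _).2 ⟨x, hx, rfl⟩
        intro r hr
        rcases List.mem_cons.1 hr with rfl | hr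
        · exact ⟨by decide, by simp [el_one]⟩
        rcases List.mem_cons.1 hr with rfl | hr
        · have hcm : el c' * el tC = el tC * el c' :=
            el_t ▸ Subgroup.mem_centralizer_singleton_iff.1 (el_mem c')
          exact ⟨by decide, by rw [hcm, mul_inv_cancel_right]
                               exact el_mem_sub _ (by decide) (by simp) (by decide) (by decide)⟩
        · exact hsq r hr
      obtain ⟨q, hq, rfl⟩ := (mem_sub _).1 hg
      obtain ⟨x, hx, y, hy, e⟩ := qS_prod q hq
      obtain ⟨vx, mx⟩ := hgen x hx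
      obtain ⟨vy, my⟩ := hgen y hy
      rw [← eq_of_eqC (valid_mul vx vy) (codes_valid hq) e, ← el_mul vx vy]
      have h' := mul_mem mx my
      rwa [show el c' * el x * (el c')⁻¹ * (el c' * el y * (el c')⁻¹) =
        el c' * (el x * el y) * (el c')⁻¹ by group] at h'
    intro c hc
    rw [Subgroup.mem_normalizer_iff]
    intro g
    refine ⟨hmain c hc g, fun h => ?_⟩
    have := hmain c⁻¹ (inv_mem hc) _ h
    simpa [mul_assoc] using this
  case R_cent =>
    intro g hg hcomm
    obtain ⟨c, hc, rfl⟩ : ∃ c ∈ codes gS true, el c = g := (mem_sub gS_closed).1 (cent_eq ▸ hg)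
    refine (triv_iff (codes_valid hc)).2 (cent_table c hc fun r hr => ?_)
    exact (comm_iff (codes_valid hc) (codes_valid (List.mem_filter.1 hr).1)).1
      (hcomm _ ((mem_sub _).2 ⟨r, sqList_mem r hr, rfl⟩))
  case R_comm =>
    intro g hg
    obtain ⟨q, hq, rfl⟩ := (mem_sub _).1 hg
    obtain ⟨x, hx, y, hy, w, hw, e⟩ := comm_table q hq
    have hm : ∀ x ∈ commList, valid x = true ∧ el x ∈ Subgroup.closure
        {g | ∃ r ∈ sub qS false qS_closed, ∃ p ∈ Subgroup.closure ({zEl, uEl} : Set L4),
          g = r * p * r⁻¹ * p⁻¹} := by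
      intro x hx
      simp only [commList, List.mem_filter, List.any_eq_true] at hx
      obtain ⟨hx1, r, hr, p, hp, e⟩ := hx
      have vx := codes_valid hx1
      have vr := codes_valid hr
      have vp : valid p = true := by
        simp only [List.mem_cons, List.not_mem_nil, or_false] at hp
        rcases hp with rfl | rfl <;> decide
      have e1 := eq_of_eqC (valid_mul vr vp) (valid_mul (valid_mul vx vp) vr) e
      rw [← el_mul vr vp, ← el_mul (valid_mul vx vp) vr, ← el_mul vx vp] at e1
      refine ⟨vx, Subgroup.subset_closure ⟨el r, (mem_sub _).2 ⟨r, hr, rfl⟩, el p, ?_, ?_⟩⟩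
      · simp only [List.mem_cons, List.not_mem_nil, or_false] at hp
        rcases hp with rfl | rfl
        · exact Subgroup.subset_closure (Or.inl el_z)
        · exact Subgroup.subset_closure (Or.inr el_u)
      · rw [e1]
        group
    obtain ⟨vx, mx⟩ := hm x hx
    obtain ⟨vy, my⟩ := hm y hy
    obtain ⟨vw, mw⟩ := hm w hw
    rw [← eq_of_eqC (valid_mul (valid_mul vx vy) vw) (codes_valid hq) e,
      ← el_mul (valid_mul vx vy) vw, ← el_mul vx vy]
    exact mul_mem (mul_mem mx my) mw
  case R_invol =>
    intro g hg hsq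
    obtain ⟨c, hc, rfl⟩ := (mem_sub _).1 hg
    have hv := codes_valid hc
    obtain ⟨⟨-, hw, ha, hb⟩, hlt⟩ := mem_codes.1 hc
    have hc' : c ∈ codes qS true := mem_codes.2 ⟨⟨hv, fun _ => rfl, ha, hb⟩, hlt⟩
    have hf : c.1 = false := by
      rcases h : c.1 with _ | _
      · rfl
      · exact absurd (hw h) (by decide)
    rcases invol_table c hc' ((sq_one_iff hv).1 hsq) with h | h | ⟨h, -⟩
    · exact Or.inl ((eq_of_eqC hv (by decide) h).trans el_one)
    · exact Or.inr (Or.inl ((eq_of_eqC hv (by decide) h).trans el_t))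
    · refine Or.inr (Or.inr ⟨isTwo_of hv (h hf).1, ?_⟩)
      rw [← el_t, el_mul hv (by decide)]
      exact isTwo_of (valid_mul hv (by decide)) (h hf).2
  case ab_mem =>
    refine ⟨haR, hbR, el_t ▸ (sq_iff (by decide) (by decide)).2 (by decide),
      el_t ▸ (sq_iff (by decide) (by decide)).2 (by decide), ?_⟩
    rw [← el_t, el_mul (by decide) (by decide), el_mul (c := bC) (d := aC) (by decide) (by decide),
      el_mul (by decide) (by decide)]
    exact eq_of_eqC (by decide) (by decide) (by decide)
  case aut =>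
    intro u hu v hv hu2 hv2 huv
    obtain ⟨x, hx, vx, rfl⟩ := mem_sqList hu hu2
    obtain ⟨y, hy, vy, rfl⟩ := mem_sqList hv hv2
    rw [← el_t, el_mul vx vy, el_mul vy vx, el_mul (valid_mul vy vx) (by decide),
      el_eq_iff (valid_mul vx vy) (valid_mul (valid_mul vy vx) (by decide))] at huv
    obtain ⟨c, hc, e1, e2⟩ := aut_table x hx y hy huv
    have vc := autList_valid c hc
    refine ⟨el c, el_mem c, mul_inv_eq_iff_eq_mul.2 ?_, mul_inv_eq_iff_eq_mul.2 ?_⟩
    · rw [el_mul vc (by decide), el_mul vx vc]
      exact eq_of_eqC (valid_mul vc (by decide)) (valid_mul vx vc) e1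
    · rw [el_mul vc (by decide), el_mul vy vc]
      exact eq_of_eqC (valid_mul vc (by decide)) (valid_mul vy vc) e2
  case split =>
    intro g hg
    obtain ⟨q, hq, rfl⟩ := (mem_sub _).1 hg
    obtain ⟨x, hx, y, hy, e1, e2, e3, e⟩ := split_table q hq
    obtain ⟨vx, mx⟩ := word_mem hx
    have vy := codes_valid hy
    rw [← eq_of_eqC (valid_mul vx vy) (codes_valid hq) e, ← el_mul vx vy]
    refine mul_mem (Subgroup.closure_mono Set.subset_union_left mx)
      (Subgroup.subset_closure (Or.inr ⟨(mem_sub _).2 ⟨y, hy, rfl⟩, ?_, ?_, ?_⟩))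
    · exact (comm_iff vy (by decide)).2 e1
    · exact (comm_iff vy (by decide)).2 e2
    · rw [← el_u]
      exact (comm_iff vy (by decide)).2 e3
  case u_act =>
    refine ⟨?_, ?_⟩
    · obtain ⟨-, m⟩ := word_mem (c := bC) (by simp [words])
      rwa [show uEl * el aC * uEl⁻¹ = el bC from ?_]
      rw [mul_inv_eq_iff_eq_mul, ← el_u, el_mul (by decide) (by decide),
        el_mul (c := bC) (d := uC) (by decide) (by decide)]
      exact eq_of_eqC (by decide) (by decide) (by decide)
    · obtain ⟨-, m⟩ := word_mem (c := mulC aC bC) (by simp [words])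
      rwa [show uEl * el bC * uEl⁻¹ = el (mulC aC bC) from ?_]
      rw [mul_inv_eq_iff_eq_mul, ← el_u, el_mul (by decide) (by decide),
        el_mul (c := mulC aC bC) (d := uC) (by decide) (by decide)]
      exact eq_of_eqC (by decide) (by decide) (by decide)
  case split_u =>
    intro r hr ha hb
    obtain ⟨c, hc, rfl⟩ := (mem_sub _).1 hr
    have hv := codes_valid hc
    rw [← el_u]
    exact (comm_iff hv (by decide)).2 (split_u_table c hc ((comm_iff hv (by decide)).1 ha)
      ((comm_iff hv (by decide)).1 hb))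
  case τ_mem =>
    refine ⟨el_mem_sub _ (by decide) (by simp) (by decide) (by decide),
      (sq_one_iff (by decide)).2 (by decide), el_t ▸ hne _ _ (by decide) (by decide) (by decide),
      isT_of (by decide) !![0, 0, 0, 1; 1, 0, 0, 0; 0, 0, 1, 0; 0, 1, 0, 0] (by decide +kernel)
        (by decide +kernel), ?_⟩
    rw [← el_t, el_mul (by decide) (by decide)]
    exact isT_of (by decide) !![0, 0, 0, 2; 0, 0, 1, 0; 1, 0, 0, 0; 0, 1, 0, 0] (by decide +kernel)
      (by decide +kernel)
  case M_le =>
    refine ⟨sub_mono _ _ (fun a h => h) (fun _ => rfl), sub_mono _ _ qS_sub (fun _ => rfl), ?_⟩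
    rw [card_sub qS_closed (codes_nodup (by decide))]
    decide +kernel
  case M_invol =>
    intro g hg hsq
    obtain ⟨c, hc, rfl⟩ := (mem_sub _).1 hg
    have hv := codes_valid hc
    rcases invol_table c hc ((sq_one_iff hv).1 hsq) with h | h | ⟨-, h | h⟩
    · exact Or.inl ((eq_of_eqC hv (by decide) h).trans el_one)
    · exact Or.inr (Or.inl ((eq_of_eqC hv (by decide) h).trans el_t))
    · exact Or.inr (Or.inr (Or.inl (isTwo_of hv h)))
    · refine Or.inr (Or.inr (Or.inr ?_))
      rw [← el_t, el_mul hv (by decide)]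
      exact isTwo_of (valid_mul hv (by decide)) h
  case second =>
    intro U hRU hUT hU hτ
    by_contra hcon
    push Not at hcon
    have hs : el sC ∉ sub qS false qS_closed ∧ el stC ∉ sub qS false qS_closed := by
      have key : ∀ d : Code, valid d = true → d.1 = true → el d ∉ sub qS false qS_closed := by
        intro d hd hd1 hmem
        obtain ⟨c, ⟨hv, hw, -, -⟩, e⟩ := hmem
        rw [el_eq_iff hv hd] at e
        simp only [eqC, Bool.or_eq_true, beq_iff_eq] at e
        have : c.1 = true := by rcases e with e | e <;> rw [e] at hd1 <;> exact hd1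
        exact Bool.false_ne_true (hw this)
      exact ⟨key _ (by decide) rfl, key _ (by decide) rfl⟩
    have hUR : U ≤ sub qS false qS_closed := by
      intro x hx
      obtain ⟨c, hc, rfl⟩ := (mem_sub _).1 (hUT hx)
      have hv := codes_valid hc
      obtain ⟨r, hr, h⟩ := coset_table c hc
      have vr := codes_valid hr
      have hrR : el r ∈ sub qS false qS_closed := (mem_sub _).2 ⟨r, hr, rfl⟩
      have hin : ∀ d : Code, valid d = true → eqC (mulC d c) r = true → el d ∈ U := by
        intro d hd e
        have e' := eq_of_eqC (valid_mul hd hv) vr e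
        rw [← el_mul hd hv] at e'
        rw [eq_mul_inv_of_mul_eq e']
        exact mul_mem (hRU hrR) (inv_mem hx)
      rcases h with h | h | h | h
      · rw [eq_of_eqC hv vr h]
        exact hrR
      · exact absurd (hin _ (by decide) h) hτ
      · refine absurd (isT_of (c := sC) (by decide) !![0, 0, 1, 2; 0, 0, 2, 2; 1, 1, 0, 0; 1, 2, 0, 0]
          (by decide +kernel) (by decide +kernel)) ?_
        exact hcon _ (hin _ (by decide) h) hs.1 ((sq_one_iff (by decide)).2 (by decide))
      · refine absurd (isT_of (c := stC) (by decide) !![0, 0, 1, 1; 0, 0, 2, 1; 1, 1, 0, 0; 2, 1, 0, 0]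
          (by decide +kernel) (by decide +kernel)) ?_
        exact hcon _ (hin _ (by decide) h) hs.2 ((sq_one_iff (by decide)).2 (by decide))
    have hR32 : Nat.card (sub qS false qS_closed) = 32 := by
      rw [card_sub qS_closed (codes_nodup (by decide))]
      decide +kernel
    have := le_antisymm hUR hRU
    rw [this, hR32] at hU
    omega

end Cfsg.Agent.PSLFourThree
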