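import Cfsg.Agent.Lib.PSLFourThree.Defs

/-!
# Facts about the two involution centralizers of `PSL(4,3)` used by the closing argument

* `tEl`, `tTwo`, `uEl`, `IsT`, `IsTwo`
* `InvFacts`: the facts about the centralizer of `tEl`
* `TwoFacts`: the facts about the centralizer of `tTwo`
-/

set_option autoImplicit false

namespace Cfsg.Agent.PSLFourThree

open Matrix

/-- The involution with two eigenvalues of each sign. -/
def tEl : L4 := pr ⟨!![1, 0, 0, 0; 0, -1, 0, 0; 0, 0, -1, 0; 0, 0, 0, 1], by decide +kernel⟩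

/-- The involution of square minus one. -/
def tTwo : L4 := pr ⟨!![0, -1, 0, 0; 1, 0, 0, 0; 0, 0, 0, -1; 0, 0, 1, 0], by decide +kernel⟩

/-- The root element of the middle block. -/
def uEl : L4 := pr (x (i := 1) (j := 2) (by decide) 1)

/-- The class of `tEl`. -/
def IsT (g : L4) : Prop := IsConj tEl g

/-- The class of `tTwo`. -/
def IsTwo (g : L4) : Prop := IsConj tTwo g

/-- The centralizer of `tEl`. -/
abbrev CtL : Subgroup L4 := Subgroup.centralizer ({tEl} : Set L4)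

/-- The centralizer of `tTwo`. -/
abbrev CwL : Subgroup L4 := Subgroup.centralizer ({tTwo} : Set L4)

/-- Facts about the centralizer of `tEl`; `T` is a Sylow subgroup, `R` its normal `Q8 * Q8`. -/
structure InvFacts (T R M : Subgroup L4) (a b τ : L4) : Prop where
  t_invol : orderOf tEl = 2
  not_conj : ¬ IsConj tEl tTwo
  z_mem : zEl ∈ CtL
  u_mem : uEl ∈ CtL
  card_cent : Nat.card CtL = 1152
  T_le : T ≤ CtL
  T_card : Nat.card T = 128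
  T_center : ∀ g ∈ T, (∀ h ∈ T, g * h = h * g) → g = 1 ∨ g = tEl
  R_gen : R = Subgroup.closure {g | g ∈ T ∧ g * g = tEl}
  R_card : Nat.card R = 32
  R_norm : CtL ≤ Subgroup.normalizer (R : Set L4)
  R_cent : ∀ g ∈ CtL, (∀ r ∈ R, g * r = r * g) → g = 1 ∨ g = tEl
  R_comm : R ≤ Subgroup.closure
    {g | ∃ r ∈ R, ∃ p ∈ Subgroup.closure ({zEl, uEl} : Set L4), g = r * p * r⁻¹ * p⁻¹}
  R_invol : ∀ g ∈ R, g * g = 1 → g = 1 ∨ g = tEl ∨ (IsTwo g ∧ IsTwo (g * tEl))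
  ab_mem : a ∈ R ∧ b ∈ R ∧ a * a = tEl ∧ b * b = tEl ∧ a * b = b * a * tEl
  aut : ∀ u ∈ R, ∀ v ∈ R, u * u = tEl → v * v = tEl → u * v = v * u * tEl →
    ∃ c ∈ CtL, c * a * c⁻¹ = u ∧ c * b * c⁻¹ = v
  split : R ≤ Subgroup.closure
    ({a, b} ∪ {r | r ∈ R ∧ r * a = a * r ∧ r * b = b * r ∧ r * uEl = uEl * r})
  u_act : uEl * a * uEl⁻¹ ∈ Subgroup.closure {a, b} ∧ uEl * b * uEl⁻¹ ∈ Subgroup.closure {a, b}
  split_u : ∀ r ∈ R, r * a = a * r → r * b = b * r → r * uEl = uEl * r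
  τ_mem : τ ∈ T ∧ τ * τ = 1 ∧ τ ≠ tEl ∧ IsT τ ∧ IsT (τ * tEl)
  M_le : R ≤ M ∧ M ≤ T ∧ Nat.card M = 64
  M_invol : ∀ g ∈ M, g * g = 1 → g = 1 ∨ g = tEl ∨ IsTwo g ∨ IsTwo (g * tEl)
  second : ∀ U : Subgroup L4, R ≤ U → U ≤ T → Nat.card U = 64 → τ ∉ U →
    ∃ g ∈ U, g ∉ R ∧ g * g = 1 ∧ IsT g

/-- The elements removed by the second transfer in the centralizer of `tTwo`. -/
def Out2 (x : L4) : Prop :=
  x * x = tTwo ∨ (x * x = 1 ∧ x ≠ 1 ∧ x ≠ tTwo ∧ IsTwo x ∧ IsTwo (x * tTwo))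

/-- The diagonal subgroup of order nine in the middle radical. -/
def lSub : Subgroup L4 := Subgroup.closure
  {pr (x (i := 0) (j := 2) (by decide) 1) * pr (x (i := 1) (j := 3) (by decide) 1),
   pr (x (i := 0) (j := 3) (by decide) (-1)) * pr (x (i := 1) (j := 2) (by decide) 1)}

/-- Facts about the centralizer of `tTwo`; `T` is a Sylow subgroup, `A` is the alternating part
with `tTwo`. -/
structure TwoFacts (T M A : Subgroup L4) (φ f : L4) : Prop where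
  t_invol : orderOf tTwo = 2
  card_cent : Nat.card CwL = 2880
  T_le : T ≤ CwL
  T_card : Nat.card T = 64
  A_le : A ≤ CwL
  A_card : Nat.card A = 720
  A_two : tTwo ∈ A
  A_res : A ≤ ⁅A, A⁆ ⊔ Subgroup.zpowers tTwo
  l_le : lSub ≤ A
  l_card : Nat.card lSub = 9
  l_cent : ∀ e ∈ lSub, e ≠ 1 → ∀ g ∈ A, g * e = e * g → g ∈ lSub ⊔ Subgroup.zpowers tTwo
  f_mem : f ∈ A ∧ f * f * (f * f) ∈ Subgroup.zpowers tTwo ∧
    (∀ e ∈ lSub, f * e * f⁻¹ ∈ lSub) ∧ ∀ e ∈ lSub, f * f * e * (f * f)⁻¹ = e⁻¹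
  l_norm : ∀ n ∈ A, (∀ e ∈ lSub, n * e * n⁻¹ ∈ lSub) →
    ∃ k < 4, n * f ^ k ∈ lSub ⊔ Subgroup.zpowers tTwo
  φ_mem : φ ∈ T ∧ φ * φ = 1 ∧ φ ≠ tTwo ∧ IsT φ ∧ IsT (φ * tTwo)
  M_le : M ≤ T ∧ Nat.card M = 32
  M_invol : ∀ g ∈ M, g * g = 1 → g = 1 ∨ g = tTwo ∨ IsTwo g ∨ IsTwo (g * tTwo)
  second : ∀ U : Subgroup L4, U ≤ T → T ⊓ A ≤ U → Nat.card U = 32 → φ ∉ U →
    ∃ x ∈ U, ∃ y ∈ U, Out2 x ∧ Out2 y ∧ x * y = tTwo
  AT : ∀ g ∈ T, g ∈ A → ¬ Out2 g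
  AT_card : Nat.card (T ⊓ A : Subgroup L4) = 16

end Cfsg.Agent.PSLFourThree
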