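import Cfsg.Agent.Lib.PSLFourThree.RankTwo
import Cfsg.Agent.Lib.PSLFourThree.InvTargets

/-!
# Centralizers of the nontrivial elements of the middle radical

* `twist`: conjugation by `diag(1,1,1,-1)`
* `Emb.cent_J`: the centralizer of each nontrivial element lies in the image
* `uEl_eq`, `lSub_le_Jsub`: the elements used for the involution centralizers lie in the radical
-/

set_option autoImplicit false

namespace Cfsg.Agent.PSLFourThree

open Matrix

universe u

theorem diag_det : (!![1, 0, 0, 0; 0, 1, 0, 0; 0, 0, 1, 0; 0, 0, 0, -1] :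
    Matrix (Fin 4) (Fin 4) (ZMod 3)).det ≠ 0 := by decide +kernel

theorem diag_sq : (!![1, 0, 0, 0; 0, 1, 0, 0; 0, 0, 1, 0; 0, 0, 0, -1] :
    Matrix (Fin 4) (Fin 4) (ZMod 3)) * !![1, 0, 0, 0; 0, 1, 0, 0; 0, 0, 1, 0; 0, 0, 0, -1] = 1 := by
  decide +kernel

/-- `diag(1,1,1,-1)`. -/
def diagG : GL (Fin 4) (ZMod 3) := ⟨_, _, diag_sq, diag_sq⟩

/-- Conjugation by `diag(1,1,1,-1)`. -/
noncomputable def twist : L4 ≃* L4 := AutPSL.semi diagG (RingEquiv.refl (ZMod 3))

theorem twist_jE (X : M2) : twist (jE X) = jE (X * !![1, 0; 0, -1]) := by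
  refine AutPSL.semi_proj_eq diagG (RingEquiv.refl (ZMod 3)) ?_
  show blk 1 (X * !![1, 0; 0, -1]) 1 =
    diagG.val * (blk 1 X 1).map (RingEquiv.refl (ZMod 3)) * (diagG⁻¹).val
  ext i j
  fin_cases i <;> fin_cases j <;>
    simp [diagG, blk, Matrix.mul_apply, Fin.sum_univ_four, Fin.sum_univ_two]

theorem twist_zEl : twist zEl = zEl⁻¹ := by
  rw [zEl_eq, twist_jE, ← map_inv, ← ofAdd_neg,
    show (!![0, 1; 0, 0] : M2) * !![1, 0; 0, -1] = -!![0, 1; 0, 0] by decide +kernel]

variable {G : Type u} [Group G] {φ : L4 →* G}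

theorem Emb.comp_twist (E : Emb φ) : Emb (φ.comp twist.toMonoidHom) := by
  refine ⟨E.inj.comp twist.injective, fun g hg => ?_⟩
  suffices hgφ : g ∈ φ.range by
    obtain ⟨v, rfl⟩ := hgφ
    exact ⟨twist.symm v, congrArg φ (twist.apply_symm_apply v)⟩
  refine E.hz (Subgroup.mem_centralizer_singleton_iff.2 ?_)
  have h : g * φ (twist zEl) = φ (twist zEl) * g := Subgroup.mem_centralizer_singleton_iff.1 hg
  rw [twist_zEl, map_inv] at h
  exact (Commute.inv_right_iff.1 h).eq

theorem jRep_one : jRep 1 = 1 := by decide +kernel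

theorem jRep_neg_one : (1 : M2) * !![1, 0; 0, -1] = jRep (-1) := by decide +kernel

variable [Finite G]

theorem Emb.cent_rep (E : Emb φ) {d : ZMod 3} (hd : d ≠ 0) :
    Subgroup.centralizer ({φ (jE (jRep d))} : Set G) ≤ φ.range := by
  have hd' : d = 1 ∨ d = -1 := by revert hd; revert d; decide
  rcases hd' with h | h <;> subst h
  · rw [jRep_one]; exact E.cent_jOne
  · have e : φ (jE (jRep (-1))) = (φ.comp twist.toMonoidHom) jOne := by
      show _ = φ (twist (jE 1))
      rw [twist_jE, jRep_neg_one]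
    rw [e]
    refine E.comp_twist.cent_jOne.trans ?_
    rintro _ ⟨x, rfl⟩
    exact ⟨twist x, rfl⟩

theorem centralizer_conj_le {x : L4} (h : Subgroup.centralizer ({φ x} : Set G) ≤ φ.range) (c : L4) :
    Subgroup.centralizer ({φ (c * x * c⁻¹)} : Set G) ≤ φ.range := by
  intro g hg
  have hc : Commute ((φ c)⁻¹ * g * φ c) (φ x) := by
    have e := Subgroup.mem_centralizer_singleton_iff.1 hg
    simp only [map_mul, map_inv] at e
    calc (φ c)⁻¹ * g * φ c * φ x = (φ c)⁻¹ * (g * (φ c * φ x * (φ c)⁻¹)) * φ c := by group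
      _ = (φ c)⁻¹ * (φ c * φ x * (φ c)⁻¹ * g) * φ c := by rw [e]
      _ = φ x * ((φ c)⁻¹ * g * φ c) := by group
  obtain ⟨y, hy⟩ := h (Subgroup.mem_centralizer_singleton_iff.2 hc)
  exact ⟨c * y * c⁻¹, by rw [map_mul, map_mul, map_inv, hy]; group⟩

/-- Centralizers of the nontrivial elements of the radical. -/
theorem Emb.cent_J (E : Emb φ) {e : L4} (he : e ∈ Jsub) (he1 : e ≠ 1) :
    Subgroup.centralizer ({φ e} : Set G) ≤ φ.range := by
  obtain ⟨X, rfl⟩ := mem_Jsub.1 he
  have hX : X ≠ 0 := fun h => he1 (by subst h; exact map_one jHom)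
  rcases types X hX with ⟨-, A, B, hAB, hm⟩ | ⟨h0, A, B, hAB, hm⟩ <;> rw [← hm]
  · exact centralizer_conj_le E.hz _
  · exact centralizer_conj_le (E.cent_rep h0) _

theorem uEl_eq : uEl = jE !![0, 0; 1, 0] := by
  refine congrArg pr (Subtype.ext ?_)
  ext i j
  fin_cases i <;> fin_cases j <;> decide

theorem lSub_le_Jsub : lSub ≤ Jsub := by
  refine (Subgroup.closure_le _).2 ?_
  rintro g (rfl | rfl)
  · refine mem_Jsub.2 ⟨1, ?_⟩
    rw [← map_mul]
    refine congrArg pr (Subtype.ext ?_)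
    rw [Matrix.SpecialLinearGroup.coe_mul]
    ext i j
    fin_cases i <;> fin_cases j <;> decide
  · refine mem_Jsub.2 ⟨!![0, -1; 1, 0], ?_⟩
    rw [← map_mul]
    refine congrArg pr (Subtype.ext ?_)
    rw [Matrix.SpecialLinearGroup.coe_mul]
    ext i j
    fin_cases i <;> fin_cases j <;> decide

end Cfsg.Agent.PSLFourThree
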