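import Cfsg.Agent.Lib.PSLFourThree.CenterZ
import Cfsg.Agent.Lib.Coprime.Generation

/-!
# An embedded `PSL(4,3)` containing the centralizer of a root element: first consequences

* `Emb`: the hypothesis
* `Emb.det_of_conj`: root elements of the middle radical are exactly those of rank one
* `Emb.normalizer_J`: the normalizer of the middle radical lies in the image
* `Emb.signalizer`: invariant subgroups of order prime to three are trivial
-/

set_option autoImplicit false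

namespace Cfsg.Agent.PSLFourThree

open Matrix

variable {G : Type*} [Group G]

/-- The image contains the centralizer of the root element. -/
structure Emb (φ : L4 →* G) : Prop where
  inj : Function.Injective φ
  hz : Subgroup.centralizer ({φ zEl} : Set G) ≤ φ.range

/-- The Levi factor normalises the middle radical. -/
theorem lev_image {A B : M2} (h : A.det * B.det = 1) (X : M2) :
    ∃ Y, lev A B h * jE X * (lev A B h)⁻¹ = jE Y := by
  refine ⟨A * X * (B.det • B.adjugate), lev_conj h ?_⟩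
  rw [mul_assoc (A * X), Matrix.smul_mul, Matrix.adjugate_mul, smul_smul]
  have hb : B.det * B.det = 1 := by
    rcases det_cases B.det with e | e
    · simp [e] at h
    · exact e
  rw [hb, one_smul, mul_one]

theorem conj_mem_Jsub {A B : M2} (h : A.det * B.det = 1) {g : L4} (hg : g ∈ Jsub) :
    lev A B h * g * (lev A B h)⁻¹ ∈ Jsub := by
  obtain ⟨X, rfl⟩ := mem_Jsub.1 hg
  obtain ⟨Y, hY⟩ := lev_image h X
  rw [hY]
  exact jE_mem Y

theorem lev_inv {A B : M2} (h : A.det * B.det = 1) :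
    ∃ A' B', ∃ h' : A'.det * B'.det = 1, lev A' B' h' = (lev A B h)⁻¹ := by
  have e : ∀ M : M2, M.det * M.det = 1 → M * (M.det • M.adjugate) = 1 := fun M hM => by
    rw [Matrix.mul_smul, Matrix.mul_adjugate, smul_smul, hM, one_smul]
  have hA : A.det * A.det = 1 := by
    rcases det_cases A.det with e | e
    · simp [e] at h
    · exact e
  have hB : B.det * B.det = 1 := by
    rcases det_cases B.det with e | e
    · simp [e] at h
    · exact e
  have eA : (A.det • A.adjugate).det = A.det := by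
    have := congrArg Matrix.det (e A hA)
    rw [det_mul, det_one] at this
    calc (A.det • A.adjugate).det = A.det * A.det * (A.det • A.adjugate).det := by rw [hA, one_mul]
      _ = A.det := by rw [mul_assoc, this, mul_one]
  have eB : (B.det • B.adjugate).det = B.det := by
    have := congrArg Matrix.det (e B hB)
    rw [det_mul, det_one] at this
    calc (B.det • B.adjugate).det = B.det * B.det * (B.det • B.adjugate).det := by rw [hB, one_mul]
      _ = B.det := by rw [mul_assoc, this, mul_one]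
  refine ⟨A.det • A.adjugate, B.det • B.adjugate, by rw [eA, eB, h], ?_⟩
  rw [eq_inv_iff_mul_eq_one, lev, lev, ← map_mul, ← map_one pr]
  refine congrArg pr (Subtype.ext ?_)
  show blk _ 0 _ * blk A 0 B = 1
  rw [blk_mul, mul_eq_one_comm.1 (e A hA), mul_eq_one_comm.1 (e B hB)]
  simp [blk_one]

theorem rank_two_four_group {d : ZMod 3} (hd : d ≠ 0) :
    ∃ k₁ k₂ : L4, k₁ * k₁ = 1 ∧ k₂ * k₂ = 1 ∧ k₁ ≠ 1 ∧ k₂ ≠ 1 ∧ k₁ ≠ k₂ ∧ Commute k₁ k₂ ∧
      Commute k₁ (jE (jRep d)) ∧ Commute k₂ (jE (jRep d)) := by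
  have key : ∀ d : ZMod 3, d ≠ 0 →
      (!![1, 0; 0, -1] : M2).det * (!![1, 0; 0, -1] : M2).det = 1 ∧
      (!![0, 1; 1, 0] : M2).det * (!![0, d; d, 0] : M2).det = 1 ∧
      (!![1, 0; 0, -1] : M2) * jRep d = jRep d * !![1, 0; 0, -1] ∧
      (!![0, 1; 1, 0] : M2) * jRep d = jRep d * !![0, d; d, 0] := by decide +kernel
  obtain ⟨h1, h2, e1, e2⟩ := key d hd
  have sq : ∀ d : ZMod 3, d ≠ 0 →
      blk (!![1, 0; 0, -1] : M2) 0 !![1, 0; 0, -1] * blk !![1, 0; 0, -1] 0 !![1, 0; 0, -1] = 1 ∧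
      blk (!![0, 1; 1, 0] : M2) 0 !![0, d; d, 0] * blk !![0, 1; 1, 0] 0 !![0, d; d, 0] = 1 ∧
      blk (!![0, 1; 1, 0] : M2) 0 !![0, d; d, 0] * blk !![1, 0; 0, -1] 0 !![1, 0; 0, -1] =
        -(blk (!![1, 0; 0, -1] : M2) 0 !![1, 0; 0, -1] * blk !![0, 1; 1, 0] 0 !![0, d; d, 0]) ∧
      blk (!![1, 0; 0, -1] : M2) 0 !![1, 0; 0, -1] ≠ 1 ∧
      blk (!![1, 0; 0, -1] : M2) 0 !![1, 0; 0, -1] ≠ -1 ∧
      blk (!![0, 1; 1, 0] : M2) 0 !![0, d; d, 0] ≠ 1 ∧
      blk (!![0, 1; 1, 0] : M2) 0 !![0, d; d, 0] ≠ -1 ∧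
      blk (!![0, 1; 1, 0] : M2) 0 !![0, d; d, 0] ≠ blk !![1, 0; 0, -1] 0 !![1, 0; 0, -1] ∧
      blk (!![0, 1; 1, 0] : M2) 0 !![0, d; d, 0] ≠ -blk !![1, 0; 0, -1] 0 !![1, 0; 0, -1] := by
    decide +kernel
  obtain ⟨s1, s2, s3, n1, n1', n2, n2', n12, n12'⟩ := sq d hd
  have hne : ∀ {A B : M2} (h : A.det * B.det = 1), blk A 0 B ≠ 1 → blk A 0 B ≠ -1 →
      lev A B h ≠ 1 := fun {A B} h a b hh => by
    rcases pr_eq_iff.1 (show pr 1 = pr (levS A B h) by rw [map_one]; exact hh.symm) with e | e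
    · exact a e
    · exact b e
  refine ⟨lev _ _ h1, lev _ _ h2, ?_, ?_, hne h1 n1 n1', hne h2 n2 n2', fun hh => ?_, ?_,
    lev_comm h1 e1, lev_comm h2 e2⟩
  · rw [lev, ← map_mul, ← map_one pr]; exact congrArg pr (Subtype.ext s1)
  · rw [lev, ← map_mul, ← map_one pr]; exact congrArg pr (Subtype.ext s2)
  · rcases pr_eq_iff.1 hh with e | e
    · exact n12 e
    · exact n12' e
  · show lev _ _ h1 * lev _ _ h2 = lev _ _ h2 * lev _ _ h1
    rw [lev, lev, ← map_mul, ← map_mul, pr_eq_iff]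
    exact Or.inr s3

variable {φ : L4 →* G}

theorem Emb.range_of_commute (E : Emb φ) {g : G} (h : Commute g (φ zEl)) :
    ∃ v ∈ CzL, φ v = g := by
  obtain ⟨v, rfl⟩ := E.hz (Subgroup.mem_centralizer_singleton_iff.2 h)
  exact ⟨v, Subgroup.mem_centralizer_singleton_iff.2 (E.inj (by rw [map_mul, map_mul]; exact h)), rfl⟩

/-- Elements of rank two are not conjugate to root elements. -/
theorem Emb.rep_not_conj (E : Emb φ) {d : ZMod 3} (hd : d ≠ 0) (g : G) :
    g * φ (jE (jRep d)) * g⁻¹ ≠ φ zEl := by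
  intro hg
  obtain ⟨k₁, k₂, a1, a2, b1, b2, hne, hc, c1, c2⟩ := rank_two_four_group hd
  have hk : ∀ k : L4, Commute k (jE (jRep d)) → ∃ v ∈ CzL, φ v = g * φ k * g⁻¹ := fun k hk =>
    E.range_of_commute (by rw [← hg]; exact (hk.map φ).conj g)
  obtain ⟨v₁, m1, e1⟩ := hk k₁ c1
  obtain ⟨v₂, m2, e2⟩ := hk k₂ c2
  have hinj : ∀ {v k : L4}, φ v = g * φ k * g⁻¹ → k ≠ 1 → v ≠ 1 := fun {v k} e hk1 hv => hk1 (E.inj (by
    rw [hv, map_one, eq_comm, conj_eq_one_iff] at e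
    rw [e, map_one]))
  have hsq : ∀ {v k : L4}, φ v = g * φ k * g⁻¹ → k * k = 1 → v * v = 1 := fun {v k} e hk2 => E.inj (by
    rw [map_mul, e, map_one, mul_assoc, ← mul_assoc g⁻¹, ← mul_assoc g⁻¹, inv_mul_cancel, one_mul,
      ← mul_assoc, mul_assoc g, ← map_mul, hk2, map_one, mul_one, mul_inv_cancel])
  refine hne (E.inj (mul_left_cancel (a := g) (mul_right_cancel (b := g⁻¹) ?_)))
  rw [← e1, ← e2, cent_involution_unique m1 m2 (hsq e1 a1) (hsq e2 a2) (hinj e1 b1) (hinj e2 b2)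
    (E.inj (by rw [map_mul, map_mul, e1, e2]; exact (hc.map φ).conj g))]

theorem Emb.det_of_conj (E : Emb φ) {g : G} {X : M2} (h : g * φ zEl * g⁻¹ = φ (jE X)) :
    X.det = 0 := by
  by_cases hX : X = 0
  · subst hX; simp
  rcases types X hX with ⟨h0, -⟩ | ⟨h0, A, B, hAB, e⟩
  · exact h0
  · exfalso
    refine E.rep_not_conj h0 (g⁻¹ * φ (lev A B hAB)) ?_
    rw [← e] at h
    simp only [map_mul, map_inv] at h
    calc g⁻¹ * φ (lev A B hAB) * φ (jE (jRep X.det)) * (g⁻¹ * φ (lev A B hAB))⁻¹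
        = g⁻¹ * (φ (lev A B hAB) * φ (jE (jRep X.det)) * (φ (lev A B hAB))⁻¹) * g := by group
      _ = g⁻¹ * (g * φ zEl * g⁻¹) * g := by rw [h]
      _ = φ zEl := by group

theorem zEl_ne_one : zEl ≠ 1 := fun h => by
  rw [zEl_eq, ← map_one jHom] at h
  have := jHom_injective h
  exact absurd (congrArg Multiplicative.toAdd this) (by decide)

theorem Emb.normalizer_J (E : Emb φ) {g : G}
    (hg : ∀ v ∈ Jsub.map φ, g * v * g⁻¹ ∈ Jsub.map φ) : g ∈ φ.range := by
  obtain ⟨w, hw, e⟩ := hg (φ zEl) ⟨zEl, zEl_eq ▸ jE_mem _, rfl⟩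
  obtain ⟨X, rfl⟩ := mem_Jsub.1 hw
  have hX : X ≠ 0 := fun h => by
    subst h
    have h1 : jE (0 : M2) = 1 := map_one jHom
    rw [h1, map_one, eq_comm, conj_eq_one_iff, ← map_one φ] at e
    exact zEl_ne_one (E.inj e)
  rcases types X hX with ⟨-, A, B, hAB, hm⟩ | ⟨h0, -⟩
  · have hc : Commute ((φ (lev A B hAB))⁻¹ * g) (φ zEl) := by
      refine mul_inv_eq_iff_eq_mul.1 ?_
      rw [← hm] at e
      simp only [map_mul, map_inv] at e
      calc (φ (lev A B hAB))⁻¹ * g * φ zEl * ((φ (lev A B hAB))⁻¹ * g)⁻¹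
          = (φ (lev A B hAB))⁻¹ * (g * φ zEl * g⁻¹) * φ (lev A B hAB) := by group
        _ = φ zEl := by rw [← e]; group
    obtain ⟨v, -, hv⟩ := E.range_of_commute hc
    exact ⟨lev A B hAB * v, by rw [map_mul, hv, mul_inv_cancel_left]⟩
  · exact absurd (E.det_of_conj e.symm) h0

theorem card_Jsub_map (E : Emb φ) : Nat.card (Jsub.map φ) = 81 := by
  rw [Subgroup.card_map_of_injective E.inj, card_Jsub]

theorem Jsub_pow_three {g : L4} (hg : g ∈ Jsub) : g ^ 3 = 1 := by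
  obtain ⟨X, rfl⟩ := mem_Jsub.1 hg
  rw [← map_pow, ← ofAdd_nsmul]
  have : (3 : ℕ) • X = 0 := by clear hg; revert X; decide +kernel
  rw [this]
  exact map_one jHom

theorem Jsub_comm {g k : L4} (hg : g ∈ Jsub) (hk : k ∈ Jsub) : g * k = k * g := by
  obtain ⟨X, rfl⟩ := mem_Jsub.1 hg
  obtain ⟨Y, rfl⟩ := mem_Jsub.1 hk
  rw [← jE_add, ← jE_add, add_comm]

theorem jE_comm_zEl (X : M2) : jE X ∈ CzL :=
  Subgroup.mem_centralizer_singleton_iff.2 (Jsub_comm (jE_mem X) (zEl_eq ▸ jE_mem _))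

variable [Finite G]

/-- An invariant subgroup of order prime to three inside the centralizer of `zEl` is trivial. -/
theorem Emb.signalizer_z (E : Emb φ) {W : Subgroup G}
    (hW : W ≤ Subgroup.centralizer ({φ zEl} : Set G))
    (hJ : Jsub.map φ ≤ Subgroup.normalizer (W : Set G)) (hco : (Nat.card W).Coprime 3) : W = ⊥ := by
  have hthree : ∀ y ∈ W, y ^ 3 = 1 → y = 1 := fun y hy h => by
    refine orderOf_eq_one_iff.1 (Nat.eq_one_of_dvd_coprimes hco ?_ (orderOf_dvd_of_pow_eq_one h))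
    exact Subgroup.orderOf_mk y hy ▸ orderOf_dvd_natCard (⟨y, hy⟩ : W)
  refine (Subgroup.eq_bot_iff_forall _).2 fun w hw => ?_
  obtain ⟨v, hv, rfl⟩ := E.range_of_commute (Subgroup.mem_centralizer_singleton_iff.1 (hW hw))
  have hcomm : ∀ X : M2, X 1 0 = 0 → Commute v (jE X) := by
    intro X hX
    set j : CzL := ⟨jE X, jE_comm_zEl X⟩
    set v' : CzL := ⟨v, hv⟩
    have hker : mid (j * v' * j⁻¹ * v'⁻¹) = 1 := by
      rw [map_mul, map_mul, map_mul, map_inv, map_inv, mid_jE_of_zero hX]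
      group
    have hmem : φ (jE X * v * (jE X)⁻¹ * v⁻¹) ∈ W := by
      rw [map_mul, map_mul, map_mul, map_inv, map_inv]
      exact W.mul_mem ((Subgroup.mem_normalizer_iff.1 (hJ ⟨_, jE_mem X, rfl⟩) _).1 hw)
        (W.inv_mem hw)
    have h1 := hthree _ hmem (by
      rw [← map_pow, show jE X * v * (jE X)⁻¹ * v⁻¹ = ((j * v' * j⁻¹ * v'⁻¹ : CzL) : L4) from rfl,
        mid_ker_cube hker, map_one])
    have h2 : jE X * v * (jE X)⁻¹ * v⁻¹ = 1 := E.inj (h1.trans (map_one φ).symm)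
    exact (mul_inv_eq_iff_eq_mul.1 (mul_inv_eq_one.1 h2)).symm
  have hmid : mid ⟨v, hv⟩ ^ 3 = 1 := cube_of_comm_JQ (hcomm _ rfl) (hcomm _ rfl)
  have h3 : φ v ^ 3 = 1 := hthree _ (W.pow_mem hw 3) (by
    rw [← map_pow, ← map_pow, show v ^ 3 = ((⟨v, hv⟩ ^ 3 : CzL) : L4) from rfl,
      mid_ker_cube (g := ⟨v, hv⟩ ^ 3) (by rw [map_pow]; exact hmid), map_one])
  exact hthree _ hw h3

theorem exists_singular {B : Subgroup L4} (hB : B ≤ Jsub) (hcard : 27 ≤ Nat.card B) :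
    ∃ X : M2, X ≠ 0 ∧ X.det = 0 ∧ jE X ∈ B := by
  classical
  let f : B × (Fin 2 → ZMod 3) → Jsub := fun p =>
    ⟨p.1.1 * jE !![p.2 0, p.2 1; 0, 0], Jsub.mul_mem (hB p.1.2) (jE_mem _)⟩
  have : ¬ Function.Injective f := fun hf => by
    have := Nat.card_le_card_of_injective f hf
    have h9 : Nat.card (Fin 2 → ZMod 3) = 9 := by simp
    rw [Nat.card_prod, card_Jsub, h9] at this
    omega
  simp only [Function.Injective, not_forall] at this
  obtain ⟨⟨b, r⟩, ⟨b', r'⟩, he, hne⟩ := this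
  have he' : b.1 * jE !![r 0, r 1; 0, 0] = b'.1 * jE !![r' 0, r' 1; 0, 0] := congrArg Subtype.val he
  have hr : r ≠ r' := fun e => hne (by
    subst e
    exact Prod.ext (Subtype.ext (mul_right_cancel he')) rfl)
  refine ⟨!![r 0 - r' 0, r 1 - r' 1; 0, 0], fun h => hr ?_, ?_, ?_⟩
  · ext i
    fin_cases i
    · exact sub_eq_zero.1 (congrFun (congrFun h 0) 0)
    · exact sub_eq_zero.1 (congrFun (congrFun h 0) 1)
  · simp [Matrix.det_fin_two]
  · have e : jE !![r 0 - r' 0, r 1 - r' 1; 0, 0] = b.1⁻¹ * b'.1 := by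
      rw [eq_inv_mul_iff_mul_eq]
      refine mul_right_cancel (b := jE !![r' 0, r' 1; 0, 0]) ?_
      rw [mul_assoc, ← jE_add, ← he']
      congr 2
      ext i j
      fin_cases i <;> fin_cases j <;> simp
    rw [e]
    exact B.mul_mem (B.inv_mem b.2) b'.2

/-- Invariant subgroups of order prime to three are trivial. -/
theorem Emb.signalizer (E : Emb φ) {W : Subgroup G}
    (hJ : Jsub.map φ ≤ Subgroup.normalizer (W : Set G)) (hco : (Nat.card W).Coprime 3) : W = ⊥ := by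
  set A := Jsub.map φ with hA
  have : IsMulCommutative A := ⟨⟨by
    rintro ⟨_, a, ha, rfl⟩ ⟨_, b, hb, rfl⟩
    exact Subtype.ext (by
      show φ a * φ b = φ b * φ a
      rw [← map_mul, ← map_mul, Jsub_comm ha hb])⟩⟩
  have hexp : ∀ a ∈ A, a ^ 3 = 1 := by
    rintro _ ⟨a, ha, rfl⟩; rw [← map_pow, Jsub_pow_three ha, map_one]
  have hcA : (Nat.card A).Coprime (Nat.card W) := by
    rw [card_Jsub_map E, show 81 = 3 ^ 4 by norm_num]
    exact (Nat.Coprime.pow_right 4 hco).symm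
  refine le_bot_iff.1 (Coprime.le_of_cyclic_quotient hJ hcA fun B hB hcyc => ?_)
  obtain ⟨g, hg, hle⟩ := hcyc
  have hidx := Coprime.relIndex_le_of_cyclic_quotient Nat.prime_three hexp hB hg hle
  set B' := B.comap φ
  have hB'J : B' ≤ Jsub := fun v hv => by
    obtain ⟨u, hu, e⟩ := hB hv
    exact E.inj e ▸ hu
  have hB'c : 27 ≤ Nat.card B' := by
    have e : Nat.card B' = Nat.card B := by
      rw [← Subgroup.card_map_of_injective E.inj,
        Subgroup.map_comap_eq_self (hB.trans (Subgroup.map_le_range _ _))]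
    have h2 := Subgroup.relIndex_mul_relIndex (⊥ : Subgroup G) B A bot_le hB
    rw [Subgroup.relIndex_bot_left, Subgroup.relIndex_bot_left, card_Jsub_map E] at h2
    have h3 : Nat.card B * B.relIndex A ≤ Nat.card B * 3 := Nat.mul_le_mul le_rfl hidx
    omega
  obtain ⟨X, hX, hdet, hmem⟩ := exists_singular hB'J hB'c
  obtain ⟨-, L, M, hLM, hm⟩ | ⟨h0, -⟩ := types X hX
  swap
  · exact absurd hdet h0
  set W' := W ⊓ Subgroup.centralizer (B : Set G)
  set c := MulAut.conj (φ (lev L M hLM))⁻¹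
  have hbot : W'.map c.toMonoidHom = ⊥ := by
    refine E.signalizer_z ?_ ?_ ?_
    · rintro _ ⟨w, hw, rfl⟩
      refine Subgroup.mem_centralizer_singleton_iff.2 ?_
      have hwc : φ (jE X) * w = w * φ (jE X) := hw.2 _ hmem
      rw [← hm, map_mul, map_mul, map_inv] at hwc
      show (φ (lev L M hLM))⁻¹ * w * (φ (lev L M hLM))⁻¹⁻¹ * φ zEl =
        φ zEl * ((φ (lev L M hLM))⁻¹ * w * (φ (lev L M hLM))⁻¹⁻¹)
      generalize φ (lev L M hLM) = p at hwc
      generalize φ zEl = q at hwc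
      calc p⁻¹ * w * p⁻¹⁻¹ * q = p⁻¹ * (w * (p * q * p⁻¹)) * p := by group
        _ = p⁻¹ * (p * q * p⁻¹ * w) * p := by rw [hwc]
        _ = q * (p⁻¹ * w * p⁻¹⁻¹) := by group
    · rintro _ ⟨v, hv, rfl⟩
      obtain ⟨u, hu, hv'⟩ : ∃ u ∈ Jsub, (lev L M hLM)⁻¹ * u * lev L M hLM = v := by
        refine ⟨lev L M hLM * v * (lev L M hLM)⁻¹, conj_mem_Jsub hLM hv, by group⟩
      refine Coprime.mem_normalizer_of_forall ?_
      rintro _ ⟨w, hw, rfl⟩
      refine ⟨φ u * w * (φ u)⁻¹,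
        ⟨(Subgroup.mem_normalizer_iff.1 (hJ ⟨u, hu, rfl⟩) _).1 hw.1, ?_⟩, ?_⟩
      · intro b hb
        obtain ⟨b', hb', rfl⟩ := hB hb
        have e1 : φ b' * φ u = φ u * φ b' := by rw [← map_mul, ← map_mul, Jsub_comm hb' hu]
        have e1' : φ b' * (φ u)⁻¹ = (φ u)⁻¹ * φ b' := (Commute.inv_right (show Commute (φ b') (φ u) from e1)).eq
        have e2 : φ b' * w = w * φ b' := hw.2 _ hb
        calc φ b' * (φ u * w * (φ u)⁻¹) = φ u * (φ b' * w) * (φ u)⁻¹ := by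
              rw [← mul_assoc, ← mul_assoc, e1]; group
          _ = φ u * w * (φ b' * (φ u)⁻¹) := by rw [e2]; group
          _ = φ u * w * (φ u)⁻¹ * φ b' := by rw [e1']; group
      · show (φ (lev L M hLM))⁻¹ * (φ u * w * (φ u)⁻¹) * (φ (lev L M hLM))⁻¹⁻¹ =
          φ v * ((φ (lev L M hLM))⁻¹ * w * (φ (lev L M hLM))⁻¹⁻¹) * (φ v)⁻¹
        rw [← hv', map_mul, map_mul, map_inv]
        group
    · rw [Subgroup.card_map_of_injective c.injective]
      exact hco.coprime_dvd_left (Subgroup.card_dvd_of_le inf_le_left)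
  exact le_of_eq ((Subgroup.map_eq_bot_iff_of_injective _ c.injective).1 hbot)

end Cfsg.Agent.PSLFourThree
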