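/-
The models for S3373: `3^3 : SL(3,3)` as affine transformations and its image in `PSL(4,3)`.
-/
import Mathlib
import Cfsg.Agent.EqLemmas

set_option autoImplicit false

namespace Cfsg.Agent.PSLFourThree

open Matrix

/-- The prime field. -/
abbrev K := ZMod 3

/-- The linear part. -/
abbrev SL3 := Matrix.SpecialLinearGroup (Fin 3) K

/-- The translations. -/
abbrev V3 := Multiplicative (Fin 3 → K)

/-- The natural action. -/
def act : SL3 →* MulAut V3 where
  toFun A :=
    { toFun := fun v => Multiplicative.ofAdd (A.1 *ᵥ v.toAdd)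
      invFun := fun v => Multiplicative.ofAdd (A⁻¹.1 *ᵥ v.toAdd)
      left_inv := fun v => by
        show Multiplicative.ofAdd _ = v
        rw [toAdd_ofAdd, mulVec_mulVec,
          show A⁻¹.1 * A.1 = 1 from congrArg Subtype.val (inv_mul_cancel A), one_mulVec, ofAdd_toAdd]
      right_inv := fun v => by
        show Multiplicative.ofAdd _ = v
        rw [toAdd_ofAdd, mulVec_mulVec,
          show A.1 * A⁻¹.1 = 1 from congrArg Subtype.val (mul_inv_cancel A), one_mulVec, ofAdd_toAdd]
      map_mul' := fun v w => by simp [mulVec_add] }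
  map_one' := by ext v : 1; simp
  map_mul' A B := by ext v : 1; simp [mulVec_mulVec]

/-- The affine group `3^3 : SL(3,3)`. -/
abbrev M0 := SemidirectProduct V3 SL3 act

/-- The four-dimensional linear group. -/
abbrev SL4 := Matrix.SpecialLinearGroup (Fin 4) K

/-- The simple group. -/
abbrev P4 := Matrix.ProjectiveSpecialLinearGroup (Fin 4) K

/-- An affine transformation as a matrix of four rows. -/
def affMat (v : Fin 3 → K) (A : Matrix (Fin 3) (Fin 3) K) : Matrix (Fin 4) (Fin 4) K :=
  !![A 0 0, A 0 1, A 0 2, v 0; A 1 0, A 1 1, A 1 2, v 1; A 2 0, A 2 1, A 2 2, v 2; 0, 0, 0, 1]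

theorem det_affMat (v : Fin 3 → K) (A : Matrix (Fin 3) (Fin 3) K) : (affMat v A).det = A.det := by
  rw [Matrix.det_succ_row _ 3, Fin.sum_univ_four, det_fin_three, det_fin_three, det_fin_three,
    det_fin_three, det_fin_three]
  simp [affMat, Fin.succAbove]
  ring

theorem affMat_mul (v w : Fin 3 → K) (A B : Matrix (Fin 3) (Fin 3) K) :
    affMat v A * affMat w B = affMat (v + A *ᵥ w) (A * B) := by
  ext i j
  fin_cases i <;> fin_cases j <;>
    simp [affMat, Matrix.mul_apply, Matrix.mulVec, dotProduct, Fin.sum_univ_four, Fin.sum_univ_three] <;>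
    ring

/-- The affine group inside the special linear group. -/
def toSL4 : M0 →* SL4 :=
  MonoidHom.mk' (fun m => ⟨affMat m.left.toAdd m.right.1, by rw [det_affMat]; exact m.right.2⟩)
    fun m n => Subtype.ext (by
      show affMat (m.left.toAdd + m.right.1 *ᵥ n.left.toAdd) (m.right.1 * n.right.1) =
        affMat _ _ * affMat _ _
      exact (affMat_mul _ _ _ _).symm)

/-- The parabolic subgroup of `PSL(4,3)`. -/
noncomputable def aff : M0 →* P4 := (QuotientGroup.mk' _).comp toSL4

/-- The translation by a vector. -/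
def tr (a b c : K) : M0 := SemidirectProduct.inl (Multiplicative.ofAdd ![a, b, c])

/-- The central element of the Sylow subgroup. -/
def z0 : M0 := tr 1 0 0

/-- The element `X₁₃` of the second elementary abelian subgroup of `Q`. -/
def a0 : M0 := SemidirectProduct.inr ⟨!![1, 0, 1; 0, 1, 0; 0, 0, 1], by decide⟩

end Cfsg.Agent.PSLFourThree
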