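import Cfsg.Agent.Lib.PSLFourThree.ParModel

/-!
# Finite facts about the unipotent elements of the point parabolic

* `uni`, `IsUni`: upper unitriangular linear parts; `Special`: the canonical elements
* `exists_special`: an element of order three conjugates to a special one
* `special_plane`: commuting elements force a bad product; `regular_witness`
-/

set_option autoImplicit false
set_option maxRecDepth 100000
set_option maxHeartbeats 4000000
set_option synthInstance.maxSize 4000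
set_option synthInstance.maxHeartbeats 400000
set_option Elab.async false

namespace Cfsg.Agent.PSLFourThree

namespace Raw

/-- Conjugation. -/
def conj (p a : Raw) : Raw := mul (mul p a) (inv p)

/-- The cube. -/
def cube (a : Raw) : Raw := mul (mul a a) a

/-- An element with an upper unitriangular linear part. -/
def uni (v0 v1 v2 p q r : ZMod 3) : Raw := ⟨v0, v1, v2, ⟨1, p, q, 0, 1, r, 0, 0, 1⟩⟩

/-- A translation. -/
def trans (v0 v1 v2 : ZMod 3) : Raw := ⟨v0, v1, v2, M3.one⟩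

/-- In the radical of the parabolic, or in the second radical. -/
def Bad (a : Raw) : Prop :=
  a ≠ one ∧ (a.m = M3.one ∨
    (a.v0 = 0 ∧ a.v1 = 0 ∧ a.m = ⟨1, 0, a.m.a02, 0, 1, a.m.a12, 0, 0, 1⟩))

instance decBad : DecidablePred Bad := fun a => by unfold Bad; infer_instance

/-- The canonical elements of order three outside the two radicals. -/
def Special (a : Raw) : Prop :=
  (a.v0 = 0 ∧ a.v1 = 0 ∧ a.v2 = 0 ∧ a.m.a01 ≠ 0 ∧ a.m.a12 ≠ 0 ∧
      a.m = ⟨1, a.m.a01, a.m.a02, 0, 1, a.m.a12, 0, 0, 1⟩) ∨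
    (a.v2 = 0 ∧ ((a.v0 = 0 ∧ a.v1 ≠ 0) ∨ (a.v0 ≠ 0 ∧ a.v1 = 0)) ∧
      a.m.a02 ≠ 0 ∧ a.m = ⟨1, 0, a.m.a02, 0, 1, 0, 0, 0, 1⟩)

instance decSpecial : DecidablePred Special := fun a => by unfold Special; infer_instance

/-- A regular special element. -/
def regular (p q r : ZMod 3) : Raw := uni 0 0 0 p q r

/-- The powers of an element of order three. -/
def powers (a : Raw) : List Raw := [one, a, mul a a]

/-- Linear parts bringing a transvection to the standard one. -/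
def linList : List M3 :=
  [M3.one, ⟨0, 1, 0, 1, 0, 0, 0, 0, 2⟩, ⟨1, 0, 0, 0, 0, 1, 0, 2, 0⟩, ⟨1, 0, 0, 0, 1, 0, 0, 1, 1⟩,
   ⟨1, 0, 0, 1, 1, 0, 0, 0, 1⟩, ⟨0, 1, 0, 2, 1, 0, 0, 0, 1⟩, ⟨1, 0, 0, 0, 0, 1, 0, 2, 1⟩]

/-- Elements used to shift the plane of a special element. -/
def shiftList : List Raw :=
  [trans 0 1 0, uni 1 0 0 0 0 1, uni 2 0 0 0 0 1, uni 0 0 0 1 0 0, uni 1 0 0 0 0 2, uni 2 0 0 0 0 2]

/-- Elements used to conjugate regular elements. -/
def regList : List Raw :=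
  [uni 0 0 0 0 0 0, uni 0 0 0 0 0 1, uni 0 0 0 0 0 2, uni 0 1 0 0 0 0, uni 0 1 0 0 0 1,
   uni 0 1 0 0 0 2, uni 0 2 0 0 0 0, uni 0 2 0 0 0 1, uni 0 2 0 0 0 2]

theorem linList_det : ∀ L ∈ linList, M3.det L = 1 := by decide +kernel

theorem shiftList_det : ∀ h ∈ shiftList, h.m.det = 1 := by decide +kernel

theorem regList_det : ∀ h ∈ regList, h.m.det = 1 := by decide +kernel

/-- A transvection conjugates to the standard one. -/
theorem trans_to_standard : ∀ p q r : ZMod 3, p * r = 0 → (p ≠ 0 ∨ q ≠ 0 ∨ r ≠ 0) →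
    ∃ L ∈ linList, ∃ e : ZMod 3, e ≠ 0 ∧
      M3.mul (M3.mul L ⟨1, p, q, 0, 1, r, 0, 0, 1⟩) (M3.adj L) = ⟨1, 0, e, 0, 1, 0, 0, 0, 1⟩ := by
  decide +kernel

/-- An element over the standard transvection is special or lies in the second radical after conjugation. -/
theorem standard_to_special : ∀ v0 v1 v2 e : ZMod 3, e ≠ 0 → ∃ t0 t1 t2 s : ZMod 3,
    Special (conj (uni t0 t1 t2 s 0 0) (uni v0 v1 v2 0 e 0)) ∨
      Bad (conj (uni t0 t1 t2 s 0 0) (uni v0 v1 v2 0 e 0)) := by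
  decide +kernel

/-- A regular element of order three loses its translation part. -/
theorem regular_to_special : ∀ v0 v1 v2 p q r : ZMod 3, p ≠ 0 → r ≠ 0 →
    cube (uni v0 v1 v2 p q r) = one → ∃ t0 t1 t2 : ZMod 3,
      conj (trans t0 t1 t2) (uni v0 v1 v2 p q r) = regular p q r := by
  decide +kernel

/-- An element of order three that is not regular fixes a translation outside the centre. -/
theorem transvection_fixes : ∀ v0 v1 v2 p q r : ZMod 3, p * r = 0 →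
    ∃ r0 r1 : ZMod 3, (r0 ≠ 0 ∨ r1 ≠ 0) ∧
      mul (trans r0 r1 0) (uni v0 v1 v2 p q r) = mul (uni v0 v1 v2 p q r) (trans r0 r1 0) := by
  decide +kernel

/-- A three-element of `SL(3,3)` fixing the last row is unitriangular after conjugation. -/
theorem levi_to_uni : ∀ a b c d e f : ZMod 3,
    M3.mul (M3.mul (⟨a, b, c, d, e, f, 0, 0, 1⟩ : M3) ⟨a, b, c, d, e, f, 0, 0, 1⟩) ⟨a, b, c, d, e, f, 0, 0, 1⟩
      = M3.one → ∃ k : Fin 4, ∃ p q r : ZMod 3,
      (let L : M3 := if k = 3 then M3.one else ⟨0, 1, 0, 2, (k.1 : ZMod 3), 0, 0, 0, 1⟩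
       M3.mul (M3.mul L ⟨a, b, c, d, e, f, 0, 0, 1⟩) (M3.adj L)) = ⟨1, p, q, 0, 1, r, 0, 0, 1⟩ := by
  decide +kernel

/-- Centralizing a standard transvection and fixing the last row. -/
theorem commute_standard : ∀ a b c d e f t : ZMod 3, t ≠ 0 → M3.det ⟨a, b, c, d, e, f, 0, 0, 1⟩ = 1 →
    M3.mul ⟨a, b, c, d, e, f, 0, 0, 1⟩ ⟨1, 0, t, 0, 1, 0, 0, 0, 1⟩ =
      M3.mul ⟨1, 0, t, 0, 1, 0, 0, 0, 1⟩ ⟨a, b, c, d, e, f, 0, 0, 1⟩ → a = 1 ∧ d = 0 ∧ e = 1 := by
  decide +kernel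

/-- Centralizing a regular element and fixing the last row. -/
theorem commute_regular : ∀ a b c d e f p q r : ZMod 3, p ≠ 0 → r ≠ 0 →
    M3.mul ⟨a, b, c, d, e, f, 0, 0, 1⟩ ⟨1, p, q, 0, 1, r, 0, 0, 1⟩ =
      M3.mul ⟨1, p, q, 0, 1, r, 0, 0, 1⟩ ⟨a, b, c, d, e, f, 0, 0, 1⟩ → a = 1 ∧ d = 0 ∧ e = 1 := by
  decide +kernel

/-- The elements of a conjugate of the radical over a transvection-type element cannot all be good. -/
theorem special_plane_trans : ∀ v0 v1 e w0 w1 w2 p q r : ZMod 3,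
    Special (uni v0 v1 0 0 e 0) →
    mul (uni w0 w1 w2 p q r) (uni v0 v1 0 0 e 0) = mul (uni v0 v1 0 0 e 0) (uni w0 w1 w2 p q r) →
    cube (uni w0 w1 w2 p q r) = one → uni w0 w1 w2 p q r ∉ powers (uni v0 v1 0 0 e 0) →
    (∃ a ∈ powers (uni v0 v1 0 0 e 0), Bad (mul (uni w0 w1 w2 p q r) a)) ∨
      ∃ h ∈ shiftList, mul h (uni v0 v1 0 0 e 0) = mul (uni v0 v1 0 0 e 0) h ∧
        (mul (conj h (uni w0 w1 w2 p q r)) (uni w0 w1 w2 p q r) ≠
            mul (uni w0 w1 w2 p q r) (conj h (uni w0 w1 w2 p q r)) ∨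
          ∃ a ∈ powers (uni v0 v1 0 0 e 0),
            Bad (mul (mul (conj h (uni w0 w1 w2 p q r)) (inv (uni w0 w1 w2 p q r))) a)) := by
  decide +kernel

/-- The same over a regular element. -/
theorem special_plane_reg : ∀ p0 q0 r0 : ZMod 3, p0 ≠ 0 → r0 ≠ 0 → ∀ w0 w1 w2 p q r : ZMod 3,
    mul (uni w0 w1 w2 p q r) (regular p0 q0 r0) = mul (regular p0 q0 r0) (uni w0 w1 w2 p q r) →
    cube (uni w0 w1 w2 p q r) = one → uni w0 w1 w2 p q r ∉ powers (regular p0 q0 r0) →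
    (∃ a ∈ powers (regular p0 q0 r0), Bad (mul (uni w0 w1 w2 p q r) a)) ∧
      ∃ a ∈ powers (regular p0 q0 r0), mul (uni w0 w1 w2 p q r) a ≠ one ∧
        ((mul (uni w0 w1 w2 p q r) a).m = M3.one ∨ ∃ h ∈ regList,
          conj h (mul (uni w0 w1 w2 p q r) a) ∈ [regular p0 q0 r0, mul (regular p0 q0 r0) (regular p0 q0 r0)]) := by
  decide +kernel

end Raw

end Cfsg.Agent.PSLFourThree
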