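import Cfsg.Agent.Lib.PSLFourThree.ParFacts

/-!
# Fusion of root elements into the point parabolic (piece D of S3373)

* `ParSetting`: the hypotheses transported to the model
* `ParSetting.fusion`: a conjugate of a root element in the parabolic is a translation
-/

set_option autoImplicit false
set_option maxRecDepth 100000
set_option maxHeartbeats 1000000

namespace Cfsg.Agent.PSLFourThree

namespace Af

open Raw (uni trans)

theorem val_inv (a : Af) : a⁻¹.1 = Raw.inv a.1 := rfl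

theorem val_one : (1 : Af).1 = Raw.one := rfl

theorem val_conj (c a : Af) : (c * a * c⁻¹).1 = Raw.conj c.1 a.1 := rfl

theorem val_cube (a : Af) : (a * a * a).1 = Raw.cube a.1 := rfl

/-- An element with upper unitriangular linear part. -/
def mkUni (v0 v1 v2 p q r : ZMod 3) : Af :=
  ⟨uni v0 v1 v2 p q r, by simp [Raw.uni, M3.det]⟩

/-- A linear element. -/
def lin (L : M3) (h : L.det = 1) : Af := ⟨⟨0, 0, 0, L⟩, h⟩

theorem m_lin_conj (L : M3) (h : L.det = 1) (a : Af) :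
    (lin L h * a * (lin L h)⁻¹).1.m = M3.mul (M3.mul L a.1.m) (M3.adj L) := rfl

theorem tr_mul (x y w x' y' w' : ZMod 3) : tr x y w * tr x' y' w' = tr (x + x') (y + y') (w + w') := by
  refine Subtype.ext ?_
  simp [val_mul, tr, Raw.mul, M3.one, M3.mul, add_comm]

theorem z_pow (i : ℕ) : z ^ i = tr 0 0 (i : ZMod 3) := by
  induction i with
  | zero => simp only [pow_zero, Nat.cast_zero]; rfl
  | succ i ih => rw [pow_succ, ih, z, tr_mul]; simp

theorem tr_cube : ∀ x y w : ZMod 3, tr x y w * tr x y w * tr x y w = 1 := by decide +kernel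

theorem m_one {a : Af} (h : a.1.m = M3.one) : a = tr a.1.v0 a.1.v1 a.1.v2 := by
  rcases a with ⟨⟨_, _, _, m⟩, _⟩
  subst h
  rfl

theorem m_conj_one {a : Af} (c : Af) (h : a.1.m = M3.one) : (c * a * c⁻¹).1.m = M3.one := by
  show M3.mul (M3.mul c.1.m a.1.m) (c⁻¹).1.m = M3.one
  rw [h, M3.mul_one']
  exact congrArg (fun x : Af => x.1.m) (mul_inv_cancel c)

theorem m_of_conj_one {a : Af} (c : Af) (h : (c * a * c⁻¹).1.m = M3.one) : a.1.m = M3.one := by
  have := m_conj_one c⁻¹ h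
  rwa [inv_inv, show c⁻¹ * (c * a * c⁻¹) * c = a by group] at this

theorem comm_trans {a b : Af} (ha : a.1.m = M3.one) (hb : b.1.m = M3.one) : a * b = b * a := by
  refine Subtype.ext ?_
  simp only [val_mul, Raw.mul, ha, hb]
  simp [M3.one, M3.mul, add_comm]

theorem trans_mul {a b : Af} (ha : a.1.m = M3.one) (hb : b.1.m = M3.one) :
    (a * b).1.m = M3.one := by
  show M3.mul a.1.m b.1.m = M3.one
  rw [ha, hb, M3.one_mul']

theorem trans_inv {a : Af} (ha : a.1.m = M3.one) : a⁻¹.1.m = M3.one := by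
  show M3.adj a.1.m = M3.one
  rw [ha]; rfl

/-- Translations outside zero are conjugate to the root element. -/
theorem exists_move_z : ∀ x y w : ZMod 3, (x ≠ 0 ∨ y ≠ 0 ∨ w ≠ 0) → ∃ c : Af, c * z * c⁻¹ = tr x y w := by
  have key : ∀ x y w : ZMod 3, (x ≠ 0 ∨ y ≠ 0 ∨ w ≠ 0) →
      ∃ M ∈ ([⟨0, x, 0, 0, 0, 1, x, y, w⟩, ⟨1, 0, 0, 0, 0, -y, x, y, w⟩,
          ⟨w, 0, 0, 0, 1, 0, x, y, w⟩] : List M3),
        M3.det M = 1 ∧ Raw.conj (Raw.inv ⟨0, 0, 0, M⟩) (trans 0 0 1) = trans x y w := by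
    decide +kernel
  intro x y w h
  obtain ⟨M, -, hd, e⟩ := key x y w h
  refine ⟨(lin M hd)⁻¹, Subtype.ext ?_⟩
  exact e

theorem exists_conj_z {a : Af} (h : a.1.m = M3.one) (h1 : a ≠ 1) : ∃ c : Af, c * z * c⁻¹ = a := by
  rw [m_one h] at h1 ⊢
  refine exists_move_z _ _ _ ?_
  by_contra hno
  push Not at hno
  exact h1 (by rw [hno.1, hno.2.1, hno.2.2]; rfl)

theorem commute_z_iff {a : Af} :
    a * z = z * a ↔ a.1.m.a20 = 0 ∧ a.1.m.a21 = 0 ∧ a.1.m.a22 = 1 := by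
  rcases a with ⟨⟨x, y, w, ⟨_, _, _, _, _, _, c, d, e⟩⟩, _⟩
  rw [Subtype.ext_iff]
  simp only [val_mul, z, tr, Raw.mul, M3.mul, M3.one, Raw.mk.injEq, M3.mk.injEq]
  simp [add_comm, eq_comm]

/-- The unitriangular elements. -/
def uniSub : Subgroup Af where
  carrier := {a | a.1.m.a00 = 1 ∧ a.1.m.a11 = 1 ∧ a.1.m.a22 = 1 ∧
    a.1.m.a10 = 0 ∧ a.1.m.a20 = 0 ∧ a.1.m.a21 = 0}
  mul_mem' := by
    rintro ⟨a, _⟩ ⟨b, _⟩ ⟨a0, a1, a2, a3, a4, a5⟩ ⟨b0, b1, b2, b3, b4, b5⟩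
    dsimp at *
    simp [val_mul, Raw.mul, M3.mul, a0, a1, a2, a3, a4, a5, b0, b1, b2, b3, b4, b5]
  one_mem' := ⟨rfl, rfl, rfl, rfl, rfl, rfl⟩
  inv_mem' := by
    rintro ⟨a, _⟩ ⟨a0, a1, a2, a3, a4, a5⟩
    dsimp at *
    simp [val_inv, Raw.inv, M3.adj, a0, a1, a2, a3, a4, a5]

theorem mem_uniSub_iff {a : Af} :
    a ∈ uniSub ↔ ∃ v0 v1 v2 p q r, a = mkUni v0 v1 v2 p q r := by
  constructor
  · rintro ⟨h0, h1, h2, h3, h4, h5⟩
    refine ⟨a.1.v0, a.1.v1, a.1.v2, a.1.m.a01, a.1.m.a02, a.1.m.a12, Subtype.ext ?_⟩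
    rcases a with ⟨⟨_, _, _, ⟨_, _, _, _, _, _, _, _, _⟩⟩, _⟩
    dsimp at *
    simp [mkUni, Raw.uni, h0, h1, h2, h3, h4, h5]
  · rintro ⟨v0, v1, v2, p, q, r, rfl⟩
    exact ⟨rfl, rfl, rfl, rfl, rfl, rfl⟩

theorem card_uniSub : Nat.card uniSub = 729 := by
  let f : ZMod 3 × ZMod 3 × ZMod 3 × ZMod 3 × ZMod 3 × ZMod 3 → uniSub := fun t =>
    ⟨mkUni t.1 t.2.1 t.2.2.1 t.2.2.2.1 t.2.2.2.2.1 t.2.2.2.2.2,
      mem_uniSub_iff.2 ⟨_, _, _, _, _, _, rfl⟩⟩
  have hb : Function.Bijective f := by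
    refine ⟨fun s t h => ?_, fun a => ?_⟩
    · have h' := congrArg (fun a : uniSub => a.1.1) h
      simp only [f, mkUni, Raw.uni, Raw.mk.injEq, M3.mk.injEq] at h'
      obtain ⟨h1, h2, h3, -, h4, h5, -, -, h6, -⟩ := h'
      simp [Prod.ext_iff, h1, h2, h3, h4, h5, h6]
    · obtain ⟨v0, v1, v2, p, q, r, e⟩ := mem_uniSub_iff.1 a.2
      exact ⟨(v0, v1, v2, p, q, r), Subtype.ext e.symm⟩
  rw [← Nat.card_eq_of_bijective f hb]
  simp

theorem exists_uni {a : Af} (h : a * a * a = 1) : ∃ c : Af, c * a * c⁻¹ ∈ uniSub := by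
  have : Fact (Nat.Prime 3) := ⟨Nat.prime_three⟩
  have h1 : IsPGroup 3 uniSub := IsPGroup.of_card (n := 6) (by rw [card_uniSub]; norm_num)
  have h2 : ¬ 3 ∣ uniSub.index := by
    have := uniSub.card_mul_index
    rw [card_uniSub, card] at this
    omega
  have h3 : IsPGroup 3 (Subgroup.zpowers a) := by
    rintro ⟨x, i, rfl⟩
    refine ⟨1, Subtype.ext ?_⟩
    show (a ^ i) ^ (3 ^ 1) = 1
    rw [← zpow_natCast, ← zpow_mul, mul_comm, zpow_mul, zpow_natCast, pow_one, pow_succ, pow_two, h,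
      one_zpow]
  obtain ⟨P, hP⟩ := h3.exists_le_sylow
  obtain ⟨c, hc⟩ := MulAction.exists_smul_eq Af P (h1.toSylow h2)
  refine ⟨c, ?_⟩
  have h4 : MulAut.conj c a ∈ (c • P : Sylow 3 Af) :=
    Subgroup.smul_mem_pointwise_smul a (MulAut.conj c) _ (hP (Subgroup.mem_zpowers a))
  rw [hc] at h4
  exact h4

theorem exists_uni_fix {b : Af} (hz : b * z = z * b) (h : b * b * b = 1) :
    ∃ c : Af, c * z = z * c ∧ c * b * c⁻¹ ∈ uniSub := by
  obtain ⟨e1, e2, e3⟩ := commute_z_iff.1 hz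
  rcases b with ⟨⟨x, y, w, ⟨a00, a01, a02, a10, a11, a12, a20, a21, a22⟩⟩, hb⟩
  dsimp at e1 e2 e3
  subst e1 e2 e3
  have h' : M3.mul (M3.mul _ _) _ = M3.one := congrArg (fun x : Af => x.1.m) h
  obtain ⟨k, p, q, r, hk⟩ := Raw.levi_to_uni _ _ _ _ _ _ h'
  have hd : ∀ k : Fin 4, M3.det (if k = 3 then M3.one else ⟨0, 1, 0, 2, (k.1 : ZMod 3), 0, 0, 0, 1⟩) = 1 := by
    decide +kernel
  refine ⟨lin _ (hd k), commute_z_iff.2 ?_, ?_⟩
  · have : ∀ k : Fin 4, let L : M3 := if k = 3 then M3.one else ⟨0, 1, 0, 2, (k.1 : ZMod 3), 0, 0, 0, 1⟩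
        L.a20 = 0 ∧ L.a21 = 0 ∧ L.a22 = 1 := by decide +kernel
    exact this k
  · show _ ∧ _
    rw [m_lin_conj]
    dsimp only at hk ⊢
    rw [hk]
    exact ⟨rfl, rfl, rfl, rfl, rfl, rfl⟩

theorem special_forms {a : Af} (h : Raw.Special a.1) :
    (∃ p q r, p ≠ 0 ∧ r ≠ 0 ∧ a.1 = Raw.regular p q r) ∨
      ∃ v0 v1 e, a.1 = uni v0 v1 0 0 e 0 ∧ e ≠ 0 ∧ Raw.Special (uni v0 v1 0 0 e 0) := by
  have h' := h
  rcases h with ⟨h0, h1, h2, hp, hr, hm⟩ | ⟨h2, -, he, hm⟩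
  · refine Or.inl ⟨a.1.m.a01, a.1.m.a02, a.1.m.a12, hp, hr, ?_⟩
    rcases a with ⟨⟨x, y, w, m⟩, _⟩
    dsimp at h0 h1 h2 hm ⊢
    conv_lhs => rw [h0, h1, h2, hm]
    rfl
  · have e : a.1 = uni a.1.v0 a.1.v1 0 0 a.1.m.a02 0 := by
      rcases a with ⟨⟨x, y, w, m⟩, _⟩
      dsimp at h2 hm ⊢
      conv_lhs => rw [h2, hm]
      rfl
    exact Or.inr ⟨_, _, _, e, he, e ▸ h'⟩

theorem special_comm_z {a : Af} (h : Raw.Special a.1) : a * z = z * a := by
  rcases special_forms h with ⟨p, q, r, -, -, e⟩ | ⟨v0, v1, t, e, -, -⟩ <;>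
  · rw [commute_z_iff, e]; exact ⟨rfl, rfl, rfl⟩

theorem special_ne {a : Af} (h : Raw.Special a.1) : a.1.m ≠ M3.one := by
  rcases special_forms h with ⟨p, q, r, hp, -, e⟩ | ⟨v0, v1, t, e, ht, -⟩ <;> rw [e] <;> intro hm
  · exact hp (congrArg M3.a01 hm)
  · exact ht (congrArg M3.a02 hm)

theorem inB_of_bad {a : Af} (h : Raw.Bad a.1) : a.1.m = M3.one ∨ inB a := h.2.imp id id

theorem mem_powers {a : Af} {r : Raw} (h : r ∈ Raw.powers a.1) : ∃ i : ℕ, r = (a ^ i).1 := by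
  simp only [Raw.powers, List.mem_cons, List.not_mem_nil, or_false] at h
  rcases h with rfl | rfl | rfl
  · exact ⟨0, by simp [val_one]⟩
  · exact ⟨1, by simp⟩
  · exact ⟨2, by simp [pow_two, val_mul]⟩

theorem cube_eq {a : Af} (h : a * a * a = 1) : Raw.cube a.1 = Raw.one := congrArg Subtype.val h

theorem comm_eq {a b : Af} (h : a * b = b * a) : Raw.mul a.1 b.1 = Raw.mul b.1 a.1 :=
  congrArg Subtype.val h

/-- An element centralizing `z` and a special element is unitriangular. -/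
theorem uni_of_comm_special {a k : Af} (ha : Raw.Special a.1) (hk : k * z = z * k)
    (hc : k * a = a * k) : k ∈ uniSub := by
  obtain ⟨e1, e2, e3⟩ := commute_z_iff.1 hk
  have hd := k.2
  rcases k with ⟨⟨x, y, w, ⟨a00, a01, a02, a10, a11, a12, a20, a21, a22⟩⟩, hk'⟩
  dsimp at e1 e2 e3 hd
  subst e1 e2 e3
  have hm := congrArg (fun x : Af => x.1.m) hc
  rcases special_forms ha with ⟨p, q, r, hp, hr, e⟩ | ⟨v0, v1, t, e, ht, -⟩
  · simp only [val_mul, e] at hm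
    obtain ⟨f1, f2, f3⟩ := Raw.commute_regular _ _ _ _ _ _ p q r hp hr hm
    exact ⟨f1, f3, rfl, f2, rfl, rfl⟩
  · simp only [val_mul, e] at hm
    obtain ⟨f1, f2, f3⟩ := Raw.commute_standard _ _ _ _ _ _ t ht hd hm
    exact ⟨f1, f3, rfl, f2, rfl, rfl⟩

end Af

universe u

variable {G : Type u} [Group G]

/-- The hypotheses of piece D on the model. -/
structure ParSetting (π : Af →* G) : Prop where
  inj : Function.Injective π
  cent : Subgroup.centralizer ({π Af.z} : Set G) ≤ π.range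
  hB : ∀ (g : G) (a : Af), g * π Af.z * g⁻¹ = π a → Af.inB a → a.1.m = M3.one

namespace ParSetting

variable {π : Af →* G} (E : ParSetting π)
include E

theorem lift {y : G} (h : y * π Af.z = π Af.z * y) : ∃ d, π d = y ∧ d * Af.z = Af.z * d := by
  obtain ⟨d, rfl⟩ := E.cent (Subgroup.mem_centralizer_singleton_iff.2 h)
  exact ⟨d, rfl, E.inj (by rw [map_mul, map_mul, h])⟩

theorem mem_range_of_trans {g : G} {a : Af} (h : g * π Af.z * g⁻¹ = π a) (ha : a.1.m = M3.one) :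
    g ∈ π.range := by
  have h1 : a ≠ 1 := by
    rintro rfl
    rw [map_one, mul_inv_eq_one, mul_eq_left] at h
    exact (show (Af.z : Af) ≠ 1 by decide) (E.inj (by rw [h, map_one]))
  obtain ⟨c, rfl⟩ := Af.exists_conj_z ha h1
  have h2 : (π c)⁻¹ * g * π Af.z = π Af.z * ((π c)⁻¹ * g) := by
    rw [map_mul, map_mul, map_inv] at h
    calc (π c)⁻¹ * g * π Af.z = (π c)⁻¹ * (g * π Af.z * g⁻¹) * g := by group
      _ = _ := by rw [h]; group
  have := mul_mem (show π c ∈ π.range from ⟨_, rfl⟩)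
    (E.cent (Subgroup.mem_centralizer_singleton_iff.2 h2))
  rwa [mul_inv_cancel_left] at this

theorem conj_range {g : G} {a : Af} (h : g * π Af.z * g⁻¹ = π a) (hg : g ∈ π.range) :
    a.1.m = M3.one := by
  obtain ⟨c, rfl⟩ := hg
  rw [← map_inv, ← map_mul, ← map_mul] at h
  exact E.inj h ▸ Af.m_conj_one c rfl

/-- The images of translations under an outside element are good. -/
theorem not_bad {g : G} (hg : g ∉ π.range) {x y : Af} (hx : x.1.m = M3.one)
    (h : g * π x * g⁻¹ = π y) : ¬ Raw.Bad y.1 := by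
  intro hb
  by_cases hx1 : x = 1
  · subst hx1
    rw [map_one, mul_one, mul_inv_cancel] at h
    exact hb.1 (congrArg Subtype.val (E.inj (show π y = π 1 by rw [map_one, h])))
  · obtain ⟨c, rfl⟩ := Af.exists_conj_z hx hx1
    have h' : g * π c * π Af.z * (g * π c)⁻¹ = π y := by
      rw [← h, map_mul, map_mul, map_inv]; group
    have hy : y.1.m = M3.one := (Af.inB_of_bad hb).elim id (E.hB _ _ h')
    have := mul_mem (E.mem_range_of_trans h' hy) (show (π c)⁻¹ ∈ π.range from ⟨c⁻¹, map_inv π c⟩)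
    exact hg (by simpa using this)

theorem ne_one_of {g : G} (hg : g ∉ π.range) {b : Af} (h : g⁻¹ * π Af.z * g = π b) :
    b.1.m ≠ M3.one ∧ ¬ Af.inB b := by
  have h' : g⁻¹ * π Af.z * g⁻¹⁻¹ = π b := by rw [inv_inv, h]
  have h1 : b.1.m ≠ M3.one := fun hm => hg (inv_mem_iff.1 (E.mem_range_of_trans h' hm))
  exact ⟨h1, fun hi => h1 (E.hB _ _ h' hi)⟩

/-- The conjugate into the range of something centralizing `b`. -/
theorem pull {g : G} {a b x : Af} (hga : g * π Af.z * g⁻¹ = π a)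
    (hgb : g⁻¹ * π Af.z * g = π b) (hxb : x * b = b * x) (hxz : x * Af.z = Af.z * x) :
    ∃ k, π k = g * π x * g⁻¹ ∧ k * Af.z = Af.z * k ∧ k * a = a * k := by
  obtain ⟨k, hk, hkz⟩ := E.lift (y := g * π x * g⁻¹) (by
    calc g * π x * g⁻¹ * π Af.z = g * (π x * (g⁻¹ * π Af.z * g)) * g⁻¹ := by group
      _ = g * π (x * b) * g⁻¹ := by rw [hgb, map_mul]
      _ = g * (π b * π x) * g⁻¹ := by rw [hxb, map_mul]
      _ = _ := by rw [← hgb]; group)
  refine ⟨k, hk, hkz, E.inj ?_⟩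
  rw [map_mul, map_mul, hk, ← hga]
  calc g * π x * g⁻¹ * (g * π Af.z * g⁻¹) = g * π (x * Af.z) * g⁻¹ := by rw [map_mul]; group
    _ = g * π (Af.z * x) * g⁻¹ := by rw [hxz]
    _ = _ := by rw [map_mul]; group

theorem pull_cube {g : G} {x k : Af} (hk : π k = g * π x * g⁻¹) (hx : x * x * x = 1) :
    k * k * k = 1 := E.inj (by
  rw [map_mul, map_mul, map_one, hk]
  calc g * π x * g⁻¹ * (g * π x * g⁻¹) * (g * π x * g⁻¹) = g * π (x * x * x) * g⁻¹ := by
        rw [map_mul, map_mul]; group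
    _ = 1 := by rw [hx, map_one, mul_one, mul_inv_cancel])

theorem pull_not_power {g : G} {a x k : Af} (hga : g * π Af.z * g⁻¹ = π a)
    (hk : π k = g * π x * g⁻¹) (hx : ∀ i : ℕ, x ≠ Af.z ^ i) : k.1 ∉ Raw.powers a.1 := by
  intro hm
  obtain ⟨i, hi⟩ := Af.mem_powers hm
  have e : k = a ^ i := Subtype.ext hi
  rw [e, map_pow, ← hga, conj_pow, ← map_pow] at hk
  exact hx i (E.inj (mul_left_cancel (mul_right_cancel hk)).symm)

theorem case_nonregular {g : G} {a b : Af} (hg : g ∉ π.range) (hga : g * π Af.z * g⁻¹ = π a)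
    (hgb : g⁻¹ * π Af.z * g = π b) (ha : Raw.Special a.1) {v0 v1 v2 p q r : ZMod 3}
    (hb : b.1 = Raw.uni v0 v1 v2 p q r) (hpr : p * r = 0) : False := by
  obtain ⟨r0, r1, hr0, hr⟩ := Raw.transvection_fixes v0 v1 v2 p q r hpr
  set x : Af := Af.tr r0 r1 0 with hxdef
  have hxb : x * b = b * x := Subtype.ext (by rw [Af.val_mul, Af.val_mul, hb]; exact hr)
  have hxz : x * Af.z = Af.z * x := Af.comm_trans rfl rfl
  obtain ⟨k, hk, hkz, hka⟩ := E.pull hga hgb hxb hxz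
  have hx3 : x * x * x = 1 := Af.tr_cube r0 r1 0
  have hxp : ∀ i : ℕ, x ≠ Af.z ^ i := by
    intro i e
    rw [Af.z_pow] at e
    rcases hr0 with h | h
    · exact h (congrArg (fun a : Af => a.1.v0) e)
    · exact h (congrArg (fun a : Af => a.1.v1) e)
  have hnp := E.pull_not_power hga hk hxp
  have hk3 := Af.cube_eq (E.pull_cube hk hx3)
  obtain ⟨w0, w1, w2, p', q', r', hku⟩ :=
    Af.mem_uniSub_iff.1 (Af.uni_of_comm_special ha hkz hka)
  have hkr : k.1 = Raw.uni w0 w1 w2 p' q' r' := congrArg Subtype.val hku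
  have hcomm : Raw.mul (Raw.uni w0 w1 w2 p' q' r') a.1 = Raw.mul a.1 (Raw.uni w0 w1 w2 p' q' r') :=
    hkr ▸ Af.comm_eq hka
  have himg : ∀ {x' y : Af}, x'.1.m = M3.one → π y = g * π x' * g⁻¹ → ∀ i : ℕ,
      ¬ Raw.Bad (Raw.mul y.1 (a ^ i).1) := by
    intro x' y hx' hy i
    refine E.not_bad hg (x := x' * Af.z ^ i) (y := y * a ^ i) ?_ ?_
    · refine Af.trans_mul hx' ?_
      rw [Af.z_pow]; rfl
    · rw [map_mul, map_mul, map_pow, map_pow, hy, ← hga, conj_pow]; group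
  rcases Af.special_forms ha with ⟨p0, q0, r0', hp0, hr0', e⟩ | ⟨s0, s1, t, e, -, hs⟩
  · rw [e] at hcomm hnp
    obtain ⟨⟨y, hy, hbad⟩, -⟩ := Raw.special_plane_reg p0 q0 r0' hp0 hr0' _ _ _ _ _ _ hcomm
      (hkr ▸ hk3) (hkr ▸ hnp)
    rw [← e] at hy
    obtain ⟨i, rfl⟩ := Af.mem_powers hy
    exact himg (x' := x) rfl hk i (hkr ▸ hbad)
  · rw [e] at hcomm hnp
    rcases Raw.special_plane_trans _ _ _ _ _ _ _ _ _ hs hcomm (hkr ▸ hk3) (hkr ▸ hnp) with
      ⟨y, hy, hbad⟩ | ⟨h, hh, hha, hrest⟩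
    · rw [← e] at hy
      obtain ⟨i, rfl⟩ := Af.mem_powers hy
      exact himg (x' := x) rfl hk i (hkr ▸ hbad)
    · have hh' : Raw.mul h a.1 = Raw.mul a.1 h := by rw [e]; exact hha
      set hA : Af := ⟨h, Raw.shiftList_det h hh⟩
      have hA' : hA * a = a * hA := Subtype.ext hh'
      obtain ⟨d, hd, -⟩ := E.lift (y := g⁻¹ * π hA * g) (by
        calc g⁻¹ * π hA * g * π Af.z = g⁻¹ * (π hA * (g * π Af.z * g⁻¹)) * g := by group
          _ = g⁻¹ * π (hA * a) * g := by rw [hga, map_mul]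
          _ = g⁻¹ * (π a * π hA) * g := by rw [hA', map_mul]
          _ = _ := by rw [← hga]; group)
      have hk' : π (hA * k * hA⁻¹) = g * π (d * x * d⁻¹) * g⁻¹ := by
        simp only [map_mul, map_inv, hd, hk]; group
      rcases hrest with hne | ⟨y, hy, hbad⟩
      · refine hne ?_
        have hc : hA * k * hA⁻¹ * k = k * (hA * k * hA⁻¹) := E.inj (by
          rw [map_mul π _ k, map_mul π k, hk', hk]
          calc g * π (d * x * d⁻¹) * g⁻¹ * (g * π x * g⁻¹)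
              = g * π (d * x * d⁻¹ * x) * g⁻¹ := by simp only [map_mul]; group
            _ = g * π (x * (d * x * d⁻¹)) * g⁻¹ := by
              rw [Af.comm_trans (Af.m_conj_one d rfl) rfl]
            _ = _ := by simp only [map_mul]; group)
        rw [← hkr]
        exact congrArg Subtype.val hc
      · rw [← e] at hy
        obtain ⟨i, rfl⟩ := Af.mem_powers hy
        refine himg (x' := d * x * d⁻¹ * x⁻¹) (y := hA * k * hA⁻¹ * k⁻¹)
          (Af.trans_mul (Af.m_conj_one d rfl) (Af.trans_inv rfl)) ?_ i ?_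
        · rw [map_mul π (hA * k * hA⁻¹), map_mul π (d * x * d⁻¹), map_inv, map_inv, hk', hk]; group
        · rw [Af.val_mul, Af.val_conj, Af.val_inv, hkr]
          exact hbad

/-- A regular element's conjugate of `x13`. -/
theorem case_regular {g : G} {a b : Af} (hga : g * π Af.z * g⁻¹ = π a)
    (hgb : g⁻¹ * π Af.z * g = π b) {c : Af} (hcz : c * Af.z = Af.z * c) {p q r : ZMod 3}
    (hc : (c * b * c⁻¹).1 = Raw.regular p q r) {p0 q0 r0 : ZMod 3} (hp0 : p0 ≠ 0) (hr0 : r0 ≠ 0)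
    (ha : a.1 = Raw.regular p0 q0 r0) : False := by
  have hsp : Raw.Special a.1 := by
    rw [ha]; exact Or.inl ⟨rfl, rfl, rfl, hp0, hr0, rfl⟩
  set x : Af := Af.mkUni 0 0 0 0 1 0
  set u' : Af := c⁻¹ * x * c
  have hxc : x * (c * b * c⁻¹) = c * b * c⁻¹ * x := Subtype.ext (by
    have : ∀ p q r : ZMod 3, Raw.mul (Raw.uni 0 0 0 0 1 0) (Raw.regular p q r) =
        Raw.mul (Raw.regular p q r) (Raw.uni 0 0 0 0 1 0) := by decide +kernel
    show Raw.mul x.1 (c * b * c⁻¹).1 = Raw.mul (c * b * c⁻¹).1 x.1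
    rw [hc]; exact this p q r)
  have hub : u' * b = b * u' := by
    calc u' * b = c⁻¹ * (x * (c * b * c⁻¹)) * c := by simp only [u']; group
      _ = c⁻¹ * (c * b * c⁻¹ * x) * c := by rw [hxc]
      _ = _ := by simp only [u']; group
  have hxz : x * Af.z = Af.z * x := by decide +kernel
  have huz : u' * Af.z = Af.z * u' := by
    have h1 : c⁻¹ * Af.z = Af.z * c⁻¹ := (Commute.inv_left hcz : Commute c⁻¹ Af.z)
    exact ((Commute.mul_left (Commute.mul_left h1 hxz) hcz) : Commute u' Af.z)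
  obtain ⟨k, hk, hkz, hka⟩ := E.pull hga hgb hub huz
  have hu3 : u' * u' * u' = 1 := by
    have : x * x * x = 1 := by decide +kernel
    calc u' * u' * u' = c⁻¹ * (x * x * x) * c := by simp only [u']; group
      _ = 1 := by rw [this, mul_one, inv_mul_cancel]
  -- the elements of the coset of `x` are not conjugate to the root element
  have hnc : ∀ (i : ℕ) (y : G), y * π Af.z * y⁻¹ ≠ π (x * Af.z ^ i) := by
    intro i y e
    have hz : (Af.z ^ i).1.m = M3.one ∧ (Af.z ^ i).1.v0 = 0 ∧ (Af.z ^ i).1.v1 = 0 := by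
      rw [Af.z_pow]; exact ⟨rfl, rfl, rfl⟩
    have hin : Af.inB (x * Af.z ^ i) := by
      simp [Af.inB, Af.val_mul, Raw.mul, hz.1, hz.2.1, hz.2.2, x, Af.mkUni, Raw.uni, M3.one, M3.mul]
    have := congrArg M3.a02 (E.hB y _ e hin)
    simp [Af.val_mul, Raw.mul, hz.1, x, Af.mkUni, Raw.uni, M3.one, M3.mul] at this
  have hconj : ∀ (i : ℕ) (y : G), y * π Af.z * y⁻¹ ≠ π (k * a ^ i) := by
    intro i y e
    refine hnc i (π c * g⁻¹ * y) ?_
    have e2 : π (k * a ^ i) = g * π (u' * Af.z ^ i) * g⁻¹ := by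
      rw [map_mul, map_mul, map_pow, map_pow, hk, ← hga, conj_pow]; group
    have e3 : c * (u' * Af.z ^ i) * c⁻¹ = x * Af.z ^ i := by
      have : Commute (c⁻¹) (Af.z ^ i) := (Commute.inv_left hcz : Commute c⁻¹ Af.z).pow_right i
      calc c * (u' * Af.z ^ i) * c⁻¹ = x * (c * (Af.z ^ i * c⁻¹)) := by simp only [u']; group
        _ = x * (c * (c⁻¹ * Af.z ^ i)) := by rw [this.eq]
        _ = _ := by rw [mul_inv_cancel_left]
    calc π c * g⁻¹ * y * π Af.z * (π c * g⁻¹ * y)⁻¹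
        = π c * (g⁻¹ * (y * π Af.z * y⁻¹) * g) * (π c)⁻¹ := by group
      _ = π c * π (u' * Af.z ^ i) * (π c)⁻¹ := by rw [e, e2]; group
      _ = π (x * Af.z ^ i) := by rw [← map_inv, ← map_mul, ← map_mul, e3]
  have hnp := E.pull_not_power hga hk (fun i e => hnc 0 (π c) (by
    exfalso
    have h1 : (x).1.m = M3.one := by
      have h2 : c * u' * c⁻¹ = x := by simp only [u']; group
      rw [← h2, e]
      refine Af.m_conj_one c ?_
      rw [Af.z_pow]; rfl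
    exact absurd (congrArg M3.a02 h1) (by decide)))
  obtain ⟨w0, w1, w2, p', q', r', hku⟩ :=
    Af.mem_uniSub_iff.1 (Af.uni_of_comm_special hsp hkz hka)
  have hkr : k.1 = Raw.uni w0 w1 w2 p' q' r' := congrArg Subtype.val hku
  have hk3 := Af.cube_eq (E.pull_cube hk hu3)
  have hcomm := Af.comm_eq hka
  rw [ha, hkr] at hcomm
  rw [hkr] at hk3 hnp
  rw [ha] at hnp
  obtain ⟨-, y, hy, hy1, hcases⟩ :=
    Raw.special_plane_reg p0 q0 r0 hp0 hr0 _ _ _ _ _ _ hcomm hk3 hnp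
  rw [← ha] at hy hcases
  obtain ⟨i, rfl⟩ := Af.mem_powers hy
  rw [← hkr] at hy1 hcases
  have hne : k * a ^ i ≠ 1 := fun e => hy1 (congrArg Subtype.val e)
  rcases hcases with hm | ⟨h, hh, hconjh⟩
  · obtain ⟨d, hd⟩ := Af.exists_conj_z (a := k * a ^ i) hm hne
    exact hconj i (π d) (by rw [← hd, map_mul π _ d⁻¹, map_mul, map_inv])
  · set hA : Af := ⟨h, Raw.regList_det h hh⟩
    have : ∃ j : ℕ, hA * (k * a ^ i) * hA⁻¹ = a ^ (j + 1) ∧ (Af.z ^ (j + 1)).1.m = M3.one ∧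
        Af.z ^ (j + 1) ≠ 1 := by
      simp only [List.mem_cons, List.not_mem_nil, or_false] at hconjh
      rcases hconjh with e | e
      · exact ⟨0, Subtype.ext (by rw [zero_add, pow_one]; exact e), rfl, by decide⟩
      · exact ⟨1, Subtype.ext (by rw [show (1 + 1) = 2 from rfl, pow_two]; exact e), by decide, by decide⟩
    obtain ⟨j, hj, hjm, hj1⟩ := this
    obtain ⟨d, hd⟩ := Af.exists_conj_z hjm hj1
    refine hconj i ((π hA)⁻¹ * g * π d) ?_
    calc (π hA)⁻¹ * g * π d * π Af.z * ((π hA)⁻¹ * g * π d)⁻¹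
        = (π hA)⁻¹ * (g * π (d * Af.z * d⁻¹) * g⁻¹) * π hA := by
          simp only [map_mul, map_inv]; group
      _ = (π hA)⁻¹ * π (a ^ (j + 1)) * π hA := by rw [hd, map_pow, map_pow, ← hga, conj_pow]
      _ = π (k * a ^ i) := by rw [← hj]; simp only [map_mul, map_inv]; group

/-- A conjugate of the root element in the parabolic is a translation. -/
theorem fusion {g : G} {a : Af} (h : g * π Af.z * g⁻¹ = π a) : a.1.m = M3.one := by
  by_contra hne
  have hcube : ∀ {g : G} {a : Af}, g * π Af.z * g⁻¹ = π a → a * a * a = 1 := fun {g a} h =>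
    E.inj (by
      rw [map_mul, map_mul, ← h, map_one]
      calc g * π Af.z * g⁻¹ * (g * π Af.z * g⁻¹) * (g * π Af.z * g⁻¹)
          = g * π (Af.z * Af.z * Af.z) * g⁻¹ := by simp only [map_mul]; group
        _ = 1 := by rw [show Af.z * Af.z * Af.z = 1 by decide +kernel, map_one, mul_one, mul_inv_cancel])
  have hmove : ∀ {g : G} {a : Af} (c : Af), g * π Af.z * g⁻¹ = π a →
      π c * g * π Af.z * (π c * g)⁻¹ = π (c * a * c⁻¹) := fun {g a} c h => by
    rw [map_mul, map_mul, map_inv, ← h]; group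
  obtain ⟨c0, hc0⟩ := Af.exists_uni (hcube h)
  obtain ⟨g1, a1, h1, hne1, hu1⟩ : ∃ g1 a1, g1 * π Af.z * g1⁻¹ = π a1 ∧ a1.1.m ≠ M3.one ∧
      a1 ∈ Af.uniSub := ⟨_, _, hmove c0 h, fun e => hne (Af.m_of_conj_one c0 e), hc0⟩
  obtain ⟨v0, v1, v2, p, q, r, rfl⟩ := Af.mem_uniSub_iff.1 hu1
  -- a special conjugate
  obtain ⟨g2, a2, h2, hs2⟩ : ∃ g2 a2, g2 * π Af.z * g2⁻¹ = π a2 ∧ Raw.Special a2.1 := by
    by_cases hpr : p * r = 0
    · obtain ⟨L, hL, e, he, hLm⟩ := Raw.trans_to_standard p q r hpr (by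
        by_contra hno
        push Not at hno
        exact hne1 (by simp [Af.mkUni, Raw.uni, hno.1, hno.2.1, hno.2.2, M3.one]))
      set c := Af.lin L (Raw.linList_det L hL)
      set a' := c * Af.mkUni v0 v1 v2 p q r * c⁻¹
      have ha' : a'.1 = Raw.uni a'.1.v0 a'.1.v1 a'.1.v2 0 e 0 := by
        have : a'.1.m = ⟨1, 0, e, 0, 1, 0, 0, 0, 1⟩ := hLm
        unfold Raw.uni
        rw [← this]
      obtain ⟨t0, t1, t2, s, hts⟩ := Raw.standard_to_special a'.1.v0 a'.1.v1 a'.1.v2 e he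
      rw [← ha'] at hts
      have h'' := hmove (Af.mkUni t0 t1 t2 s 0 0) (hmove c h1)
      rcases hts with hsp | hbad
      · exact ⟨_, _, h'', hsp⟩
      · exfalso
        refine hne1 (Af.m_of_conj_one c (Af.m_of_conj_one (Af.mkUni t0 t1 t2 s 0 0) ?_))
        exact (Af.inB_of_bad hbad).elim id (E.hB _ _ h'')
    · obtain ⟨hp, hr⟩ := mul_ne_zero_iff.1 hpr
      obtain ⟨t0, t1, t2, ht⟩ :=
        Raw.regular_to_special v0 v1 v2 p q r hp hr (Af.cube_eq (hcube h1))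
      refine ⟨_, _, hmove (Af.tr t0 t1 t2) h1, ?_⟩
      rw [Af.val_conj]
      show Raw.Special (Raw.conj (Raw.trans t0 t1 t2) (Raw.uni v0 v1 v2 p q r))
      rw [ht]
      exact Or.inl ⟨rfl, rfl, rfl, hp, hr, rfl⟩
  have hg2 : g2 ∉ π.range := fun hg => Af.special_ne hs2 (E.conj_range h2 hg)
  have haz := Af.special_comm_z hs2
  obtain ⟨b0, hb0, hb0z⟩ := E.lift (y := g2⁻¹ * π Af.z * g2) (by
    calc g2⁻¹ * π Af.z * g2 * π Af.z = g2⁻¹ * (π Af.z * (g2 * π Af.z * g2⁻¹)) * g2 := by group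
      _ = g2⁻¹ * π (Af.z * a2) * g2 := by rw [h2, map_mul]
      _ = g2⁻¹ * (π a2 * π Af.z) * g2 := by rw [← haz, map_mul]
      _ = _ := by rw [← h2]; group)
  have hb03 : b0 * b0 * b0 = 1 := hcube (g := g2⁻¹) (by rw [inv_inv, hb0])
  obtain ⟨d, hdz, hdu⟩ := Af.exists_uni_fix hb0z hb03
  obtain ⟨w0, w1, w2, p1, q1, r1, hb⟩ := Af.mem_uniSub_iff.1 hdu
  set g3 := g2 * (π d)⁻¹ with hg3def
  have h3 : g3 * π Af.z * g3⁻¹ = π a2 := by
    have e : (π d)⁻¹ * π Af.z * π d = π Af.z := by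
      have := congrArg π hdz
      rw [map_mul, map_mul] at this
      calc (π d)⁻¹ * π Af.z * π d = (π d)⁻¹ * (π Af.z * π d) := by group
        _ = _ := by rw [← this]; group
    calc g3 * π Af.z * g3⁻¹ = g2 * ((π d)⁻¹ * π Af.z * π d) * g2⁻¹ := by rw [hg3def]; group
      _ = _ := by rw [e, h2]
  have h3b : g3⁻¹ * π Af.z * g3 = π (d * b0 * d⁻¹) := by
    rw [hg3def, map_mul, map_mul, map_inv, hb0]; group
  have hg3 : g3 ∉ π.range := fun hg => Af.special_ne hs2 (E.conj_range h3 hg)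
  have hbv : (d * b0 * d⁻¹).1 = Raw.uni w0 w1 w2 p1 q1 r1 := congrArg Subtype.val hb
  by_cases hpr1 : p1 * r1 = 0
  · exact E.case_nonregular hg3 h3 h3b hs2 hbv hpr1
  obtain ⟨hp1, hr1⟩ := mul_ne_zero_iff.1 hpr1
  obtain ⟨t0, t1, t2, ht⟩ := Raw.regular_to_special w0 w1 w2 p1 q1 r1 hp1 hr1 (by
    rw [← hbv]; exact Af.cube_eq (hcube (g := g3⁻¹) (by rw [inv_inv, h3b])))
  set c := Af.tr t0 t1 t2
  have hcz : c * Af.z = Af.z * c := Af.comm_trans rfl rfl
  have hcb : (c * (d * b0 * d⁻¹) * c⁻¹).1 = Raw.regular p1 q1 r1 := by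
    rw [Af.val_conj, hbv]; exact ht
  rcases Af.special_forms hs2 with ⟨p0, q0, r0, hp0, hr0, e⟩ | ⟨s0, s1, t, e, -, -⟩
  · exact E.case_regular h3 h3b hcz hcb hp0 hr0 e
  · -- exchange the two elements
    set g4 := π c * g3⁻¹ with hg4def
    have h4 : g4 * π Af.z * g4⁻¹ = π (c * (d * b0 * d⁻¹) * c⁻¹) := by
      rw [hg4def, map_mul π _ c⁻¹, map_mul π c, map_inv, ← h3b]; group
    have h4b : g4⁻¹ * π Af.z * g4 = π a2 := by
      have ec : (π c)⁻¹ * π Af.z * π c = π Af.z := by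
        have := congrArg π hcz
        rw [map_mul, map_mul] at this
        calc (π c)⁻¹ * π Af.z * π c = (π c)⁻¹ * (π Af.z * π c) := by group
          _ = _ := by rw [← this]; group
      calc g4⁻¹ * π Af.z * g4 = g3 * ((π c)⁻¹ * π Af.z * π c) * g3⁻¹ := by rw [hg4def]; group
        _ = _ := by rw [ec, h3]
    have hg4 : g4 ∉ π.range := fun hg => hg3 (by
      have := mul_mem (inv_mem (show π c ∈ π.range from ⟨_, rfl⟩)) hg
      rw [hg4def, inv_mul_cancel_left] at this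
      exact inv_mem_iff.1 this)
    refine E.case_nonregular hg4 h4 h4b ?_ e (by rw [mul_zero])
    rw [hcb]; exact Or.inl ⟨rfl, rfl, rfl, hp1, hr1, rfl⟩

theorem mem_range {g : G} {a : Af} (h : g * π Af.z * g⁻¹ = π a) : g ∈ π.range :=
  E.mem_range_of_trans h (E.fusion h)

theorem cent_trans {a : Af} (h : a.1.m = M3.one) (h1 : a ≠ 1) :
    Subgroup.centralizer ({π a} : Set G) ≤ π.range := by
  intro y hy
  obtain ⟨c, rfl⟩ := Af.exists_conj_z h h1
  have hy' := Subgroup.mem_centralizer_singleton_iff.1 hy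
  rw [map_mul, map_mul, map_inv] at hy'
  have := E.mem_range_of_trans (g := y * π c) (a := c * Af.z * c⁻¹) (by
    rw [map_mul, map_mul, map_inv]
    calc y * π c * π Af.z * (y * π c)⁻¹ = y * (π c * π Af.z * (π c)⁻¹) * y⁻¹ := by group
      _ = _ := by rw [hy', mul_inv_cancel_right]) h
  simpa using mul_mem this (inv_mem (show π c ∈ π.range from ⟨_, rfl⟩))

end ParSetting

end Cfsg.Agent.PSLFourThree
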