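import Cfsg.Agent.Lib.PSLFourThree.Local
import Cfsg.Agent.Lib.AltNineThree.Main

/-!
# The model `3^3:S4` inside the centralizer of an element of rank two

* `tm`, `monM`: the space as trace-zero matrices and the monomial group as `PGL(2,3)`
* `sym`: the homomorphism of the model into `PSL(4,3)`
* `three_out`: in `A9` the elements of order three outside the space are of weight three
-/

set_option autoImplicit false

namespace Cfsg.Agent.PSLFourThree

open Matrix Equiv
open Cfsg.Agent.ThreeCubedSymFour (V3 Mon Q actV el toPerm)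
open Cfsg.Agent.AltNineThree (toPermA cAx)

/-- Trace-zero matrices in the orthogonal basis. -/
def tm (v : V3) : M2 :=
  v.1 • !![0, -1; 1, 0] + v.2.1 • !![1, 1; 1, -1] + v.2.2 • !![1, -1; -1, -1]

/-- Representatives in `GL(2,3)` of the monomial group. -/
def monM (m : Mon) : M2 :=
  match m.r.val, m.w, m.s, m.t with
  | 0, false, false, false => !![1, 0; 0, 1]
  | 0, false, false, true => !![0, 1; 2, 0]
  | 0, false, true, false => !![1, 1; 1, 2]
  | 0, false, true, true => !![1, 2; 2, 2]
  | 0, true, false, false => !![1, 2; 1, 1]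
  | 0, true, false, true => !![1, 1; 2, 1]
  | 0, true, true, false => !![1, 0; 0, 2]
  | 0, true, true, true => !![0, 1; 1, 0]
  | 1, false, false, false => !![1, 2; 1, 0]
  | 1, false, false, true => !![1, 0; 2, 1]
  | 1, false, true, false => !![1, 1; 0, 1]
  | 1, false, true, true => !![0, 1; 2, 2]
  | 1, true, false, false => !![1, 0; 2, 2]
  | 1, true, false, true => !![1, 1; 1, 0]
  | 1, true, true, false => !![0, 1; 1, 2]
  | 1, true, true, true => !![1, 2; 0, 2]
  | _, false, false, false => !![0, 1; 2, 1]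
  | _, false, false, true => !![1, 2; 0, 1]
  | _, false, true, false => !![1, 1; 2, 0]
  | _, false, true, true => !![1, 0; 1, 1]
  | _, true, false, false => !![0, 1; 1, 1]
  | _, true, false, true => !![1, 1; 0, 2]
  | _, true, true, false => !![1, 2; 2, 0]
  | _, true, true, true => !![1, 0; 1, 2]

theorem monM_det : ∀ m : Mon, (monM m).det * (monM m).det = 1 := by decide +kernel

theorem monM_mul : ∀ g h : Mon,
    monM (g * h) = monM g * monM h ∨ monM (g * h) = -(monM g * monM h) := by decide +kernel

theorem monM_one : monM 1 = 1 := by decide +kernel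

theorem monM_act : ∀ g : Mon, ∀ v : V3, monM g * tm v = tm (actV g v) * monM g := by decide +kernel

theorem monM_kernel : ∀ g : Mon, (monM g = 1 ∨ monM g = -1) → g = 1 := by decide +kernel

theorem monM_cover : ∀ A : M2, A.det ≠ 0 → ∃ g : Mon, A = monM g ∨ A = -monM g := by decide +kernel

theorem tm_add (v w : V3) : tm (v + w) = tm v + tm w := by
  simp only [tm, Prod.fst_add, Prod.snd_add, add_smul]
  abel

theorem tm_kernel : ∀ v : V3, tm v = 0 → v = 0 := by decide +kernel

theorem tm_cover : ∀ X : M2, ∃ v : V3, ∃ c : ZMod 3, X = c • 1 + tm v := by decide +kernel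

theorem tm_cAx : (tm (1, 1, 1)).det = 0 ∧ tm (1, 1, 1) ≠ 0 := by decide +kernel

/-- The plane of the model in the middle radical. -/
def symPlane : Multiplicative V3 →* L4 where
  toFun v := jE (tm v.toAdd)
  map_one' := by
    show jE (tm 0) = 1
    rw [show tm 0 = 0 by decide +kernel]
    exact map_one jHom
  map_mul' v w := by rw [toAdd_mul, tm_add, jE_add]

/-- The monomial group in the Levi factor. -/
def symMon : Mon →* L4 where
  toFun g := lev (monM g) (monM g) (monM_det g)
  map_one' := by
    rw [lev, ← map_one pr]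
    refine congrArg pr (Subtype.ext ?_)
    show blk (monM 1) 0 (monM 1) = 1
    rw [monM_one, blk_one]
  map_mul' g h := by
    rw [lev, lev, lev, ← map_mul, pr_eq_iff]
    show blk (monM g) 0 (monM g) * blk (monM h) 0 (monM h) = blk (monM (g * h)) 0 (monM (g * h)) ∨
      blk (monM g) 0 (monM g) * blk (monM h) 0 (monM h) = -blk (monM (g * h)) 0 (monM (g * h))
    rw [blk_mul, mul_zero, zero_mul, add_zero]
    rcases monM_mul g h with e | e <;> rw [e]
    · exact Or.inl rfl
    · refine Or.inr ?_
      rw [blk_neg, neg_neg, neg_zero]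

/-- The model inside `PSL(4,3)`. -/
def sym : Q →* L4 :=
  SemidirectProduct.lift symPlane symMon fun g => MonoidHom.ext fun v =>
    (lev_conj (monM_det g) (monM_act g v.toAdd)).symm

theorem sym_apply (q : Q) : sym q = jE (tm q.left.toAdd) * lev (monM q.right) (monM q.right) (monM_det _) :=
  rfl

theorem sym_plane {q : Q} (h : q.right = 1) : sym q = jE (tm q.left.toAdd) := by
  show symPlane q.left * symMon q.right = _
  rw [h, map_one, mul_one]
  rfl

theorem sym_injective : Function.Injective sym := by
  rw [injective_iff_map_eq_one]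
  intro q hq
  rw [sym_apply, show jE (tm q.left.toAdd) = pr (jS (tm q.left.toAdd)) from rfl, lev, ← map_mul,
    ← map_one pr] at hq
  have key : blk (monM q.right) (tm q.left.toAdd * monM q.right) (monM q.right) = blk 1 0 1 ∨
      blk (monM q.right) (tm q.left.toAdd * monM q.right) (monM q.right) = blk (-1) 0 (-1) := by
    have e0 : (jS (tm q.left.toAdd) * levS (monM q.right) (monM q.right) (monM_det _) : S4).1 =
        blk (monM q.right) (tm q.left.toAdd * monM q.right) (monM q.right) := by
      show blk 1 _ 1 * blk _ 0 _ = _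
      rw [blk_mul]; simp
    rcases pr_eq_iff.1 hq.symm with e | e
    · exact Or.inl (by rw [← e0, e, Matrix.SpecialLinearGroup.coe_one, blk_one])
    · exact Or.inr (by rw [← e0, e, Matrix.SpecialLinearGroup.coe_one, ← blk_one, blk_neg, neg_zero])
  have hr : q.right = 1 := monM_kernel _ (key.imp (fun e => (blk_inj e).1) (fun e => (blk_inj e).1))
  have hl : tm q.left.toAdd = 0 := by
    rcases key with e | e <;> simpa [hr, monM_one] using (blk_inj e).2.1
  refine SemidirectProduct.ext ?_ hr
  exact Multiplicative.toAdd.injective (tm_kernel _ hl)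

/-- An element of order three outside the space. -/
def outQ : Q := el 0 0 0 1 false true false

theorem sym_outQ : ∃ c : L4, c * jE (jRep (-1)) * c⁻¹ = sym outQ := by
  let c₀ : S4 := ⟨!![1, 0, 0, 0; 0, 0, 1, 0; 0, -1, 0, 0; 0, 0, 0, 1], by decide +kernel⟩
  refine ⟨pr c₀, ?_⟩
  rw [mul_inv_eq_iff_eq_mul, sym_apply,
    show jE (tm outQ.left.toAdd) = pr (jS (tm outQ.left.toAdd)) from rfl,
    show jE (jRep (-1)) = pr (jS (jRep (-1))) from rfl, lev, ← map_mul, ← map_mul, ← map_mul, pr_eq_iff]
  decide +kernel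

theorem cycleType_three_nine {p : Perm (Fin 9)} (h3 : p * p * p = 1) (hfix : ∀ i, p i ≠ i) :
    p.cycleType = Multiset.replicate 3 3 := by
  have h1 : p ≠ 1 := fun h => hfix 0 (by rw [h]; rfl)
  have hord : orderOf p = 3 := by
    refine orderOf_eq_prime ?_ h1
    rw [pow_succ, pow_two, h3]
  obtain ⟨n, hn⟩ := Perm.cycleType_prime_order (σ := p) (hord ▸ Nat.prime_three)
  rw [hord] at hn
  have hs : p.support = Finset.univ := Finset.eq_univ_of_forall fun i => Perm.mem_support.2 (hfix i)
  have hsum := Perm.sum_cycleType p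
  rw [hn, Multiset.sum_replicate, hs, Finset.card_univ, Fintype.card_fin, smul_eq_mul] at hsum
  rw [hn, show n + 1 = 3 by omega]

theorem out_facts : ∀ v : V3,
    (outQ * el v.1 v.2.1 v.2.2 0 false false false) * (outQ * el v.1 v.2.1 v.2.2 0 false false false) *
      (outQ * el v.1 v.2.1 v.2.2 0 false false false) = 1 →
    ∀ i : Fin 9, toPerm (outQ * el v.1 v.2.1 v.2.2 0 false false false) i ≠ i := by
  decide +kernel

theorem cAx_facts : (∀ i : Fin 9, toPerm cAx i ≠ i) ∧ cAx * cAx * cAx = 1 ∧
    swap (0 : Fin 9) 3 * swap 1 4 * swap 2 5 * toPerm cAx =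
      toPerm cAx * (swap (0 : Fin 9) 3 * swap 1 4 * swap 2 5) ∧
    Perm.sign (swap (0 : Fin 9) 3 * swap 1 4 * swap 2 5) = -1 := by
  decide +kernel

/-- In `A9` an element of order three of the model outside the space is conjugate to `cAx`. -/
theorem three_out {v : Q} (hv : v.right = 1) (h3 : outQ * v * (outQ * v) * (outQ * v) = 1) :
    ∃ σ : alternatingGroup (Fin 9), σ * toPermA cAx * σ⁻¹ = toPermA (outQ * v) := by
  have e : v = el v.left.toAdd.1 v.left.toAdd.2.1 v.left.toAdd.2.2 0 false false false :=
    SemidirectProduct.ext rfl hv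
  have hfix : ∀ i, toPerm (outQ * v) i ≠ i := by
    rw [e] at h3 ⊢
    exact out_facts v.left.toAdd h3
  obtain ⟨hf, hc3, hcomm, hsign⟩ := cAx_facts
  have ht : (toPerm cAx).cycleType = (toPerm (outQ * v)).cycleType := by
    rw [cycleType_three_nine (by rw [← map_mul, ← map_mul, hc3, map_one]) hf,
      cycleType_three_nine (by rw [← map_mul, ← map_mul, h3, map_one]) hfix]
  obtain ⟨σ, hσ⟩ := isConj_iff.1 (Perm.isConj_iff_cycleType_eq.2 ht)
  rcases Int.units_eq_one_or (Perm.sign σ) with hs | hs
  · exact ⟨⟨σ, Perm.mem_alternatingGroup.2 hs⟩, Subtype.ext hσ⟩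
  · set τ := swap (0 : Fin 9) 3 * swap 1 4 * swap 2 5
    refine ⟨⟨σ * τ, Perm.mem_alternatingGroup.2 (by rw [map_mul, hs, hsign]; decide)⟩, Subtype.ext ?_⟩
    show σ * τ * toPerm cAx * (σ * τ)⁻¹ = toPerm (outQ * v)
    rw [mul_assoc σ τ, hcomm, _root_.mul_inv_rev, ← mul_assoc, ← mul_assoc σ, mul_inv_cancel_right]
    exact hσ

end Cfsg.Agent.PSLFourThree
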