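import Cfsg.Agent.Lib.PSLFourThree.RankTwoShape
import Cfsg.Agent.Lib.PSLFourThree.SymModel
import Cfsg.Agent.S3347

/-!
# The centralizer of an element of rank two lies in the embedded `PSL(4,3)`

* `Emb.sylow_cj`: a Sylow subgroup of the centralizer
* `Emb.setting`: the complement of the element satisfies the hypotheses of the `A9` characterisation
* `Emb.cent_jOne`: the centralizer lies in the image
-/

set_option autoImplicit false

namespace Cfsg.Agent.PSLFourThree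

open Cfsg Matrix
open Cfsg.Agent.ThreeCubedSymFour (V3 Mon Q el)
open Cfsg.Agent.AltNineThree (toPermA cAx aAx)

universe u

variable {G : Type u} [Group G] {φ : L4 →* G}

theorem two_invol : ∀ q : Q, ∃ a : Q, a * a = 1 ∧ a * q * (a * q) = 1 := by decide +kernel

theorem smul_one_eq_nsmul : ∀ c : ZMod 3, (c • (1 : M2)) = c.val • (1 : M2) := by decide +kernel

theorem jE_smul_one (c : ZMod 3) : jE (c • (1 : M2)) = jOne ^ c.val := by
  show jHom (Multiplicative.ofAdd (c • (1 : M2))) = _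
  rw [smul_one_eq_nsmul, ofAdd_nsmul, map_pow]

theorem neg_one_ne : (-1 : ZMod 3) ≠ 0 := by decide

/-- The centralizer of the image of `jOne`. -/
abbrev Hj (φ : L4 →* G) : Subgroup G := Subgroup.centralizer ({φ jOne} : Set G)

theorem map_mem_Hj {g : L4} (hg : g ∈ CjL) : φ g ∈ Hj φ :=
  Subgroup.mem_centralizer_singleton_iff.2 (by
    rw [← map_mul, ← map_mul, Subgroup.mem_centralizer_singleton_iff.1 hg])

theorem mem_CjL_of_map (E : Emb φ) {g : L4} (hg : φ g ∈ Hj φ) : g ∈ CjL :=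
  Subgroup.mem_centralizer_singleton_iff.2 (E.inj (by
    rw [map_mul, map_mul, Subgroup.mem_centralizer_singleton_iff.1 hg]))

variable [Finite G]

/-- `SylJ` maps onto a Sylow subgroup of the centralizer. -/
theorem Emb.sylow_cj (E : Emb φ) :
    ∃ P : Sylow 3 (Hj φ), ∀ x : Hj φ, x ∈ (P : Subgroup (Hj φ)) ↔ (x : G) ∈ SylJ.map φ := by
  have : Fact (Nat.Prime 3) := ⟨Nat.prime_three⟩
  set S₀ := (SylJ.map φ).subgroupOf (Hj φ)
  have hS₀ : IsPGroup 3 S₀ := fun x => ⟨2, by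
    obtain ⟨s, hs, e⟩ := x.2
    refine Subtype.ext (Subtype.ext ?_)
    show ((x : Hj φ) : G) ^ 9 = 1
    rw [show ((x : Hj φ) : G) = φ s from e.symm, ← map_pow, SylJ_pow hs, map_one]⟩
  obtain ⟨P, hP⟩ := hS₀.exists_le_sylow
  refine ⟨P, fun x => ⟨fun hx => ?_, fun hx => hP hx⟩⟩
  by_contra hne
  have := P.isPGroup'.isNilpotent
  have hlt := Group.normalizerCondition_of_isNilpotent (S₀.subgroupOf (P : Subgroup (Hj φ))) (by
    rw [lt_top_iff_ne_top, Ne, Subgroup.subgroupOf_eq_top]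
    exact fun h => hne (h hx))
  obtain ⟨n, hn, hnS⟩ := SetLike.exists_of_lt hlt
  have hmem : ∀ y ∈ SylJ, ((n : Hj φ) : G) * φ y * ((n : Hj φ) : G)⁻¹ ∈ SylJ.map φ := by
    intro y hy
    set y' : Hj φ := ⟨φ y, map_mem_Hj (SylJ_le hy)⟩
    have hy' : y' ∈ S₀ := ⟨y, hy, rfl⟩
    exact (Subgroup.mem_normalizer_iff.1 hn ⟨y', hP hy'⟩).1 hy'
  set K := (Jsub.map ((MulAut.conj ((n : Hj φ) : G)).toMonoidHom.comp φ)).comap φ with hK
  have hKmap : K.map φ = Jsub.map ((MulAut.conj ((n : Hj φ) : G)).toMonoidHom.comp φ) := by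
    refine Subgroup.map_comap_eq_self ?_
    rintro _ ⟨j, hj, rfl⟩
    obtain ⟨s, -, hs⟩ := hmem j (by
      obtain ⟨X, rfl⟩ := mem_Jsub.1 hj
      exact jE_mem_SylJ X)
    exact ⟨s, hs⟩
  have hKle : K ≤ SylJ := by
    rintro g ⟨j, hj, e⟩
    obtain ⟨X, rfl⟩ := mem_Jsub.1 hj
    obtain ⟨s, hs, e'⟩ := hmem _ (jE_mem_SylJ X)
    exact E.inj (e'.trans e) ▸ hs
  have hKc : Nat.card K = 81 := by
    rw [← Subgroup.card_map_of_injective E.inj, hKmap,
      Subgroup.card_map_of_injective ((MulAut.conj _).injective.comp E.inj), card_Jsub]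
  have hKab : ∀ a ∈ K, ∀ b ∈ K, a * b = b * a := by
    rintro a ⟨i, hi, ei⟩ b ⟨j, hj, ej⟩
    refine E.inj ?_
    rw [map_mul, map_mul, ← ei, ← ej, ← map_mul, ← map_mul, Jsub_comm hi hj]
  have hKJ : K = Jsub := Subgroup.eq_of_le_of_card_ge (SylJ.abelian_unique hKle hKc hKab)
    (by rw [hKc, card_Jsub])
  obtain ⟨m, hm⟩ := E.normalizer_J (g := ((n : Hj φ) : G)) fun v hv => by
    obtain ⟨j, hj, rfl⟩ := hv
    rw [← hKJ, hKmap]
    exact ⟨j, hj, rfl⟩
  obtain ⟨i, hi⟩ := P.isPGroup' n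
  have hmi : m ^ 3 ^ i = 1 := E.inj (by
    rw [map_pow, hm, map_one]
    exact congrArg (fun y : (P : Subgroup (Hj φ)) => ((y : Hj φ) : G)) hi)
  refine hnS (Subgroup.mem_subgroupOf.2 ⟨m, SylJ.maximal (mem_CjL_of_map E ?_) hmi ?_, hm⟩)
  · rw [hm]; exact (n : Hj φ).2
  · obtain ⟨s, hs, es⟩ := hmem _ uJ_mem
    have : m * uJ * m⁻¹ = s := E.inj (by rw [map_mul, map_mul, map_inv, hm, es])
    exact this ▸ hs

/-- The complement with the data used below. -/
theorem Emb.exists_complement (E : Emb φ) :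
    ∃ L : Subgroup (Hj φ), L.Normal ∧ (∀ k : ℕ, (⟨φ jOne, map_mem_Hj (jE_mem_CjL 1)⟩ : Hj φ) ^ k ∈ L → 3 ∣ k) ∧
      (∀ a b : Hj φ, a * b * a⁻¹ * b⁻¹ ∈ L) ∧
      ∀ m : Hj φ, ∃ k : ℕ, (⟨φ jOne, map_mem_Hj (jE_mem_CjL 1)⟩ : Hj φ) ^ k * m ∈ L := by
  have : Fact (Nat.Prime 3) := ⟨Nat.prime_three⟩
  obtain ⟨P, hP⟩ := E.sylow_cj
  set z : Hj φ := ⟨φ jOne, map_mem_Hj (jE_mem_CjL 1)⟩
  have hz : z ∈ Subgroup.center (Hj φ) := Subgroup.mem_center_iff.2 fun g =>
    Subtype.ext (Subgroup.mem_centralizer_singleton_iff.1 g.2)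
  have hzP : z ∈ (P : Subgroup (Hj φ)) := (hP z).2 ⟨jOne, jE_mem_SylJ 1, rfl⟩
  have hr : ∀ p : (P : Subgroup (Hj φ)), ((p : Hj φ) : G) ∈ φ.range := fun p =>
    Subgroup.map_le_range _ _ ((hP p).1 p.2)
  let f : (P : Subgroup (Hj φ)) →* L4 :=
    (MonoidHom.ofInjective E.inj).symm.toMonoidHom.comp
      (((Hj φ).subtype.comp (P : Subgroup (Hj φ)).subtype).codRestrict φ.range hr)
  have hf : ∀ p, φ (f p) = ((p : Hj φ) : G) := fun p =>
    congrArg Subtype.val ((MonoidHom.ofInjective E.inj).apply_symm_apply _)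
  let χ : (P : Subgroup (Hj φ)) →* Multiplicative (ZMod 3) :=
    trHom.comp (f.codRestrict CjL fun p => mem_CjL_of_map E (by rw [hf]; exact p.1.2))
  obtain ⟨L, hLn, hzL, hcomm, hgen⟩ := AltNineThree.exists_complement P hz hzP χ (by
    have e : f ⟨z, hzP⟩ = jOne := E.inj (hf _)
    show trHom ⟨f ⟨z, hzP⟩, _⟩ ≠ 1
    simp only [e]
    exact trHom_jOne)
  refine ⟨L, hLn, fun k hk => ?_, hcomm, hgen⟩
  by_contra h3
  refine hzL ?_
  have hz3 : z ^ 3 = 1 := Subtype.ext (by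
    show φ jOne ^ 3 = 1
    rw [← map_pow, Jsub_pow_three (jE_mem 1), map_one])
  have e : z ^ k = z ^ (k % 3) := pow_eq_pow_mod k hz3
  rw [e] at hk
  have : k % 3 = 1 ∨ k % 3 = 2 := by omega
  rcases this with h | h <;> rw [h] at hk
  · rwa [pow_one] at hk
  · have := L.mul_mem hk hk
    rwa [← pow_add, pow_eq_pow_mod _ hz3, show (2 + 2) % 3 = 1 from rfl, pow_one] at this

theorem sym_mem_CjL (q : Q) : sym q ∈ CjL := by
  rw [sym_apply]
  refine mul_mem (jE_mem_CjL _) (Subgroup.mem_centralizer_singleton_iff.2 ?_)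
  exact lev_comm (monM_det _) (by rw [mul_one, one_mul])

/-- The centralizer of `jOne` lies in the image. -/
theorem Emb.cent_jOne (E : Emb φ) : Hj φ ≤ φ.range := by
  have : Fact (Nat.Prime 3) := ⟨Nat.prime_three⟩
  obtain ⟨L, hLn, hzL, hcomm, hgen⟩ := E.exists_complement
  set z : Hj φ := ⟨φ jOne, map_mem_Hj (jE_mem_CjL 1)⟩
  let hQ : Q →* Hj φ := (φ.comp sym).codRestrict (Hj φ) fun q => map_mem_Hj (sym_mem_CjL q)
  have hinv : ∀ a : Q, a * a = 1 → hQ a ∈ L := by
    intro a ha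
    obtain ⟨k, hk⟩ := hgen (hQ a)
    have hc : z ^ k * hQ a * (z ^ k * hQ a) = z ^ (2 * k) := by
      have hzc : Commute (hQ a) (z ^ k) := (show Commute (hQ a) z from Subtype.ext
        (Subgroup.mem_centralizer_singleton_iff.1 (hQ a).2)).pow_right k
      rw [mul_assoc, ← mul_assoc (hQ a), hzc.eq, mul_assoc (z ^ k) (hQ a), ← map_mul, ha, map_one,
        mul_one, ← pow_add, two_mul]
    have h2 := hzL (2 * k) (hc ▸ L.mul_mem hk hk)
    have h3 : 3 ∣ k := (Nat.Coprime.dvd_of_dvd_mul_left (by norm_num) h2)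
    obtain ⟨c, rfl⟩ := h3
    have : z ^ (3 * c) = 1 := by
      rw [pow_mul, show z ^ 3 = 1 from Subtype.ext (by
        show φ jOne ^ 3 = 1
        rw [← map_pow, Jsub_pow_three (jE_mem 1), map_one]), one_pow]
    rwa [this, one_mul] at hk
  have hQL : ∀ q : Q, hQ q ∈ L := fun q => by
    obtain ⟨a, ha, hb⟩ := two_invol q
    have h := L.mul_mem (hinv a ha) (hinv _ hb)
    rwa [← map_mul, ← mul_assoc, ha, one_mul] at h
  let π : Q →* L := hQ.codRestrict L hQL
  have hval : ∀ q, ((π q : Hj φ) : G) = φ (sym q) := fun q => rfl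
  have hπinj : Function.Injective π := fun a b h =>
    sym_injective (E.inj (congrArg (fun y : L => ((y : Hj φ) : G)) h))
  have hJdec : ∀ X : M2, ∃ (k : ℕ) (v : Q), v.right = 1 ∧ jE X = jOne ^ k * sym v := by
    intro X
    obtain ⟨v, c, hX⟩ := tm_cover X
    refine ⟨c.val, el v.1 v.2.1 v.2.2 0 false false false, rfl, ?_⟩
    rw [sym_plane rfl, hX, jE_add, jE_smul_one]
    rfl
  have hnorm : ∀ g : L, (∀ v : Q, v.right = 1 → ∃ w : Q, w.right = 1 ∧ π w = g * π v * g⁻¹) →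
      g ∈ π.range := by
    intro g hg
    set g' : G := ((g : Hj φ) : G)
    have hgz : Commute g' (φ jOne) := Subgroup.mem_centralizer_singleton_iff.1 (g : Hj φ).2
    obtain ⟨m, hm⟩ := E.normalizer_J (g := g') fun v hv => by
      obtain ⟨j, hj, rfl⟩ := hv
      obtain ⟨X, rfl⟩ := mem_Jsub.1 hj
      obtain ⟨k, v, hv, hX⟩ := hJdec X
      obtain ⟨w, hw, ew⟩ := hg v hv
      have ew' : φ (sym w) = g' * φ (sym v) * g'⁻¹ := congrArg (fun y : L => ((y : Hj φ) : G)) ew
      refine ⟨jOne ^ k * sym w, ?_, ?_⟩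
      · rw [sym_plane hw]
        exact Jsub.mul_mem (Jsub.pow_mem (jE_mem _) k) (jE_mem _)
      · rw [hX, map_mul, map_mul, map_pow, ew', ← mul_assoc, ← mul_assoc, ← mul_assoc,
          (hgz.pow_right k).eq]
    have hmC : m ∈ CjL := mem_CjL_of_map E (by rw [hm]; exact (g : Hj φ).2)
    obtain ⟨a, A, X, ha, hA, hAd⟩ := cj_lift hmC
    obtain ⟨r, hr⟩ := monM_cover A (fun h => by rw [h] at hAd; simp at hAd)
    have hm' : ∃ Y, m = jE Y * lev (monM r) (monM r) (monM_det r) := by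
      have hunit : A * (A.det • A.adjugate) = 1 := by
        rw [Matrix.mul_smul, Matrix.mul_adjugate, smul_smul, hAd, one_smul]
      refine ⟨X * (A.det • A.adjugate), ?_⟩
      show m = pr (jS (X * (A.det • A.adjugate))) * pr (levS _ _ _)
      rw [← ha, ← map_mul, pr_eq_iff, Matrix.SpecialLinearGroup.coe_mul, hA]
      show blk 1 _ 1 * blk _ 0 _ = blk A X A ∨ blk 1 _ 1 * blk _ 0 _ = -blk A X A
      rw [blk_mul, one_mul, one_mul, zero_add]
      rcases hr with e | e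
      · left
        rw [← e, mul_assoc, mul_eq_one_comm.1 hunit, mul_one]
      · right
        rw [show monM r = -A by rw [e, neg_neg], blk_neg, mul_neg, mul_assoc,
          mul_eq_one_comm.1 hunit, mul_one]
    obtain ⟨Y, hY⟩ := hm'
    obtain ⟨k, v, hv, hYd⟩ := hJdec Y
    have hsym : m = jOne ^ k * sym (v * SemidirectProduct.inr r) := by
      rw [hY, hYd, map_mul, mul_assoc]
      congr 2
      show _ = symPlane 1 * symMon r
      rw [map_one, one_mul]
      rfl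
    have hg' : (g : Hj φ) = z ^ k * hQ (v * SemidirectProduct.inr r) := Subtype.ext (by
      show g' = φ jOne ^ k * φ (sym _)
      rw [← map_pow, ← map_mul, ← hsym, hm])
    obtain ⟨c, hc⟩ := hzL k (by
      have := L.mul_mem g.2 (L.inv_mem (hQL (v * SemidirectProduct.inr r)))
      rwa [hg', mul_inv_cancel_right] at this)
    refine ⟨v * SemidirectProduct.inr r, Subtype.ext ?_⟩
    show hQ _ = (g : Hj φ)
    rw [hg', hc, pow_mul, show z ^ 3 = 1 from Subtype.ext (by
        show φ jOne ^ 3 = 1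
        rw [← map_pow, Jsub_pow_three (jE_mem 1), map_one]), one_pow, one_mul]
  have hcore : ∀ x : Q, x.right = 1 → x ≠ 1 →
      Cfsg.pPrimeCore 3 (Subgroup.centralizer ({π x} : Set L)) = ⊥ := by
    intro x hx _
    set C := Subgroup.centralizer ({π x} : Set L)
    set W := Cfsg.pPrimeCore 3 C
    have hWn : W.Normal := inferInstance
    let ι : C →* G := ((Hj φ).subtype.comp L.subtype).comp C.subtype
    have hιinj : Function.Injective ι := fun a b h => Subtype.ext (Subtype.ext (Subtype.ext h))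
    have hbot : W.map ι = ⊥ := by
      refine E.signalizer ?_ ?_
      · rintro _ ⟨j, hj, rfl⟩
        obtain ⟨X, rfl⟩ := mem_Jsub.1 hj
        obtain ⟨k, v, hv, hX⟩ := hJdec X
        have hvC : π v ∈ C := Subgroup.mem_centralizer_singleton_iff.2 (by
          rw [← map_mul, ← map_mul, ThreeCubedSymFour.comm_of_right v x hv hx])
        refine Coprime.mem_normalizer_of_forall ?_
        rintro _ ⟨w, hw, rfl⟩
        refine ⟨⟨π v, hvC⟩ * w * ⟨π v, hvC⟩⁻¹, hWn.conj_mem w hw _, ?_⟩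
        show φ (sym v) * ((((w : L) : Hj φ)) : G) * (φ (sym v))⁻¹ =
          φ (jE X) * ((((w : L) : Hj φ)) : G) * (φ (jE X))⁻¹
        set w' : G := ((((w : L) : Hj φ)) : G)
        have hw' : Commute w' (φ jOne) :=
          Subgroup.mem_centralizer_singleton_iff.1 ((w : L) : Hj φ).2
        have hv' : Commute (φ (sym v)) (φ jOne) :=
          Subgroup.mem_centralizer_singleton_iff.1 (map_mem_Hj (sym_mem_CjL v))
        have hc := (hv'.mul_left hw').mul_left hv'.inv_left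
        rw [hX, map_mul, map_pow]
        calc φ (sym v) * w' * (φ (sym v))⁻¹
            = φ jOne ^ k * (φ (sym v) * w' * (φ (sym v))⁻¹) * (φ jOne ^ k)⁻¹ := by
              rw [← (hc.pow_right k).eq, mul_inv_cancel_right]
          _ = _ := by group
      · rw [Subgroup.card_map_of_injective hιinj]
        exact Cores.coprime_card_pPrimeCore 3
    exact (Subgroup.map_eq_bot_iff_of_injective _ hιinj).1 hbot
  have S : AltNineThree.Setting π := ⟨hπinj, hnorm, hcore⟩
  have hST : AltNineThree.SmithTyrer.{u} := fun K _ _ P h1 h2 h3 =>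
    haveI : Fact (Nat.Prime 3) := ⟨Nat.prime_three⟩
    S3347.result 3 (by norm_num) P h1 h2 h3
  have hb := S.centralizer_b hST
  have htop : π.range = ⊤ := by
    rcases S.centralizer_a hST with ha | ⟨M, F, ⟨e⟩⟩
    · exact S.range_eq_top ha hb
    exfalso
    obtain ⟨ι, hι⟩ := S.exists_sextet F e
    obtain ⟨φ', hinj', -, hplane⟩ := (AltNineThree.Frame.mk S hι hb).exists_hom
    set π' := φ'.comp toPermA
    obtain ⟨v, hv, ev⟩ := S.mem_plane_of_cent (g := (π' outQ)⁻¹ * π outQ) fun v hv => by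
      have e : π outQ * π v * (π outQ)⁻¹ = π' outQ * π v * (π' outQ)⁻¹ := by
        rw [← map_inv, ← map_mul, ← map_mul,
          ← hplane (outQ * v * outQ⁻¹) (by simp [hv]), ← hplane v hv]
        show π' (outQ * v * outQ⁻¹) = _
        rw [map_mul, map_mul, map_inv]
        rfl
      calc (π' outQ)⁻¹ * π outQ * π v = (π' outQ)⁻¹ * (π outQ * π v * (π outQ)⁻¹) * π outQ := by group
        _ = _ := by rw [e]; group
    have hout : π outQ = π' (outQ * v) := by
      rw [map_mul, show π' v = π v from hplane v hv, ev, mul_inv_cancel_left]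
    have h3 : outQ * v * (outQ * v) * (outQ * v) = 1 := by
      have hπ' : Function.Injective π' :=
        hinj'.comp fun a b h => ThreeCubedSymFour.toPerm_injective (congrArg Subtype.val h)
      refine hπ' ?_
      rw [map_mul, map_mul, map_one, ← hout, ← map_mul, ← map_mul,
        show outQ * outQ * outQ = 1 by decide +kernel, map_one]
    obtain ⟨σ, hσ⟩ := three_out hv h3
    have hconj : φ' σ * π cAx * (φ' σ)⁻¹ = π outQ := by
      rw [hout, ← hplane cAx rfl, ← map_inv, ← map_mul, ← map_mul, hσ]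
      rfl
    have hG : (((φ' σ : L) : Hj φ) : G) * φ (sym cAx) * (((φ' σ : L) : Hj φ) : G)⁻¹ = φ (sym outQ) :=
      congrArg (fun y : L => ((y : Hj φ) : G)) hconj
    obtain ⟨c, hc⟩ := sym_outQ
    rw [← hc, sym_plane (show (cAx : Q).right = 1 from rfl)] at hG
    rcases types (tm (cAx : Q).left.toAdd) tm_cAx.2 with ⟨-, A, B, hAB, em⟩ | ⟨h0, -⟩
    · rw [← em] at hG
      simp only [map_mul, map_inv] at hG
      set s := (((φ' σ : L) : Hj φ) : G)
      refine E.rep_not_conj neg_one_ne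
        ((φ c)⁻¹ * s * φ (lev A B hAB))⁻¹ ?_
      calc ((φ c)⁻¹ * s * φ (lev A B hAB))⁻¹ * φ (jE (jRep (-1))) * ((φ c)⁻¹ * s * φ (lev A B hAB))⁻¹⁻¹
          = (φ (lev A B hAB))⁻¹ * s⁻¹ * (φ c * φ (jE (jRep (-1))) * (φ c)⁻¹) * s * φ (lev A B hAB) := by
            group
        _ = φ zEl := by rw [← hG]; group
    · exact h0 tm_cAx.1
  intro g hg
  obtain ⟨k, hk⟩ := hgen ⟨g, hg⟩
  obtain ⟨q, hq⟩ : (⟨z ^ k * ⟨g, hg⟩, hk⟩ : L) ∈ π.range := htop ▸ Subgroup.mem_top _
  have e : φ (sym q) = φ jOne ^ k * g := congrArg (fun y : L => ((y : Hj φ) : G)) hq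
  exact ⟨(jOne ^ k)⁻¹ * sym q, by rw [map_mul, map_inv, map_pow, e, inv_mul_cancel_left]⟩

end Cfsg.Agent.PSLFourThree
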