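import Cfsg.Agent.Lib.PSLFourThree.Local

/-!
# The centralizer in `PSL(4,3)` of an element of rank two

* `cj_lift`: the shape of the lifts
* `trHom`: a homomorphism onto the group of order three
* `SylJ`, `SylJ.abelian_unique`, `SylJ.maximal`: a Sylow subgroup
-/

set_option autoImplicit false

namespace Cfsg.Agent.PSLFourThree

open Matrix

/-- The element of rank two. -/
abbrev jOne : L4 := jE 1

/-- Its centralizer. -/
abbrev CjL : Subgroup L4 := Subgroup.centralizer ({jOne} : Set L4)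

theorem cj_lift {g : L4} (hg : g ∈ CjL) :
    ∃ (a : S4) (A X : M2), pr a = g ∧ a.1 = blk A X A ∧ A.det * A.det = 1 := by
  obtain ⟨a, rfl⟩ := pr_surjective g
  have e := commute_lift (b := jS 1) (Subgroup.mem_centralizer_singleton_iff.1 hg) (by decide +kernel)
  have h00 := congrFun (congrFun e 0) 0
  have h01 := congrFun (congrFun e 0) 1
  have h10 := congrFun (congrFun e 1) 0
  have h11 := congrFun (congrFun e 1) 1
  have h02 := congrFun (congrFun e 0) 2
  have h03 := congrFun (congrFun e 0) 3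
  have h12 := congrFun (congrFun e 1) 2
  have h13 := congrFun (congrFun e 1) 3
  simp [jS, blk, Matrix.mul_apply, Fin.sum_univ_four] at h00 h01 h10 h11 h02 h03 h12 h13
  rw [add_comm (a.1 0 2)] at h02
  rw [add_comm (a.1 0 3)] at h03
  rw [add_comm (a.1 1 2)] at h12
  rw [add_comm (a.1 1 3)] at h13
  have d02 := add_right_cancel h02
  have d03 := add_right_cancel h03
  have d12 := add_right_cancel h12
  have d13 := add_right_cancel h13
  have hshape : a.1 = blk !![a.1 0 0, a.1 0 1; a.1 1 0, a.1 1 1]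
      !![a.1 0 2, a.1 0 3; a.1 1 2, a.1 1 3] !![a.1 0 0, a.1 0 1; a.1 1 0, a.1 1 1] := by
    ext i j
    fin_cases i <;> fin_cases j <;>
      simp [blk, h00, h01, h10, h11, d02, d03, d12, d13]
  refine ⟨a, _, _, rfl, hshape, ?_⟩
  have := a.2
  rw [hshape, blk_det] at this
  exact this

/-- The trace of the translation part. -/
def trVal (a : Matrix (Fin 4) (Fin 4) (ZMod 3)) : ZMod 3 :=
  (!![a 0 2, a 0 3; a 1 2, a 1 3] *
    ((!![a 0 0, a 0 1; a 1 0, a 1 1] : M2).det • (!![a 0 0, a 0 1; a 1 0, a 1 1] : M2).adjugate)).trace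

theorem trVal_blk (A X B : M2) : trVal (blk A X B) = (X * (A.det • A.adjugate)).trace := by
  have e : ∀ M : M2, !![M 0 0, M 0 1; M 1 0, M 1 1] = M := fun M => by
    ext i j; fin_cases i <;> fin_cases j <;> rfl
  show (!![X 0 0, X 0 1; X 1 0, X 1 1] *
    ((!![A 0 0, A 0 1; A 1 0, A 1 1] : M2).det • (!![A 0 0, A 0 1; A 1 0, A 1 1] : M2).adjugate)).trace = _
  rw [e, e]

theorem trVal_neg {a : Matrix (Fin 4) (Fin 4) (ZMod 3)} {A X : M2} (h : a = blk A X A) :
    trVal (-a) = trVal a := by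
  rw [h, blk_neg, trVal_blk, trVal_blk]
  have e : (-A).det = A.det := by simp [Matrix.det_fin_two]
  have e' : (-A).adjugate = -A.adjugate := by simp [Matrix.adjugate_fin_two]
  rw [e, e', smul_neg, neg_mul_neg]

/-- The value of `trHom`. -/
noncomputable def trFun (g : CjL) : ZMod 3 := trVal (cj_lift g.2).choose.1

theorem trFun_eq (g : CjL) {a : S4} (h : pr a = g.1) : trFun g = trVal a.1 := by
  obtain ⟨A, X, hc, hb, -⟩ := (cj_lift g.2).choose_spec
  rcases pr_eq_iff.1 (hc.trans h.symm) with e | e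
  · rw [trFun, e]
  · rw [trFun, e, trVal_neg hb]

/-- The trace character. -/
noncomputable def trHom : CjL →* Multiplicative (ZMod 3) where
  toFun g := Multiplicative.ofAdd (trFun g)
  map_one' := by
    show Multiplicative.ofAdd (trFun 1) = 1
    rw [trFun_eq 1 (a := 1) (map_one pr), show trVal (1 : S4).1 = 0 by decide +kernel]
    rfl
  map_mul' g k := by
    obtain ⟨a, A, X, ha, hA, hAd⟩ := cj_lift g.2
    obtain ⟨b, B, Z, hb, hB, hBd⟩ := cj_lift k.2
    show Multiplicative.ofAdd (trFun (g * k)) = _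
    rw [trFun_eq g ha, trFun_eq k hb, trFun_eq (g * k) (a := a * b) (by rw [map_mul, ha, hb]; rfl),
      Matrix.SpecialLinearGroup.coe_mul, hA, hB, blk_mul, trVal_blk, trVal_blk, trVal_blk, ← ofAdd_add,
      Matrix.det_mul, Matrix.adjugate_mul_distrib]
    congr 1
    have t1 : (A * Z * (B.adjugate * A.adjugate)).trace = A.det * (Z * B.adjugate).trace := by
      rw [← mul_assoc, Matrix.trace_mul_comm, ← mul_assoc, ← mul_assoc, Matrix.adjugate_mul, mul_assoc,
        Matrix.smul_mul, one_mul, Matrix.trace_smul, smul_eq_mul]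
    have t2 : (X * B * (B.adjugate * A.adjugate)).trace = B.det * (X * A.adjugate).trace := by
      rw [mul_assoc, ← mul_assoc B, Matrix.mul_adjugate, Matrix.smul_mul, one_mul, Matrix.mul_smul,
        Matrix.trace_smul, smul_eq_mul]
    rw [Matrix.mul_smul, Matrix.mul_smul, Matrix.mul_smul, Matrix.trace_smul, Matrix.trace_smul,
      Matrix.trace_smul, add_mul, Matrix.trace_add, t1, t2]
    simp only [smul_eq_mul]
    linear_combination (B.det * (Z * B.adjugate).trace) * hAd + (A.det * (X * A.adjugate).trace) * hBd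

theorem trHom_eq (g : CjL) {a : S4} (h : pr a = g.1) : trHom g = Multiplicative.ofAdd (trVal a.1) :=
  congrArg Multiplicative.ofAdd (trFun_eq g h)

theorem jE_mem_CjL (X : M2) : jE X ∈ CjL :=
  Subgroup.mem_centralizer_singleton_iff.2 (Jsub_comm (jE_mem _) (jE_mem _))

theorem trHom_jOne : trHom ⟨jOne, jE_mem_CjL 1⟩ ≠ 1 := by
  rw [trHom_eq ⟨jOne, jE_mem_CjL 1⟩ (a := jS 1) rfl]
  decide +kernel

/-- Upper unitriangular matrices. -/
def uP (k : ZMod 3) : M2 := !![1, k; 0, 1]

theorem uP_mul (k l : ZMod 3) : uP k * uP l = uP (k + l) := by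
  ext i j; fin_cases i <;> fin_cases j <;> simp [uP, add_comm]

theorem uP_det (k : ZMod 3) : (uP k).det = 1 := by simp [uP, Matrix.det_fin_two]

theorem uP_zero : uP 0 = 1 := by decide +kernel

/-- An element of the Sylow subgroup. -/
def syS (k : ZMod 3) (X : M2) : S4 := ⟨blk (uP k) X (uP k), by rw [blk_det, uP_det, one_mul]⟩

theorem syS_mul (k l : ZMod 3) (X Y : M2) :
    syS k X * syS l Y = syS (k + l) (uP k * Y + X * uP l) :=
  Subtype.ext (by
    show blk _ X _ * blk _ Y _ = blk _ _ _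
    rw [blk_mul, uP_mul])

/-- A Sylow subgroup of the centralizer. -/
def SylJ : Subgroup L4 where
  carrier := {g | ∃ k X, pr (syS k X) = g}
  mul_mem' := by
    rintro _ _ ⟨k, X, rfl⟩ ⟨l, Y, rfl⟩
    exact ⟨k + l, _, by rw [← map_mul, syS_mul]⟩
  one_mem' := ⟨0, 0, by
    rw [← map_one pr]
    refine congrArg pr (Subtype.ext ?_)
    show blk (uP 0) 0 (uP 0) = 1
    rw [uP_zero, blk_one]⟩
  inv_mem' := by
    rintro _ ⟨k, X, rfl⟩
    refine ⟨-k, -(uP (-k) * X * uP (-k)), ?_⟩
    rw [eq_inv_iff_mul_eq_one, ← map_mul, syS_mul, ← map_one pr]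
    refine congrArg pr (Subtype.ext ?_)
    show blk _ _ _ = 1
    rw [neg_add_cancel, neg_mul, mul_assoc (uP (-k) * X), uP_mul, neg_add_cancel, uP_zero, mul_one,
      add_neg_cancel, blk_one]

theorem jE_mem_SylJ (X : M2) : jE X ∈ SylJ := ⟨0, X, by
  refine congrArg pr (Subtype.ext ?_)
  show blk (uP 0) X (uP 0) = blk 1 X 1
  rw [uP_zero]⟩

/-- The generator outside the radical. -/
def uJ : L4 := pr (syS 1 0)

theorem uJ_mem : uJ ∈ SylJ := ⟨1, 0, rfl⟩

theorem SylJ_le : SylJ ≤ CjL := by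
  rintro _ ⟨k, X, rfl⟩
  refine Subgroup.mem_centralizer_singleton_iff.2 ?_
  show pr _ * pr (jS 1) = pr (jS 1) * pr _
  rw [← map_mul, ← map_mul]
  refine congrArg pr (Subtype.ext ?_)
  show blk _ X _ * blk 1 1 1 = blk 1 1 1 * blk _ X _
  rw [blk_mul, blk_mul]
  simp [add_comm]

theorem SylJ_pow {g : L4} (hg : g ∈ SylJ) : g ^ 9 = 1 := by
  obtain ⟨k, X, rfl⟩ := hg
  have key : ∀ k : ZMod 3, k + k + k = 0 := by decide
  obtain ⟨Y, hY⟩ : ∃ Y, syS k X * syS k X * syS k X = syS 0 Y :=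
    ⟨_, by rw [syS_mul, syS_mul, key]⟩
  have h3 : pr (syS k X) ^ 3 ∈ Jsub := by
    rw [pow_succ, pow_two, ← map_mul, ← map_mul, hY]
    refine ⟨Multiplicative.ofAdd Y, congrArg pr (Subtype.ext ?_)⟩
    show blk 1 Y 1 = blk (uP 0) Y (uP 0)
    rw [uP_zero]
  rw [show 9 = 3 * 3 from rfl, pow_mul]
  exact Jsub_pow_three h3

theorem SylJ_isPGroup : IsPGroup 3 SylJ := fun g => ⟨2, Subtype.ext (SylJ_pow g.2)⟩

theorem syS_inj {k l : ZMod 3} {X Y : M2} (h : pr (syS k X) = pr (syS l Y)) : k = l ∧ X = Y := by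
  rcases pr_eq_iff.1 h with e | e
  · have e' : blk (uP l) Y (uP l) = blk (uP k) X (uP k) := e
    obtain ⟨h1, h2, -⟩ := blk_inj e'
    exact ⟨(congrFun (congrFun h1 0) 1).symm, h2.symm⟩
  · have e' : blk (uP l) Y (uP l) = -blk (uP k) X (uP k) := e
    rw [blk_neg] at e'
    exact absurd (congrFun (congrFun (blk_inj e').1 0) 0) (by
      show ¬(1 : ZMod 3) = -1
      decide)

theorem comm_u_card : ∀ X : M2, uP 1 * X = X * uP 1 → ∃ a b : ZMod 3, X = a • 1 + b • !![0, 1; 0, 0] := by
  decide +kernel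

/-- The radical is the only abelian subgroup of index three. -/
theorem SylJ.abelian_unique {K : Subgroup L4} (hK : K ≤ SylJ) (hcard : Nat.card K = 81)
    (hab : ∀ x ∈ K, ∀ y ∈ K, x * y = y * x) : K ≤ Jsub := by
  intro y hy
  obtain ⟨k, X, rfl⟩ := hK hy
  by_contra hne
  have hk : k ≠ 0 := fun h => hne (by
    subst h
    refine ⟨Multiplicative.ofAdd X, congrArg pr (Subtype.ext ?_)⟩
    show blk 1 X 1 = blk (uP 0) X (uP 0)
    rw [uP_zero])
  have hmem : ∀ w : K, ∃ l Y, pr (syS l Y) = w.1 := fun w => hK w.2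
  choose l Y hlY using hmem
  have hkk : ∀ k : ZMod 3, k ≠ 0 → k * k = 1 := by decide
  have hc : ∀ w : K, uP k * Y w + X * uP (l w) = uP (l w) * X + Y w * uP k := fun w => by
    have e := hab _ hy _ w.2
    rw [← hlY w, ← map_mul, ← map_mul, syS_mul, syS_mul] at e
    exact (syS_inj e).2
  have hfib : ∀ w w' : K, l w = l w' → ∃ a b : ZMod 3, Y w - Y w' = a • 1 + b • !![0, 1; 0, 0] := by
    intro w w' he
    refine comm_u_card _ ?_
    have e1 := hc w
    have e2 := hc w'
    rw [← he] at e2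
    have e3 : uP k * (Y w - Y w') = (Y w - Y w') * uP k := by
      rw [mul_sub, sub_mul]
      linear_combination (norm := abel) e1 - e2
    have lin : ∀ k : ZMod 3, uP k = (1 - k) • 1 + k • uP 1 := by decide +kernel
    rw [lin k, add_mul, mul_add, Matrix.smul_mul, Matrix.smul_mul, Matrix.mul_smul, Matrix.mul_smul,
      one_mul, mul_one] at e3
    have e4 := congrArg (fun M : M2 => k • M) (add_left_cancel e3)
    simp only [smul_smul, hkk k hk, one_smul] at e4
    exact e4
  classical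
  let base : ZMod 3 → K := fun i => if h : ∃ w : K, l w = i then h.choose else ⟨_, K.one_mem⟩
  have hbase : ∀ w : K, l (base (l w)) = l w := fun w => by
    have h : ∃ v : K, l v = l w := ⟨w, rfl⟩
    simp only [base, dif_pos h]
    exact h.choose_spec
  choose ca cb hab' using fun w : K => hfib w (base (l w)) (hbase w).symm
  have hinj : Function.Injective (fun w : K => (l w, ca w, cb w)) := fun w w' h => by
    simp only [Prod.mk.injEq] at h
    have e1 := hab' w
    have e2 := hab' w'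
    rw [← h.1, ← h.2.1, ← h.2.2] at e2
    have : Y w = Y w' := sub_left_injective (e1.trans e2.symm)
    exact Subtype.ext (by rw [← hlY w, ← hlY w', h.1, this])
  have := Nat.card_le_card_of_injective _ hinj
  rw [hcard] at this
  simp at this

theorem unipotent_normaliser : ∀ A : M2, A.det ≠ 0 → (A * A * A = 1 ∨ A * A * A = -1) →
    (∃ k, A * uP 1 = uP k * A ∨ A * uP 1 = -(uP k * A)) → ∃ k, A = uP k ∨ A = -uP k := by
  decide +kernel

theorem pow_24 : ∀ A : M2, A.det ≠ 0 →
    let B := A * A * (A * A) * (A * A * (A * A)); B * B * B = 1 := by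
  decide +kernel

/-- An element of three-power order normalising the subgroup lies in it. -/
theorem SylJ.maximal {g : L4} (hg : g ∈ CjL) {i : ℕ} (hi : g ^ 3 ^ i = 1)
    (hn : g * uJ * g⁻¹ ∈ SylJ) : g ∈ SylJ := by
  obtain ⟨a, A, X, ha, hA, hAd⟩ := cj_lift hg
  have hA0 : A.det ≠ 0 := fun h => by rw [h] at hAd; simp at hAd
  obtain ⟨k, Y, hk⟩ := hn
  have hnorm : ∃ k, A * uP 1 = uP k * A ∨ A * uP 1 = -(uP k * A) := by
    refine ⟨k, ?_⟩
    rw [eq_mul_inv_iff_mul_eq, uJ, ← ha, ← map_mul, ← map_mul] at hk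
    rcases pr_eq_iff.1 hk with e | e
    · rw [Matrix.SpecialLinearGroup.coe_mul, Matrix.SpecialLinearGroup.coe_mul, hA] at e
      have e' : blk A X A * blk (uP 1) 0 (uP 1) = blk (uP k) Y (uP k) * blk A X A := e
      rw [blk_mul, blk_mul] at e'
      exact Or.inl (blk_inj e').1
    · rw [Matrix.SpecialLinearGroup.coe_mul, Matrix.SpecialLinearGroup.coe_mul, hA] at e
      have e' : blk A X A * blk (uP 1) 0 (uP 1) = -(blk (uP k) Y (uP k) * blk A X A) := e
      rw [blk_mul, blk_mul, blk_neg] at e'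
      exact Or.inr (blk_inj e').1
  have hpow : ∀ n : ℕ, ∃ Z, (a ^ n : S4).1 = blk (A ^ n) Z (A ^ n) := fun n => by
    induction n with
    | zero => exact ⟨0, by rw [pow_zero, pow_zero, Matrix.SpecialLinearGroup.coe_one, blk_one]⟩
    | succ n ih =>
      obtain ⟨Z, hZ⟩ := ih
      exact ⟨_, by rw [pow_succ, pow_succ, Matrix.SpecialLinearGroup.coe_mul, hZ, hA, blk_mul]⟩
  have hcube : A * A * A = 1 ∨ A * A * A = -1 := by
    obtain ⟨Z, hZ⟩ := hpow (3 ^ i)
    rw [← ha, ← map_pow, ← map_one pr, eq_comm] at hi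
    have hp : A ^ 3 ^ i = 1 ∨ A ^ 3 ^ i = -1 := by
      rcases pr_eq_iff.1 hi with e | e
      · rw [hZ, Matrix.SpecialLinearGroup.coe_one, ← blk_one] at e
        exact Or.inl (blk_inj e).1
      · rw [hZ, Matrix.SpecialLinearGroup.coe_one, ← blk_one, blk_neg] at e
        exact Or.inr (blk_inj e).1
    have h24 : A ^ 24 = 1 := by
      have := pow_24 A hA0
      simp only [← pow_two, ← pow_add, ← pow_succ, ← pow_mul] at this
      simpa [← pow_mul, ← pow_succ, ← pow_add] using this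
    have h6 : A ^ 6 = 1 := by
      have hd : A ^ (2 * 3 ^ i) = 1 := by
        rw [mul_comm, pow_mul]
        rcases hp with e | e <;> rw [e] <;> simp
      have := pow_gcd_eq_one.2 ⟨hd, h24⟩
      refine orderOf_dvd_iff_pow_eq_one.1 ((orderOf_dvd_of_pow_eq_one this).trans ?_)
      rw [show 24 = 2 * 12 from rfl, Nat.gcd_mul_left]
      show 2 * _ ∣ 2 * 3
      refine Nat.mul_dvd_mul_left 2 ?_
      refine (Nat.Coprime.dvd_of_dvd_mul_right ?_ (show Nat.gcd (3 ^ i) 12 ∣ 3 * 4 from Nat.gcd_dvd_right _ _))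
      exact Nat.Coprime.coprime_dvd_left (Nat.gcd_dvd_left _ _) (Nat.Coprime.pow_left i (by norm_num))
    cases i with
    | zero =>
      rw [pow_zero, pow_one] at hp
      rcases hp with e | e <;> rw [e] <;> simp
    | succ i =>
      have hmod : 3 ^ (i + 1) % 6 = 3 := by
        rw [pow_succ, show 6 = 2 * 3 from rfl, Nat.mul_mod_mul_right,
          Nat.odd_iff.1 (Odd.pow (by decide : Odd 3))]
      rw [pow_eq_pow_mod _ h6, hmod] at hp
      rcases hp with e | e
      · exact Or.inl (by rw [← e, pow_succ, pow_two])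
      · exact Or.inr (by rw [← e, pow_succ, pow_two])
  obtain ⟨l, hl | hl⟩ := unipotent_normaliser A hA0 hcube hnorm
  · refine ⟨l, X, ?_⟩
    rw [← ha, pr_eq_iff]
    exact Or.inl (by rw [hA, hl]; rfl)
  · refine ⟨l, -X, ?_⟩
    rw [← ha, pr_eq_iff]
    exact Or.inr (by rw [hA, hl]; show _ = -blk _ _ _; rw [blk_neg, neg_neg])

end Cfsg.Agent.PSLFourThree
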