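import Cfsg.Agent.Lib.PSLFourThree.InvTargets
import Cfsg.Agent.Lib.PSLFourThree.Blocks

/-!
# The centralizer of `tTwo` in `PSL(4,3)` as semilinear maps of the plane over nine elements

* `Cd`, `cmul`, `el`: codes, their product, the elements
* `exists_code`: every element commuting with `tTwo` has a code
* `sub`, `mem_sub`, `card_sub`: subgroups given by predicates on codes
-/

set_option autoImplicit false

namespace Cfsg.Agent.PSLFourThree.Two

open Matrix

/-- Nine elements: real and imaginary part. -/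
abbrev F9 := ZMod 3 × ZMod 3

/-- Product. -/
def qm (a b : F9) : F9 := (a.1 * b.1 - a.2 * b.2, a.1 * b.2 + a.2 * b.1)

/-- The sign of a semilinearity. -/
def sg (s : Bool) : ZMod 3 := if s then -1 else 1

/-- The field automorphism attached to `s`. -/
def sc (s : Bool) (a : F9) : F9 := (a.1, sg s * a.2)

/-- The norm. -/
def qn (a : F9) : ZMod 3 := a.1 * a.1 + a.2 * a.2

/-- The inverse. -/
def qi (a : F9) : F9 := (qn a * a.1, -(qn a * a.2))

/-- A semilinear map of the plane: four entries and the semilinearity. -/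
abbrev Cd := (F9 × F9 × F9 × F9) × Bool

/-- The determinant over nine elements. -/
def d9 (g : Cd) : F9 := qm g.1.1 g.1.2.2.2 - qm g.1.2.1 g.1.2.2.1

/-- Product of codes. -/
def cmul (g h : Cd) : Cd :=
  ((qm g.1.1 (sc g.2 h.1.1) + qm g.1.2.1 (sc g.2 h.1.2.2.1),
    qm g.1.1 (sc g.2 h.1.2.1) + qm g.1.2.1 (sc g.2 h.1.2.2.2),
    qm g.1.2.2.1 (sc g.2 h.1.1) + qm g.1.2.2.2 (sc g.2 h.1.2.2.1),
    qm g.1.2.2.1 (sc g.2 h.1.2.1) + qm g.1.2.2.2 (sc g.2 h.1.2.2.2)), xor g.2 h.2)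

/-- The negative code. -/
def cneg (g : Cd) : Cd := ((-g.1.1, -g.1.2.1, -g.1.2.2.1, -g.1.2.2.2), g.2)

/-- The four by four matrix. -/
def toMat (g : Cd) : Matrix (Fin 4) (Fin 4) (ZMod 3) :=
  !![g.1.1.1, -g.1.1.2 * sg g.2, g.1.2.1.1, -g.1.2.1.2 * sg g.2;
     g.1.1.2, g.1.1.1 * sg g.2, g.1.2.1.2, g.1.2.1.1 * sg g.2;
     g.1.2.2.1.1, -g.1.2.2.1.2 * sg g.2, g.1.2.2.2.1, -g.1.2.2.2.2 * sg g.2;
     g.1.2.2.1.2, g.1.2.2.1.1 * sg g.2, g.1.2.2.2.2, g.1.2.2.2.1 * sg g.2]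

/-- The codes of determinant one. -/
abbrev Ok (g : Cd) : Prop := qn (d9 g) = 1

set_option maxHeartbeats 2000000 in
theorem toMat_mul (g h : Cd) : toMat g * toMat h = toMat (cmul g h) := by
  obtain ⟨⟨a, b, c, d⟩, s⟩ := g
  obtain ⟨⟨a', b', c', d'⟩, r⟩ := h
  ext i j
  cases s <;> cases r <;> fin_cases i <;> fin_cases j <;>
    simp [toMat, cmul, qm, sc, sg, Matrix.mul_apply, Fin.sum_univ_four] <;> ring

theorem det_toMat (g : Cd) : (toMat g).det = qn (d9 g) := by
  obtain ⟨⟨a, b, c, d⟩, s⟩ := g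
  rw [Matrix.det_succ_row_zero, Fin.sum_univ_four, det_fin_three, det_fin_three, det_fin_three, det_fin_three]
  cases s <;> simp [toMat, d9, qm, qn, sg, Fin.succAbove] <;> ring

theorem toMat_neg (g : Cd) : toMat (cneg g) = -toMat g := by
  ext i j; fin_cases i <;> fin_cases j <;> simp [toMat, cneg]

theorem qn_qm (a b : F9) : qn (qm a b) = qn a * qn b := by simp only [qn, qm]; ring

theorem qn_sc (s : Bool) (a : F9) : qn (sc s a) = qn a := by cases s <;> simp [qn, sc, sg]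

theorem d9_cmul (g h : Cd) : d9 (cmul g h) = qm (d9 g) (sc g.2 (d9 h)) := by
  obtain ⟨⟨a, b, c, d⟩, s⟩ := g
  obtain ⟨⟨a', b', c', d'⟩, r⟩ := h
  cases s <;> simp [d9, cmul, qm, sc, sg] <;> constructor <;> ring

theorem d9_cneg (g : Cd) : d9 (cneg g) = d9 g := by simp [d9, cneg, qm]

theorem Ok.mul {g h : Cd} (hg : Ok g) (hh : Ok h) : Ok (cmul g h) := by
  show qn (d9 (cmul g h)) = 1
  rw [d9_cmul, qn_qm, qn_sc, hg, hh, one_mul]

theorem Ok.neg {g : Cd} (hg : Ok g) : Ok (cneg g) := by show qn (d9 (cneg g)) = 1; rwa [d9_cneg]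

/-- The element of a code. -/
def lift (g : Cd) : S4 := if h : (toMat g).det = 1 then ⟨toMat g, h⟩ else 1

/-- The element of `PSL(4,3)`. -/
def el (g : Cd) : L4 := pr (lift g)

theorem lift_val {g : Cd} (hg : Ok g) : (lift g).1 = toMat g := by
  have h : (toMat g).det = 1 := by rw [det_toMat]; exact hg
  exact congrArg Subtype.val (dif_pos h)

theorem el_mul {g h : Cd} (hg : Ok g) (hh : Ok h) : el g * el h = el (cmul g h) := by
  rw [el, el, ← map_mul]
  exact congrArg pr (Subtype.ext (by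
    show (lift g).1 * (lift h).1 = _
    rw [lift_val hg, lift_val hh, lift_val (hg.mul hh), toMat_mul]))

theorem toMat_injective_off {g h : Cd} (e : toMat g = toMat h) (hs : g.2 = h.2) : g = h := by
  obtain ⟨⟨a, b, c, d⟩, s⟩ := g
  obtain ⟨⟨a', b', c', d'⟩, r⟩ := h
  obtain rfl : s = r := hs
  have e0 := fun i => congrFun (congrFun e i) 0
  have e2 := fun i => congrFun (congrFun e i) 2
  simp only [Prod.mk.injEq, Prod.ext_iff, and_true]
  exact ⟨⟨e0 0, e0 1⟩, ⟨e2 0, e2 1⟩, ⟨e0 2, e0 3⟩, e2 2, e2 3⟩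

theorem toMat_inj {g h : Cd} (hg : Ok g) (e : toMat g = toMat h) : g = h := by
  refine toMat_injective_off e ?_
  obtain ⟨⟨a, b, c, d⟩, s⟩ := g
  obtain ⟨⟨a', b', c', d'⟩, r⟩ := h
  by_contra hne
  have h0 : a.1 = a'.1 := congrFun (congrFun e 0) 0
  have h1 : a.2 = a'.2 := congrFun (congrFun e 1) 0
  have h2 : c.1 = c'.1 := congrFun (congrFun e 2) 0
  have h3 : c.2 = c'.2 := congrFun (congrFun e 3) 0
  have g0 : -a.2 * sg s = -a'.2 * sg r := congrFun (congrFun e 0) 1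
  have g1 : a.1 * sg s = a'.1 * sg r := congrFun (congrFun e 1) 1
  have g2 : -c.2 * sg s = -c'.2 * sg r := congrFun (congrFun e 2) 1
  have g3 : c.1 * sg s = c'.1 * sg r := congrFun (congrFun e 3) 1
  rw [← h0] at g1; rw [← h1] at g0; rw [← h2] at g3; rw [← h3] at g2
  have key : ∀ u : ZMod 3, u * sg s = u * sg r → u = 0 := by
    intro u hu
    cases s <;> cases r <;> first | exact absurd rfl hne | (revert hu; simp [sg]; revert u; decide)
  have k0 := key _ g1
  have k1 : a.2 = 0 := key _ (by linear_combination -g0)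
  have k2 := key _ g3
  have k3 : c.2 = 0 := key _ (by linear_combination -g2)
  simp [Ok, d9, qm, qn, k0, k1, k2, k3] at hg

theorem el_eq {g h : Cd} (hg : Ok g) (hh : Ok h) : el g = el h ↔ h = g ∨ h = cneg g := by
  rw [el, el, pr_eq_iff, lift_val hg, lift_val hh, ← toMat_neg]
  constructor
  · rintro (e | e)
    · exact Or.inl (toMat_inj hh e)
    · exact Or.inr (toMat_inj hh e)
  · rintro (rfl | rfl) <;> simp

/-- The code of the identity. -/
def one : Cd := (((1, 0), (0, 0), (0, 0), (1, 0)), false)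

/-- The code of `tTwo`. -/
def jc : Cd := (((0, 1), (0, 0), (0, 0), (0, 1)), false)

theorem el_one : el one = 1 := by
  have h : (lift one) = 1 := Subtype.ext (by rw [lift_val (by decide)]; decide +kernel)
  rw [el, h, map_one]

theorem el_jc : el jc = tTwo := by
  refine congrArg pr (Subtype.ext ?_)
  rw [lift_val (by decide)]
  decide +kernel

/-- Every element commuting with `tTwo` has a code. -/
theorem exists_code {y : L4} (hy : y * tTwo = tTwo * y) : ∃ g : Cd, Ok g ∧ el g = y := by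
  obtain ⟨M, rfl⟩ := pr_surjective y
  rw [← el_jc, el, ← map_mul, ← map_mul, pr_eq_iff, Matrix.SpecialLinearGroup.coe_mul,
    Matrix.SpecialLinearGroup.coe_mul, lift_val (show Ok jc by decide),
    show toMat jc = !![0, -1, 0, 0; 1, 0, 0, 0; 0, 0, 0, -1; 0, 0, 1, 0] by decide +kernel] at hy
  obtain ⟨k, s, hk, hM⟩ : ∃ (k : ZMod 3) (s : Bool), k = sg s ∧
      M.1 * !![0, -1, 0, 0; 1, 0, 0, 0; 0, 0, 0, -1; 0, 0, 1, 0] =
        k • (!![0, -1, 0, 0; 1, 0, 0, 0; 0, 0, 0, -1; 0, 0, 1, 0] * M.1) := by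
    rcases hy with h | h
    · exact ⟨1, false, rfl, by rw [one_smul]; exact h.symm⟩
    · refine ⟨-1, true, rfl, ?_⟩
      rw [neg_smul, one_smul]
      exact (neg_eq_iff_eq_neg.1 h.symm)
  set g : Cd := (((M.1 0 0, M.1 1 0), (M.1 0 2, M.1 1 2), (M.1 2 0, M.1 3 0), (M.1 2 2, M.1 3 2)), s)
  have e : M.1 = toMat g := by
    have e := fun i j => congrFun (congrFun hM i) j
    have a0 := e 0 0
    have a1 := e 1 0
    have a2 := e 2 0
    have a3 := e 3 0
    have b0 := e 0 2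
    have b1 := e 1 2
    have b2 := e 2 2
    have b3 := e 3 2
    simp [Matrix.mul_apply, Matrix.vecMul, dotProduct, Fin.sum_univ_four, hk] at a0 a1 a2 a3 b0 b1 b2 b3
    ext i j
    fin_cases i <;> fin_cases j <;> simp [toMat, g, a0, a1, a2, a3, b0, b1, b2, b3] <;> ring
  have hg : Ok g := by show qn (d9 g) = 1; rw [← det_toMat, ← e, M.2]
  exact ⟨g, hg, congrArg pr (Subtype.ext (by rw [lift_val hg, e]))⟩

theorem el_mem_CwL {g : Cd} (hg : Ok g) : el g ∈ CwL := by
  rw [Subgroup.mem_centralizer_singleton_iff, ← el_jc, el_mul hg (by decide), el_mul (by decide) hg,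
    el_eq (hg.mul (by decide)) ((by decide : Ok jc).mul hg)]
  obtain ⟨⟨a, b, c, d⟩, s⟩ := g
  cases s
  · left; simp [cmul, jc, qm, sc, sg]
  · right; simp [cmul, jc, qm, sc, sg, cneg]

/-- A predicate cutting out a subgroup. -/
structure Good (P : Cd → Prop) : Prop where
  ok : ∀ {g}, P g → Ok g
  one : P one
  mul : ∀ {g h}, P g → P h → P (cmul g h)
  neg : ∀ {g}, P g → P (cneg g)

/-- The subgroup of a predicate. -/
def sub {P : Cd → Prop} (hP : Good P) : Subgroup L4 :=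
  let S : Submonoid L4 :=
    { carrier := {y | ∃ g, P g ∧ el g = y}
      one_mem' := ⟨Two.one, hP.one, el_one⟩
      mul_mem' := by
        rintro _ _ ⟨g, hg, rfl⟩ ⟨h, hh, rfl⟩
        exact ⟨_, hP.mul hg hh, (el_mul (hP.ok hg) (hP.ok hh)).symm⟩ }
  { S with
    inv_mem' := fun {y} hy => by
      have e : y⁻¹ = y ^ (orderOf y - 1) := by
        rw [inv_eq_iff_mul_eq_one, ← pow_succ', Nat.sub_add_cancel (orderOf_pos y), pow_orderOf_eq_one]
      rw [e]
      show y ^ (orderOf y - 1) ∈ S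
      exact S.pow_mem hy _ }

theorem mem_sub {P : Cd → Prop} (hP : Good P) {y : L4} : y ∈ sub hP ↔ ∃ g, P g ∧ el g = y := Iff.rfl

theorem el_mem_sub {P : Cd → Prop} (hP : Good P) {g : Cd} (hg : Ok g) : el g ∈ sub hP ↔ P g := by
  refine ⟨?_, fun h => ⟨g, h, rfl⟩⟩
  rintro ⟨h, hh, e⟩
  rcases (el_eq (hP.ok hh) hg).1 e with rfl | rfl
  exacts [hh, hP.neg hh]

theorem sub_le_CwL {P : Cd → Prop} (hP : Good P) : sub hP ≤ CwL := by
  rintro _ ⟨g, hg, rfl⟩
  exact el_mem_CwL (hP.ok hg)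

/-- The sign of the first non-zero entry is positive. -/
abbrev Canon (g : Cd) : Prop :=
  g.1.1.1 = 1 ∨ (g.1.1.1 = 0 ∧ (g.1.1.2 = 1 ∨ (g.1.1.2 = 0 ∧
    (g.1.2.2.1.1 = 1 ∨ (g.1.2.2.1.1 = 0 ∧ g.1.2.2.1.2 = 1)))))

theorem card_sub {P : Cd → Prop} [DecidablePred P] (hP : Good P) :
    Nat.card (sub hP) = (Finset.univ.filter fun g => Canon g ∧ P g).card := by
  suffices H : ∀ s : Finset Cd, (∀ g, g ∈ s ↔ Canon g ∧ P g) → Nat.card (sub hP) = s.card from
    H _ fun g => by simp only [Finset.mem_filter, Finset.mem_univ, true_and]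
  intro s hs
  rw [← Nat.card_eq_finsetCard]
  symm
  refine Nat.card_eq_of_bijective
    (fun g => (⟨el g.1, g.1, ((hs g.1).1 g.2).2, rfl⟩ : sub hP)) ⟨?_, ?_⟩
  · intro g h e
    obtain ⟨hg1, hg2⟩ := (hs g.1).1 g.2
    obtain ⟨hh1, hh2⟩ := (hs h.1).1 h.2
    rcases (el_eq (hP.ok hg2) (hP.ok hh2)).1 (congrArg Subtype.val e) with k | k
    · exact Subtype.ext k.symm
    · exfalso
      rw [k] at hh1
      have key : ∀ a c : F9, Canon ((a, (0, 0), c, (0, 0)), false) →
          Canon ((-a, (0, 0), -c, (0, 0)), false) → False := by decide +kernel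
      exact key g.1.1.1 g.1.1.2.2.1 hg1 hh1
  · rintro ⟨y, g, hg, rfl⟩
    have h : Canon g ∨ Canon (cneg g) := by
      have key : ∀ a c : F9, Canon ((a, (0, 0), c, (0, 0)), false) ∨
          Canon ((-a, (0, 0), -c, (0, 0)), false) ∨ (a = 0 ∧ c = 0) := by decide +kernel
      rcases key g.1.1 g.1.2.2.1 with h | h | ⟨h1, h2⟩
      · exact Or.inl h
      · exact Or.inr h
      · have := hP.ok hg
        simp [Ok, d9, qm, qn, h1, h2] at this
    rcases h with h | h
    · exact ⟨⟨g, (hs g).2 ⟨h, hg⟩⟩, rfl⟩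
    · exact ⟨⟨cneg g, (hs _).2 ⟨h, hP.neg hg⟩⟩,
        Subtype.ext ((el_eq (hP.ok hg) (hP.neg hg |> hP.ok)).2 (Or.inr rfl)).symm⟩

end Cfsg.Agent.PSLFourThree.Two
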