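import Cfsg.Agent.Lib.PSLFourThree.TwoCode

/-!
# The facts about the centralizer of `tTwo` in `PSL(4,3)`

Main result: `twoFacts`.
-/

set_option autoImplicit false

namespace Cfsg.Agent.PSLFourThree.Two

open Matrix
open scoped commutatorElement

/-- The alternating part with `tTwo`. -/
abbrev IsA (g : Cd) : Prop := g.2 = false ∧ (d9 g = (1, 0) ∨ d9 g = (-1, 0))

/-- Monomial codes. -/
abbrev Mono (g : Cd) : Prop := (g.1.2.1 = 0 ∧ g.1.2.2.1 = 0) ∨ (g.1.1 = 0 ∧ g.1.2.2.2 = 0)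

/-- The Sylow subgroup. -/
abbrev IsSyl (g : Cd) : Prop := Ok g ∧ Mono g

/-- Its linear part. -/
abbrev IsLin (g : Cd) : Prop := IsSyl g ∧ g.2 = false

/-- Its meet with the alternating part. -/
abbrev IsSylA (g : Cd) : Prop := IsA g ∧ Mono g

/-- The upper unitriangular codes up to sign. -/
abbrev IsX (g : Cd) : Prop :=
  g.2 = false ∧ g.1.2.2.1 = 0 ∧ g.1.1 = g.1.2.2.2 ∧ (g.1.1 = (1, 0) ∨ g.1.1 = (-1, 0))

/-- The same times the powers of `tTwo`. -/
abbrev IsXT (g : Cd) : Prop :=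
  g.2 = false ∧ g.1.2.2.1 = 0 ∧ g.1.1 = g.1.2.2.2 ∧
    (g.1.1 = (1, 0) ∨ g.1.1 = (-1, 0) ∨ g.1.1 = (0, 1) ∨ g.1.1 = (0, -1))

theorem mono_mul {g h : Cd} (hg : Mono g) (hh : Mono h) : Mono (cmul g h) := by
  obtain ⟨⟨a, b, c, d⟩, s⟩ := g
  obtain ⟨⟨a', b', c', d'⟩, r⟩ := h
  have e1 : ∀ x : F9, qm x 0 = 0 := fun x => by simp [qm]
  have e2 : ∀ x : F9, qm 0 x = 0 := fun x => by simp [qm]
  have e3 : sc s 0 = 0 := by simp [sc]
  rcases hg with ⟨h1, h2⟩ | ⟨h1, h2⟩ <;> rcases hh with ⟨h3, h4⟩ | ⟨h3, h4⟩ <;>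
    simp only at h1 h2 h3 h4 <;> simp [Mono, cmul, h1, h2, h3, h4, e1, e2, e3]

theorem mono_neg {g : Cd} (hg : Mono g) : Mono (cneg g) := by
  obtain ⟨⟨a, b, c, d⟩, s⟩ := g
  rcases hg with ⟨h1, h2⟩ | ⟨h1, h2⟩ <;> simp only at h1 h2 <;> simp [Mono, cneg, h1, h2]

theorem IsA.ok {g : Cd} (h : IsA g) : Ok g := by
  show qn (d9 g) = 1
  rcases h.2 with e | e <;> rw [e] <;> decide

instance instDecEqF9 : DecidableEq F9 := inferInstance
instance instDecEqCd : DecidableEq Cd := inferInstance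
instance instFintypeF9 : Fintype F9 := inferInstance

theorem good_A : Good IsA where
  ok := IsA.ok
  one := by decide
  mul := by
    rintro g h ⟨gs, gd⟩ ⟨hs, hd⟩
    refine ⟨by simp [cmul, gs, hs], ?_⟩
    rw [d9_cmul, gs]
    rcases gd with e | e <;> rcases hd with e' | e' <;> rw [e, e'] <;> decide
  neg := fun {g} h => ⟨h.1, by rw [d9_cneg]; exact h.2⟩

theorem good_C : Good Ok := ⟨id, by decide, Ok.mul, Ok.neg⟩

theorem good_T : Good IsSyl :=
  ⟨And.left, by decide, fun hg hh => ⟨hg.1.mul hh.1, mono_mul hg.2 hh.2⟩, fun hg => ⟨hg.1.neg, mono_neg hg.2⟩⟩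

theorem good_M : Good IsLin :=
  ⟨fun h => h.1.1, by decide, fun hg hh => ⟨good_T.mul hg.1 hh.1, by simp [cmul, hg.2, hh.2]⟩,
    fun hg => ⟨good_T.neg hg.1, hg.2⟩⟩

theorem good_TA : Good IsSylA :=
  ⟨fun h => h.1.ok, by decide, fun hg hh => ⟨good_A.mul hg.1 hh.1, mono_mul hg.2 hh.2⟩,
    fun hg => ⟨good_A.neg hg.1, mono_neg hg.2⟩⟩

theorem qm_one_left (x : F9) : qm (1, 0) x = x := by simp [qm]

theorem qm_neg_left (x : F9) : qm (-1, 0) x = -x := by ext <;> simp [qm]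

theorem good_X : Good IsX where
  ok := by
    rintro ⟨⟨a, b, c, d⟩, s⟩ ⟨hs, hc, had, ha⟩
    simp only at hs hc had ha
    subst hs hc had
    rcases ha with rfl | rfl <;> simp [Ok, d9, qm, qn]
  one := by decide
  mul := by
    rintro ⟨⟨a, b, c, d⟩, s⟩ ⟨⟨a', b', c', d'⟩, r⟩ ⟨hs, hc, had, ha⟩ ⟨hs', hc', had', ha'⟩
    simp only at hs hc had ha hs' hc' had' ha'
    subst hs hc had hs' hc' had'
    rcases ha with rfl | rfl <;> rcases ha' with rfl | rfl <;> simp [IsX, cmul, qm, sc, sg]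
  neg := by
    rintro ⟨⟨a, b, c, d⟩, s⟩ ⟨hs, hc, had, ha⟩
    simp only at hs hc had ha
    subst hs hc had
    rcases ha with rfl | rfl <;> simp [IsX, cneg]

/-- Upper unitriangular. -/
def xc (b : F9) : Cd := (((1, 0), b, (0, 0), (1, 0)), false)

/-- Lower unitriangular. -/
def yc (c : F9) : Cd := (((1, 0), (0, 0), c, (1, 0)), false)

theorem isA_xc (b : F9) : IsA (xc b) := ⟨rfl, Or.inl (by simp [xc, d9, qm])⟩

theorem isA_yc (c : F9) : IsA (yc c) := ⟨rfl, Or.inl (by simp [yc, d9, qm])⟩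

theorem el_inv {g : Cd} (hg : Ok g) {h : Cd} (hh : Ok h) (e : el (cmul g h) = 1) : (el g)⁻¹ = el h :=
  inv_eq_of_mul_eq_one_right ((el_mul hg hh).trans e)

theorem el_eq_of {g h : Cd} (hg : Ok g) (hh : Ok h) (e : h = g ∨ h = cneg g) : el g = el h := (el_eq hg hh).2 e

/-! ### The subgroup of order nine -/

theorem gen_one : pr (x (i := 0) (j := 2) (by decide) 1) * pr (x (i := 1) (j := 3) (by decide) 1) = el (xc (1, 0)) := by
  rw [el, ← map_mul]
  exact congrArg pr (Subtype.ext (by rw [lift_val (by decide)]; decide +kernel))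

theorem gen_i : pr (x (i := 0) (j := 3) (by decide) (-1)) * pr (x (i := 1) (j := 2) (by decide) 1) =
    el (xc (0, 1)) := by
  rw [el, ← map_mul]
  exact congrArg pr (Subtype.ext (by rw [lift_val (by decide)]; decide +kernel))

theorem xc_mem (b : F9) : el (xc b) ∈ lSub := by
  have h1 : el (xc (1, 0)) ∈ lSub := gen_one ▸ Subgroup.subset_closure (by left; rfl)
  have h2 : el (xc (0, 1)) ∈ lSub := gen_i ▸ Subgroup.subset_closure (by right; rfl)
  have e : ∀ a b : F9, el (xc a) * el (xc b) = el (xc (a + b)) := by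
    intro a b
    rw [el_mul (isA_xc a).ok (isA_xc b).ok]
    congr 1
    simp [cmul, xc, qm, sc, sg, add_comm]
  have h0 : el (xc (0, 0)) ∈ lSub := by rw [show el (xc (0, 0)) = 1 from el_one]; exact one_mem _
  have h11 := e (1, 0) (1, 0) ▸ mul_mem h1 h1
  have h22 := e (0, 1) (0, 1) ▸ mul_mem h2 h2
  have key : ∀ b : F9, ∃ u v : F9, (u = (0, 0) ∨ u = (1, 0) ∨ u = (1, 0) + (1, 0)) ∧
      (v = (0, 0) ∨ v = (0, 1) ∨ v = (0, 1) + (0, 1)) ∧ b = u + v := by decide
  obtain ⟨u, v, hu, hv, rfl⟩ := key b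
  rw [← e]
  refine mul_mem ?_ ?_
  · rcases hu with rfl | rfl | rfl
    exacts [h0, h1, h11]
  · rcases hv with rfl | rfl | rfl
    exacts [h0, h2, h22]

theorem lSub_eq : lSub = sub good_X := by
  refine le_antisymm ((Subgroup.closure_le _).2 ?_) ?_
  · rintro g (rfl | rfl)
    · exact ⟨_, by decide, gen_one.symm⟩
    · exact ⟨_, by decide, gen_i.symm⟩
  · rintro _ ⟨g, hg, rfl⟩
    obtain ⟨⟨a, b, c, d⟩, s⟩ := g
    obtain ⟨hs, hc, had, ha⟩ := hg
    simp only at hs hc had ha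
    subst hs hc had
    rcases ha with rfl | rfl
    · exact xc_mem b
    · have h := el_eq_of (isA_xc (-b)).ok
        (h := (((-1, 0), b, (0, 0), (-1, 0)), false)) (by simp [Ok, d9, qm, qn]) (Or.inr (by simp [xc, cneg]))
      exact h ▸ xc_mem (-b)

theorem xt_mem {g : Cd} (hg : IsXT g) : el g ∈ lSub ⊔ Subgroup.zpowers tTwo := by
  obtain ⟨⟨a, b, c, d⟩, s⟩ := g
  obtain ⟨hs, hc, had, ha⟩ := hg
  simp only at hs hc had ha
  subst hs hc had
  rw [show (0 : F9) = ((0, 0) : F9) from rfl]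
  have hX : ∀ v : F9, el (xc v) ∈ lSub ⊔ Subgroup.zpowers tTwo := fun v => Subgroup.mem_sup_left (xc_mem v)
  have hJ : el jc ∈ lSub ⊔ Subgroup.zpowers tTwo := Subgroup.mem_sup_right (el_jc ▸ Subgroup.mem_zpowers _)
  rcases ha with rfl | rfl | rfl | rfl
  · exact hX b
  · rw [el_eq_of (g := (((-1, 0), b, (0, 0), (-1, 0)), false)) (h := xc (-b)) (by simp [Ok, d9, qm, qn])
      (isA_xc _).ok (Or.inr (by simp [xc, cneg]))]
    exact hX _
  · have e : (((0, 1), b, (0, 0), (0, 1)), false) = cmul jc (xc (b.2, -b.1)) := by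
      simp [cmul, jc, xc, qm, sc, sg]
    rw [e, ← el_mul (by decide) (isA_xc _).ok]
    exact mul_mem hJ (hX _)
  · have e : cneg (((0, -1), b, (0, 0), (0, -1)), false) = cmul jc (xc (-b.2, b.1)) := by
      simp [cneg, cmul, jc, xc, qm, sc, sg, Prod.ext_iff]
    rw [el_eq_of (g := (((0, -1), b, (0, 0), (0, -1)), false)) (h := cmul jc (xc (-b.2, b.1)))
      (by simp [Ok, d9, qm, qn]) ((by decide : Ok jc).mul (isA_xc _).ok) (Or.inr e.symm),
      ← el_mul (by decide) (isA_xc _).ok]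
    exact mul_mem hJ (hX _)

/-! ### Commutators -/

/-- The primitive element, as a diagonal code. -/
def fc : Cd := (((1, 1), (0, 0), (0, 0), qi (1, 1)), false)

theorem xc_comm : ∀ b : F9, ∃ b' : F9, cmul fc (xc b') = cmul (xc b) (cmul (xc b') fc) := by decide +kernel

theorem yc_comm : ∀ b : F9, ∃ b' : F9, cmul fc (yc b') = cmul (yc b) (cmul (yc b') fc) := by decide +kernel

theorem gauss : ∀ a b c d : F9, c ≠ 0 → d9 ((a, b, c, d), false) = (1, 0) →
    ((a, b, c, d), false) =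
      cmul (xc (qm (a - (1, 0)) (qi c))) (cmul (yc c) (xc (qm (d - (1, 0)) (qi c)))) := by decide +kernel

theorem A_res : sub good_A ≤ ⁅sub good_A, sub good_A⁆ ⊔ Subgroup.zpowers tTwo := by
  have hcomm : ∀ g b' : Cd, IsA g → IsA b' → cmul fc b' = cmul g (cmul b' fc) →
      el g ∈ ⁅sub good_A, sub good_A⁆ := by
    intro g b' hg hb e
    have hF : IsA fc := by decide
    have h := congrArg el e
    rw [← el_mul hF.ok hb.ok, ← el_mul hg.ok (hb.ok.mul hF.ok), ← el_mul hb.ok hF.ok] at h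
    have h2 : el g = ⁅el fc, el b'⁆ := by rw [commutatorElement_def, h]; group
    rw [h2]
    exact Subgroup.commutator_mem_commutator ⟨_, hF, rfl⟩ ⟨_, hb, rfl⟩
  have hX : ∀ b, el (xc b) ∈ ⁅sub good_A, sub good_A⁆ := fun b => by
    obtain ⟨b', e⟩ := xc_comm b; exact hcomm _ _ (isA_xc b) (isA_xc b') e
  have hY : ∀ b, el (yc b) ∈ ⁅sub good_A, sub good_A⁆ := fun b => by
    obtain ⟨b', e⟩ := yc_comm b; exact hcomm _ _ (isA_yc b) (isA_yc b') e
  have hc : ∀ a b c d : F9, c ≠ 0 → d9 ((a, b, c, d), false) = (1, 0) →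
      el ((a, b, c, d), false) ∈ ⁅sub good_A, sub good_A⁆ := by
    intro a b c d hc h1
    rw [gauss a b c d hc h1, ← el_mul (isA_xc _).ok ((isA_yc _).ok.mul (isA_xc _).ok),
      ← el_mul (isA_yc _).ok (isA_xc _).ok]
    exact mul_mem (hX _) (mul_mem (hY _) (hX _))
  have hone : ∀ a b c d : F9, d9 ((a, b, c, d), false) = (1, 0) →
      el ((a, b, c, d), false) ∈ ⁅sub good_A, sub good_A⁆ := by
    intro a b c d h1
    by_cases h : c = 0
    · subst h
      have ha : a ≠ 0 := by rintro rfl; simp [d9, qm] at h1; exact absurd (congrArg Prod.fst h1) (by decide)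
      have hA : IsA ((a, b, 0, d), false) := ⟨rfl, Or.inl h1⟩
      have e : cmul (yc (1, 0)) ((a, b, 0, d), false) = ((a, b, a, b + d), false) := by
        simp [cmul, yc, qm, sc, sg]
      have h2 := hc a b a (b + d) ha (by rw [← e, d9_cmul, h1, show (yc (1, 0)).2 = false from rfl]; decide)
      rw [← e, ← el_mul (isA_yc _).ok hA.ok] at h2
      have := mul_mem (inv_mem (hY (1, 0))) h2
      rwa [inv_mul_cancel_left] at this
    · exact hc a b c d h h1
  rintro _ ⟨⟨⟨a, b, c, d⟩, s⟩, ⟨hs, hd⟩, rfl⟩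
  simp only at hs
  subst hs
  rcases hd with h1 | h1
  · exact Subgroup.mem_sup_left (hone a b c d h1)
  · have hJ : Ok jc := by decide
    have hg : Ok ((a, b, c, d), false) := IsA.ok ⟨rfl, Or.inr h1⟩
    obtain ⟨⟨⟨a', b', c', d'⟩, s'⟩, e⟩ : ∃ k, k = cmul ((a, b, c, d), false) jc := ⟨_, rfl⟩
    have h2 : d9 ((a', b', c', d'), s') = (1, 0) := by
      rw [e, d9_cmul, h1, show ((a, b, c, d), false).2 = false from rfl]; decide
    obtain rfl : s' = false := (congrArg Prod.snd e).trans rfl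
    have h3 := hone a' b' c' d' h2
    rw [e, ← el_mul hg hJ, el_jc] at h3
    have := mul_mem (Subgroup.mem_sup_left h3 : el ((a, b, c, d), false) * tTwo ∈
      ⁅sub good_A, sub good_A⁆ ⊔ Subgroup.zpowers tTwo)
      (inv_mem (Subgroup.mem_sup_right (Subgroup.mem_zpowers tTwo)))
    rwa [mul_inv_cancel_right] at this

/-! ### Conjugation to `tTwo` -/

/-- The candidate conjugating matrix. -/
def cmat (M : Matrix (Fin 4) (Fin 4) (ZMod 3)) (v w : Fin 4 → ZMod 3) : Matrix (Fin 4) (Fin 4) (ZMod 3) :=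
  Matrix.of fun i j => ![v, M *ᵥ v, w, M *ᵥ w] j i

/-- The unit vectors. -/
def ev (k : Fin 4) : Fin 4 → ZMod 3 := fun i => if i = k then 1 else 0

/-- A code with a certificate of conjugacy with `tTwo`. -/
abbrev Wit (g : Cd) : Prop :=
  cmul g g = cneg one ∧ ∃ k : Fin 4,
    (cmat (toMat g) (ev 0) (ev k)).det = 1 ∨
      (cmat (toMat g) (ev 0) (ev k + toMat g *ᵥ ev k)).det = 1

theorem isTwo_of {g : Cd} (hg : Ok g) (hw : Wit g) : IsTwo (el g) := by
  obtain ⟨hsq, k, hk⟩ := hw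
  have h2 : toMat g * toMat g = -1 := by
    rw [toMat_mul, hsq, toMat_neg, show toMat one = 1 by decide +kernel]
  obtain ⟨w, hdet⟩ : ∃ w, (cmat (toMat g) (ev 0) w).det = 1 := by
    rcases hk with h | h <;> exact ⟨_, h⟩
  refine isConj_iff.2 ⟨pr ⟨cmat (toMat g) (ev 0) w, hdet⟩, ?_⟩
  rw [mul_inv_eq_iff_eq_mul, ← el_jc]
  refine ((map_mul pr _ _).symm.trans ?_).trans (map_mul pr (lift g) _)
  refine congrArg pr (Subtype.ext ?_)
  show cmat (toMat g) (ev 0) w * (lift jc).1 = (lift g).1 * cmat (toMat g) (ev 0) w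
  rw [lift_val hg, lift_val (by decide), show toMat jc = !![0, -1, 0, 0; 1, 0, 0, 0; 0, 0, 0, -1; 0, 0, 1, 0]
    by decide +kernel]
  ext i j
  have hcol : ∀ j, (toMat g * cmat (toMat g) (ev 0) w) i j =
      (toMat g *ᵥ ![ev 0, toMat g *ᵥ ev 0, w, toMat g *ᵥ w] j) i := fun j => rfl
  rw [hcol]
  fin_cases j <;> simp [cmat, Matrix.mul_apply, Fin.sum_univ_four, h2, Matrix.mulVec_mulVec, Matrix.neg_mulVec]

theorem sq_of_isTwo {g : Cd} (hg : Ok g) (h : IsTwo (el g)) : cmul g g = cneg one := by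
  obtain ⟨c, hc⟩ := isConj_iff.1 h
  obtain ⟨C, rfl⟩ := pr_surjective c
  rw [← el_jc, mul_inv_eq_iff_eq_mul] at hc
  have hc' : pr (C * lift jc) = pr (lift g * C) :=
    ((map_mul pr C (lift jc)).trans hc).trans (map_mul pr (lift g) C).symm
  clear hc
  rename' hc' => hc
  rw [pr_eq_iff, Matrix.SpecialLinearGroup.coe_mul,
    Matrix.SpecialLinearGroup.coe_mul, lift_val hg, lift_val (show Ok jc by decide)] at hc
  have hjj : toMat jc * toMat jc = -1 := by decide +kernel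
  have key : toMat g * toMat g * C.1 = (-1 : Matrix (Fin 4) (Fin 4) (ZMod 3)) * C.1 := by
    rcases hc with e | e
    · rw [Matrix.mul_assoc, e, ← Matrix.mul_assoc, e, Matrix.mul_assoc, hjj]; simp
    · rw [Matrix.mul_assoc, e, Matrix.mul_neg, ← Matrix.mul_assoc, e, Matrix.neg_mul, neg_neg,
        Matrix.mul_assoc, hjj]; simp
  refine toMat_inj (hg.mul hg) ?_
  rw [← toMat_mul, toMat_neg, show toMat one = 1 by decide +kernel]
  exact ((Matrix.isUnit_iff_isUnit_det _).2 (C.2.symm ▸ isUnit_one)).mul_right_cancel key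

theorem phi_isT : IsT (el (((1, 0), (0, 0), (0, 0), (1, 0)), true)) := by
  refine isConj_iff.2 ⟨pr ⟨!![1, 0, 0, 0; 0, 1, 0, 0; 0, 0, 0, 1; 0, 0, -1, 0], by decide +kernel⟩, ?_⟩
  rw [mul_inv_eq_iff_eq_mul]
  refine ((map_mul pr _ _).symm.trans ?_).trans (map_mul pr (lift _) _)
  exact congrArg pr (Subtype.ext (by decide +kernel))

theorem phi_jc_isT : IsT (el (cmul (((1, 0), (0, 0), (0, 0), (1, 0)), true) jc)) := by
  refine isConj_iff.2 ⟨pr ⟨!![1, 1, 0, 0; -1, 1, 0, 0; 0, 0, 1, -1; 0, 0, 1, 1], by decide +kernel⟩, ?_⟩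
  rw [mul_inv_eq_iff_eq_mul]
  refine ((map_mul pr _ _).symm.trans ?_).trans (map_mul pr (lift _) _)
  exact congrArg pr (Subtype.ext (by decide +kernel))

/-! ### Finite checks -/

/-- Powers of the diagonal code. -/
def fpow : ℕ → Cd
  | 0 => one
  | k + 1 => cmul (fpow k) fc

/-- Equality up to sign. -/
abbrev Pm (g h : Cd) : Prop := h = g ∨ h = cneg g

/-- Counting codes by their five entries. -/
def count (P : Cd → Prop) [DecidablePred P] : ℕ :=
  ∑ a : F9, ∑ b : F9, ∑ c : F9, ∑ d : F9, ∑ s : Bool, if Canon ((a, b, c, d), s) ∧ P ((a, b, c, d), s) then 1 else 0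

theorem sum_five {A B C D E : Type*} [Fintype A] [Fintype B] [Fintype C] [Fintype D] [Fintype E]
    (f : (A × B × C × D) × E → ℕ) :
    ∑ g, f g = ∑ a, ∑ b, ∑ c, ∑ d, ∑ s, f ((a, b, c, d), s) := by
  simp only [Fintype.sum_prod_type]

theorem card_filter_eq (P : Cd → Prop) [DecidablePred P] :
    (Finset.univ.filter fun g => Canon g ∧ P g).card = count P :=
  (Finset.card_filter _ _).trans (sum_five (A := F9) (B := F9) (C := F9) (D := F9) (E := Bool) _)

theorem check_cent : (Finset.univ.filter fun g => Canon g ∧ Ok g).card = 2880 := by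
  rw [card_filter_eq]; decide +kernel
theorem check_A : (Finset.univ.filter fun g => Canon g ∧ IsA g).card = 720 := by
  rw [card_filter_eq]; decide +kernel
theorem check_T : (Finset.univ.filter fun g => Canon g ∧ IsSyl g).card = 64 := by
  rw [card_filter_eq]; decide +kernel
theorem check_M : (Finset.univ.filter fun g => Canon g ∧ IsLin g).card = 32 := by
  rw [card_filter_eq]; decide +kernel
theorem check_TA : (Finset.univ.filter fun g => Canon g ∧ IsSylA g).card = 16 := by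
  rw [card_filter_eq]; decide +kernel
theorem check_X : (Finset.univ.filter fun g => Canon g ∧ IsX g).card = 9 := by
  rw [card_filter_eq]; decide +kernel

theorem qm_eq_zero : ∀ u v : F9, qm u v = 0 → u = 0 ∨ v = 0 := by decide +kernel

theorem zero_of_neg_eq : ∀ u : F9, u = -u → u = 0 := by decide +kernel

theorem d9_upper (a b d : F9) : d9 ((a, b, 0, d), false) = qm a d := by
  simp [d9, qm]

theorem root_four : ∀ a : F9, qm a a = (1, 0) ∨ qm a a = (-1, 0) →
    a = (1, 0) ∨ a = (-1, 0) ∨ a = (0, 1) ∨ a = (0, -1) := by decide +kernel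

theorem xc_left (g : Cd) (e : F9) : cmul (xc e) g =
    ((g.1.1 + qm e g.1.2.2.1, g.1.2.1 + qm e g.1.2.2.2, g.1.2.2.1, g.1.2.2.2), g.2) := by
  simp [cmul, xc, qm, sc, sg, Prod.mk_zero_zero]

theorem xc_right (g : Cd) (e : F9) (h : g.2 = false) : cmul g (xc e) =
    ((g.1.1, qm g.1.1 e + g.1.2.1, g.1.2.2.1, qm g.1.2.2.1 e + g.1.2.2.2), g.2) := by
  obtain ⟨⟨a, b, c, d⟩, s⟩ := g
  simp only at h
  subst h
  simp [cmul, xc, qm, sc, sg]

theorem check_cent_X : ∀ g : Cd, IsA g → ∀ b : F9, b ≠ 0 →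
    Pm (cmul g (xc b)) (cmul (xc b) g) → IsXT g := by
  intro g hg e he h
  rw [xc_left, xc_right g e hg.1] at h
  obtain ⟨⟨a, b, c, d⟩, s⟩ := g
  obtain ⟨hs, hd⟩ := hg
  simp only at hs
  subst hs
  rcases h with h | h <;> simp only [cneg, Prod.mk.injEq, and_true, true_and] at h
  · obtain ⟨ha, hb, hdd⟩ := h
    have hc : c = 0 := (qm_eq_zero c e (by simpa using hdd.symm)).resolve_right he
    subst hc
    have hab : qm (a - d) e = 0 := by
      have h1 : qm a e = qm e d := add_right_cancel (hb.symm.trans (add_comm _ _))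
      have h2 : qm (a - d) e = qm a e - qm e d := by ext <;> simp [qm] <;> ring
      rw [h2, h1, sub_self]
    have had : a = d := sub_eq_zero.1 ((qm_eq_zero _ _ hab).resolve_right he)
    subst had
    rw [d9_upper] at hd
    exact ⟨rfl, rfl, rfl, root_four a hd⟩
  · obtain ⟨ha, -, hc, -⟩ := h
    obtain rfl := zero_of_neg_eq c hc
    have ha0 : a = 0 := zero_of_neg_eq a (by simpa [qm, Prod.mk_zero_zero] using ha)
    subst ha0
    rw [d9_upper] at hd
    exfalso
    revert hd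
    revert d
    decide +kernel

theorem check_diag : ∀ a b d : F9, qm a d = (1, 0) ∨ qm a d = (-1, 0) →
    ∃ k : Fin 4, IsXT (cmul ((a, b, 0, d), false) (fpow k)) := by decide +kernel

theorem check_norm : ∀ g : Cd, IsA g → ∀ b : F9,
    Pm (cmul g (xc (1, 0))) (cmul (xc b) g) → ∃ k : Fin 4, IsXT (cmul g (fpow k)) := by
  intro g hg e h
  rw [xc_left, xc_right g (1, 0) hg.1] at h
  obtain ⟨⟨a, b, c, d⟩, s⟩ := g
  obtain ⟨hs, hd⟩ := hg
  simp only at hs
  subst hs
  have hc : c = 0 := by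
    rcases h with h | h <;> simp only [cneg, Prod.mk.injEq, and_true, true_and] at h
    · obtain ⟨-, -, h⟩ := h
      have h' : qm c (1, 0) = c := by simp [qm]
      rw [h'] at h
      simpa using h.symm
    · exact zero_of_neg_eq c h.2.2.1
  subst hc
  rw [d9_upper] at hd
  exact check_diag a b d hd

theorem check_f : (∀ b : F9, ∃ b' : F9, cmul fc (xc b) = cmul (xc b') fc) ∧
    ∀ b : F9, cmul (cmul fc fc) (xc b) = cmul (xc (-b)) (cmul fc fc) := by decide +kernel

theorem check_invol' : ∀ a b c d : F9, ∀ s : Bool, IsLin ((a, b, c, d), s) → Pm one (cmul ((a, b, c, d), s) ((a, b, c, d), s)) →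
    Pm one ((a, b, c, d), s) ∨ Pm jc ((a, b, c, d), s) ∨ Wit ((a, b, c, d), s) ∨ Wit (cmul ((a, b, c, d), s) jc) := by decide +kernel

theorem check_invol : ∀ g : Cd, IsLin g → Pm one (cmul g g) →
    Pm one g ∨ Pm jc g ∨ Wit g ∨ Wit (cmul g jc) := fun ⟨⟨a, b, c, d⟩, s⟩ => check_invol' a b c d s

theorem check_out' : ∀ a b c d : F9, ∀ s : Bool, IsSylA ((a, b, c, d), s) → ¬ Pm jc (cmul ((a, b, c, d), s) ((a, b, c, d), s)) ∧
    ¬ (cmul ((a, b, c, d), s) ((a, b, c, d), s) = cneg one ∧ cmul (cmul ((a, b, c, d), s) jc) (cmul ((a, b, c, d), s) jc) = cneg one) := by decide +kernel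

theorem check_out : ∀ g : Cd, IsSylA g → ¬ Pm jc (cmul g g) ∧
    ¬ (cmul g g = cneg one ∧ cmul (cmul g jc) (cmul g jc) = cneg one) :=
  fun ⟨⟨a, b, c, d⟩, s⟩ => check_out' a b c d s

/-- The element outside the alternating part used by the second transfer. -/
def x0c : Cd := cmul (((1, 1), (0, 0), (0, 0), (1, 1)), false) (((1, 0), (0, 0), (0, 0), (1, 0)), true)

theorem check_x0 : IsSyl x0c ∧ Wit x0c ∧ Wit (cmul x0c jc) ∧ Pm one (cmul x0c x0c) ∧ ¬ Pm one x0c ∧
    ¬ Pm jc x0c ∧ ¬ Pm one (cmul x0c jc) ∧ ¬ Pm jc (cmul x0c jc) ∧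
    Pm one (cmul (cmul x0c jc) (cmul x0c jc)) ∧ Pm x0c (cmul (cmul x0c jc) jc) := by decide +kernel

theorem el_pm {g h : Cd} (hg : Ok g) (hh : Ok h) : el g = el h ↔ Pm g h := el_eq hg hh

theorem el_eq_one {g : Cd} (hg : Ok g) : el g = 1 ↔ Pm one g := by
  rw [← el_one, eq_comm]; exact el_pm (by decide) hg

theorem el_eq_jc {g : Cd} (hg : Ok g) : el g = tTwo ↔ Pm jc g := by
  rw [← el_jc, eq_comm]; exact el_pm (by decide) hg

theorem el_fpow (k : ℕ) : Ok (fpow k) ∧ el fc ^ k = el (fpow k) := by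
  induction k with
  | zero => exact ⟨by decide, by rw [pow_zero]; exact el_one.symm⟩
  | succ k ih =>
    have hF : Ok fc := by decide
    exact ⟨ih.1.mul hF, by rw [pow_succ, ih.2, el_mul ih.1 hF]; rfl⟩

theorem TA_eq : sub good_T ⊓ sub good_A = sub good_TA := by
  ext y
  constructor
  · rintro ⟨hyT, hyA⟩
    obtain ⟨g, hg, rfl⟩ := hyT
    exact (el_mem_sub good_TA hg.1).2 ⟨(el_mem_sub good_A hg.1).1 hyA, hg.2⟩
  · rintro ⟨g, hg, rfl⟩
    exact ⟨⟨g, ⟨hg.1.ok, hg.2⟩, rfl⟩, ⟨g, hg.1, rfl⟩⟩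

/-- The facts about the centralizer of `tTwo`. -/
theorem twoFacts : ∃ T M A φ f, TwoFacts T M A φ f := by
  set φc : Cd := (((1, 0), (0, 0), (0, 0), (1, 0)), true) with hφc
  set ζc : Cd := (((1, 1), (0, 0), (0, 0), (1, 1)), false) with hζc
  have hJ : Ok jc := by decide
  have hφ : IsSyl φc := by rw [hφc]; decide
  have hζ : IsSyl ζc := by rw [hζc]; decide
  have hCwL : CwL = sub good_C := by
    refine le_antisymm (fun y hy => ?_) (sub_le_CwL good_C)
    exact exists_code (Subgroup.mem_centralizer_singleton_iff.1 hy)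
  refine ⟨sub good_T, sub good_M, sub good_A, el φc, el fc, ?_⟩
  have hF : IsA fc := by decide
  constructor
  · refine orderOf_eq_prime ?_ fun h => ?_
    · rw [pow_two, ← el_jc, el_mul hJ hJ, el_eq_one (hJ.mul hJ)]; decide
    · rw [← el_jc, el_eq_one hJ] at h; revert h; decide
  · rw [hCwL, card_sub good_C, check_cent]
  · exact sub_le_CwL _
  · rw [card_sub good_T, check_T]
  · exact sub_le_CwL _
  · rw [card_sub good_A, check_A]
  · exact ⟨jc, by decide, el_jc⟩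
  · exact A_res
  · rw [lSub_eq]
    rintro _ ⟨g, hg, rfl⟩
    refine ⟨g, ?_, rfl⟩
    obtain ⟨⟨a, b, c, d⟩, s⟩ := g
    obtain ⟨hs, hc, had, ha⟩ := hg
    simp only at hs hc had ha
    subst hs hc had
    rcases ha with rfl | rfl <;> exact ⟨rfl, Or.inl (by simp [d9, qm])⟩
  · rw [lSub_eq, card_sub good_X, check_X]
  · intro e he he1 g hg hc
    rw [lSub_eq] at he
    obtain ⟨q, hq, rfl⟩ := he
    obtain ⟨k, hk, rfl⟩ := hg
    have hxb : ∃ b : F9, el q = el (xc b) := by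
      obtain ⟨⟨a, b, c, d⟩, s⟩ := q
      obtain ⟨hs, hcc, had, ha⟩ := hq
      simp only at hs hcc had ha
      subst hs hcc had
      rcases ha with rfl | rfl
      · exact ⟨b, rfl⟩
      · exact ⟨-b, el_eq_of (by simp [Ok, d9, qm, qn]) (isA_xc _).ok (Or.inr (by simp [xc, cneg]))⟩
    obtain ⟨b, hb⟩ := hxb
    have hb0 : b ≠ 0 := by rintro rfl; exact he1 (hb.trans el_one)
    rw [hb, el_mul hk.ok (isA_xc b).ok, el_mul (isA_xc b).ok hk.ok,
      el_pm (hk.ok.mul (isA_xc b).ok) ((isA_xc b).ok.mul hk.ok)] at hc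
    exact xt_mem (check_cent_X k hk b hb0 hc)
  · refine ⟨⟨_, hF, rfl⟩, ?_, ?_, ?_⟩
    · have h : el fc * el fc * (el fc * el fc) = 1 := by
        rw [el_mul hF.ok hF.ok, el_mul (hF.ok.mul hF.ok) (hF.ok.mul hF.ok),
          el_eq_one ((hF.ok.mul hF.ok).mul (hF.ok.mul hF.ok))]
        decide
      rw [h]; exact one_mem _
    · intro e he
      have key : ∀ b : F9, el fc * el (xc b) * (el fc)⁻¹ ∈ lSub := fun b => by
        obtain ⟨b', hb'⟩ := check_f.1 b
        rw [el_mul hF.ok (isA_xc b).ok, hb', ← el_mul (isA_xc b').ok hF.ok, mul_inv_cancel_right]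
        exact xc_mem b'
      induction he using Subgroup.closure_induction with
      | mem y hy =>
        rcases hy with rfl | rfl
        · rw [gen_one]; exact key _
        · rw [gen_i]; exact key _
      | one => rw [mul_one, mul_inv_cancel]; exact one_mem _
      | mul a b _ _ iha ihb => rw [← conj_mul]; exact mul_mem iha ihb
      | inv a _ iha => rw [← conj_inv]; exact inv_mem iha
    · intro e he
      have hF2 : Ok (cmul fc fc) := hF.ok.mul hF.ok
      have key : ∀ b : F9, el fc * el fc * el (xc b) * (el fc * el fc)⁻¹ = (el (xc b))⁻¹ := fun b => by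
        rw [el_mul hF.ok hF.ok, el_mul hF2 (isA_xc b).ok, check_f.2 b, ← el_mul (isA_xc _).ok hF2,
          mul_inv_cancel_right]
        refine (el_inv (isA_xc b).ok (isA_xc _).ok ?_).symm
        rw [show cmul (xc b) (xc (-b)) = one by simp [cmul, xc, one, qm, sc, sg, Prod.ext_iff]]
        exact el_one
      have hab : ∀ a ∈ lSub, ∀ b ∈ lSub, a * b = b * a := by
        rw [lSub_eq]
        rintro _ ⟨g, hg, rfl⟩ _ ⟨h, hh, rfl⟩
        rw [el_mul (good_X.ok hg) (good_X.ok hh), el_mul (good_X.ok hh) (good_X.ok hg)]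
        congr 1
        obtain ⟨⟨a, b, c, d⟩, s⟩ := g
        obtain ⟨⟨a', b', c', d'⟩, r⟩ := h
        obtain ⟨hs, hc, had, ha⟩ := hg
        obtain ⟨hs', hc', had', ha'⟩ := hh
        simp only at hs hc had ha hs' hc' had' ha'
        subst hs hc had hs' hc' had'
        rcases ha with rfl | rfl <;> rcases ha' with rfl | rfl <;> simp [cmul, qm, sc, sg, add_comm]
      induction he using Subgroup.closure_induction with
      | mem y hy =>
        rcases hy with rfl | rfl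
        · rw [gen_one]; exact key _
        · rw [gen_i]; exact key _
      | one => rw [mul_one, mul_inv_cancel, inv_one]
      | mul a b ha hb iha ihb =>
        rw [← conj_mul, iha, ihb, _root_.mul_inv_rev]
        exact hab _ (inv_mem ha) _ (inv_mem hb)
      | inv a _ iha => rw [← conj_inv, iha]
  · intro n hn hnl
    obtain ⟨g, hg, rfl⟩ := hn
    have h := hnl _ (xc_mem (1, 0))
    rw [lSub_eq] at h
    obtain ⟨q, hq, hq'⟩ := h
    obtain ⟨b, hb⟩ : ∃ b : F9, el q = el (xc b) := by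
      obtain ⟨⟨a, b, c, d⟩, s⟩ := q
      obtain ⟨hs, hcc, had, ha⟩ := hq
      simp only at hs hcc had ha
      subst hs hcc had
      rcases ha with rfl | rfl
      · exact ⟨b, rfl⟩
      · exact ⟨-b, el_eq_of (by simp [Ok, d9, qm, qn]) (isA_xc _).ok (Or.inr (by simp [xc, cneg]))⟩
    rw [hb, eq_mul_inv_iff_mul_eq, el_mul (isA_xc b).ok hg.ok, el_mul hg.ok (isA_xc _).ok, eq_comm,
      el_pm (hg.ok.mul (isA_xc _).ok) ((isA_xc b).ok.mul hg.ok)] at hq'
    obtain ⟨k, hk⟩ := check_norm g hg b hq'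
    refine ⟨k, k.2, ?_⟩
    rw [(el_fpow k).2, el_mul hg.ok (el_fpow k).1]
    exact xt_mem hk
  · refine ⟨⟨_, hφ, rfl⟩, ?_, ?_, phi_isT, ?_⟩
    · rw [el_mul hφ.1 hφ.1, el_eq_one (hφ.1.mul hφ.1), hφc]; decide
    · rw [Ne, el_eq_jc hφ.1, hφc]; decide
    · rw [← el_jc, el_mul hφ.1 hJ]; exact phi_jc_isT
  · refine ⟨fun y ⟨g, hg, e⟩ => ⟨g, hg.1, e⟩, ?_⟩
    rw [card_sub good_M, check_M]
  · rintro _ ⟨g, hg, rfl⟩ h
    rw [el_mul hg.1.1 hg.1.1, el_eq_one (hg.1.1.mul hg.1.1)] at h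
    rw [el_eq_one hg.1.1, el_eq_jc hg.1.1, ← el_jc, el_mul hg.1.1 hJ]
    rcases check_invol g hg h with h | h | h | h
    · exact Or.inl h
    · exact Or.inr (Or.inl h)
    · exact Or.inr (Or.inr (Or.inl (isTwo_of hg.1.1 h)))
    · exact Or.inr (Or.inr (Or.inr (isTwo_of (hg.1.1.mul hJ) h)))
  · intro U hUT hU hcard hφU
    by_cases hz : el ζc ∈ U
    · have hzz : el ζc * el ζc = tTwo := by
        rw [el_mul hζ.1 hζ.1, el_eq_jc (hζ.1.mul hζ.1), hζc]; decide
      exact ⟨_, hz, _, hz, Or.inl hzz, Or.inl hzz, hzz⟩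
    have hidx : (U.subgroupOf (sub good_T)).index = 2 := by
      have h1 := Subgroup.card_mul_index (U.subgroupOf (sub good_T))
      rw [Nat.card_congr (Subgroup.subgroupOfEquivOfLe hUT).toEquiv, hcard, card_sub good_T, check_T] at h1
      omega
    have hx : el x0c ∈ U := by
      have h2 : (⟨el ζc, ζc, hζ, rfl⟩ : sub good_T) * ⟨el φc, φc, hφ, rfl⟩ ∈ U.subgroupOf (sub good_T) := by
        rw [Subgroup.mul_mem_iff_of_index_two hidx]
        exact iff_of_false hz hφU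
      rw [Subgroup.mem_subgroupOf, Subgroup.coe_mul] at h2
      change el ζc * el φc ∈ U at h2
      rwa [el_mul hζ.1 hφ.1] at h2
    obtain ⟨hx0, hw, hwj, hsq, h1, h2, h3, h4, hsq', hback⟩ := check_x0
    have hxj : Ok (cmul x0c jc) := hx0.1.mul hJ
    have hy : el (cmul x0c jc) ∈ U := by
      rw [← el_mul hx0.1 hJ]
      refine mul_mem hx (hU ⟨⟨jc, by decide, rfl⟩, ⟨jc, by decide, rfl⟩⟩)
    refine ⟨_, hx, _, hy, Or.inr ⟨?_, ?_, ?_, isTwo_of hx0.1 hw, ?_⟩, Or.inr ⟨?_, ?_, ?_, isTwo_of hxj hwj, ?_⟩, ?_⟩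
    · rw [el_mul hx0.1 hx0.1, el_eq_one (hx0.1.mul hx0.1)]; exact hsq
    · rw [Ne, el_eq_one hx0.1]; exact h1
    · rw [Ne, el_eq_jc hx0.1]; exact h2
    · rw [← el_jc, el_mul hx0.1 hJ]; exact isTwo_of hxj hwj
    · rw [el_mul hxj hxj, el_eq_one (hxj.mul hxj)]; exact hsq'
    · rw [Ne, el_eq_one hxj]; exact h3
    · rw [Ne, el_eq_jc hxj]; exact h4
    · rw [← el_jc, el_mul hxj hJ, ← el_eq_of hx0.1 (hxj.mul hJ) hback]
      exact isTwo_of hx0.1 hw
    · rw [← el_mul hx0.1 hJ, ← mul_assoc, el_mul hx0.1 hx0.1, (el_eq_one (hx0.1.mul hx0.1)).2 hsq, one_mul, el_jc]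
  · rintro _ ⟨g, hg, rfl⟩ hA ho
    have hgA : IsSylA g := ⟨(el_mem_sub good_A hg.1).1 hA, hg.2⟩
    obtain ⟨hn1, hn2⟩ := check_out g hgA
    rcases ho with h | ⟨-, -, -, hw, hwj⟩
    · rw [el_mul hg.1 hg.1, el_eq_jc (hg.1.mul hg.1)] at h
      exact hn1 h
    · rw [← el_jc, el_mul hg.1 hJ] at hwj
      exact hn2 ⟨sq_of_isTwo hg.1 hw, sq_of_isTwo (hg.1.mul hJ) hwj⟩
  · rw [TA_eq, card_sub good_TA, check_TA]

end Cfsg.Agent.PSLFourThree.Two
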